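import Groth.Agent.Lib.Weight.FinitePart
import Mathlib.RingTheory.RamificationInertia.Basic
import Mathlib.RingTheory.LocalRing.Length
import Mathlib.AlgebraicGeometry.Morphisms.FlatRank
import Mathlib.AlgebraicGeometry.Morphisms.FormallyUnramified
import Mathlib.FieldTheory.PurelyInseparable.Tower
import Mathlib.RingTheory.Unramified.LocalStructure

/-! # The multiplicity weighting of a flat quasi-finite morphism -/

universe u

open CategoryTheory Limits AlgebraicGeometry IsLocalRing

namespace GrothLib.Weight

section Local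

variable {A A' B B' : Type u} [CommRing A] [CommRing A'] [CommRing B] [CommRing B']
  [IsLocalRing A] [IsLocalRing A'] [IsLocalRing B] [IsLocalRing B']

/-- The length of the closed fibre of a map of local rings. -/
noncomputable def fibreLength (φ : A →+* B) : ℕ :=
  (Module.length B (B ⧸ (maximalIdeal A).map φ)).toNat

omit [IsLocalRing B] in
theorem fibreLength_comp_left (ψ : A →+* A') (φ : A' →+* B)
    (h : (maximalIdeal A).map ψ = maximalIdeal A') : fibreLength (φ.comp ψ) = fibreLength φ := by
  rw [fibreLength, fibreLength, ← Ideal.map_map, h]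

theorem fibreLength_comp_right (φ : A →+* B) (χ : B →+* B') [IsLocalHom χ] (hf : χ.Flat)
    (h : (maximalIdeal B).map χ = maximalIdeal B') :
    fibreLength (χ.comp φ) = fibreLength φ := by
  letI := χ.toAlgebra
  haveI : IsLocalHom (algebraMap B B') := ‹IsLocalHom χ›
  haveI : Module.Flat B B' := RingHom.flat_algebraMap_iff.mp hf
  rw [fibreLength, fibreLength, ← Ideal.map_map]
  congr 1
  have e := (Algebra.TensorProduct.quotIdealMapEquivTensorQuot B'
    ((maximalIdeal A).map φ)).toLinearEquiv.length_eq
  refine e.trans ((IsLocalRing.length_baseChange B B' (B ⧸ (maximalIdeal A).map φ)).trans ?_)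
  have h1 : Module.length B' (B' ⧸ (maximalIdeal B).map (algebraMap B B')) = 1 := by
    rw [Module.length_eq_one_iff, isSimpleModule_iff_isCoatom, ← Ideal.isMaximal_def,
      show (maximalIdeal B).map (algebraMap B B') = maximalIdeal B' from h]
    exact maximalIdeal.isMaximal B'
  rw [h1, mul_one]

theorem map_maximalIdeal_of_bijective (e : A →+* B) (he : Function.Bijective e) :
    (maximalIdeal A).map e = maximalIdeal B := by
  haveI : ((maximalIdeal A).map e).IsMaximal :=
    Ideal.IsMaximal.map_bijective e he (maximalIdeal.isMaximal A)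
  exact eq_maximalIdeal this

/-- The degree of the closed fibre of a map of local rings. -/
noncomputable def fibreDegree (φ : A →+* B) [IsLocalHom φ] : ℕ :=
  fibreLength φ * (letI := (ResidueField.map φ).toAlgebra
    Module.finrank (ResidueField A) (ResidueField B))

theorem fibreDegree_conj (e : A →+* A') (he : Function.Bijective e) (e' : B →+* B')
    (he' : Function.Bijective e') (φ : A →+* B) [IsLocalHom φ] (φ' : A' →+* B') [IsLocalHom φ']
    (h : φ'.comp e = e'.comp φ) : fibreDegree φ = fibreDegree φ' := by
  haveI : IsLocalHom e := ⟨fun a ha ↦ by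
    obtain ⟨u, hu⟩ := ha.exists_right_inv
    obtain ⟨v, rfl⟩ := he.2 u
    exact IsUnit.of_mul_eq_one v (he.1 (by rw [map_mul, hu, map_one]))⟩
  haveI : IsLocalHom e' := ⟨fun a ha ↦ by
    obtain ⟨u, hu⟩ := ha.exists_right_inv
    obtain ⟨v, rfl⟩ := he'.2 u
    exact IsUnit.of_mul_eq_one v (he'.1 (by rw [map_mul, hu, map_one]))⟩
  have hl : fibreLength φ = fibreLength φ' := by
    rw [← fibreLength_comp_left e φ' (map_maximalIdeal_of_bijective e he), h,
      fibreLength_comp_right φ e' (.of_bijective he') (map_maximalIdeal_of_bijective e' he')]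
  have hb : ∀ {P Q : Type u} [CommRing P] [CommRing Q] [IsLocalRing P] [IsLocalRing Q]
      (g : P →+* Q) [IsLocalHom g], Function.Bijective g →
        Function.Bijective (ResidueField.map g) := by
    intro P Q _ _ _ _ g _ hg
    refine ⟨RingHom.injective _, fun y ↦ ?_⟩
    obtain ⟨y, rfl⟩ := residue_surjective y
    obtain ⟨x, rfl⟩ := hg.2 y
    exact ⟨residue _ x, rfl⟩
  unfold fibreDegree
  rw [hl]
  congr 1
  letI := (ResidueField.map φ).toAlgebra
  letI := (ResidueField.map φ').toAlgebra
  refine Algebra.finrank_eq_of_equiv_equiv (RingEquiv.ofBijective _ (hb e he))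
    (RingEquiv.ofBijective _ (hb e' he')) (RingHom.ext fun a ↦ ?_)
  obtain ⟨a, rfl⟩ := residue_surjective a
  exact congrArg (residue B') (RingHom.congr_fun h a)

end Local

variable {X Y : Scheme.{u}}

/-- The multiplicity of a morphism at a point. -/
noncomputable def mult (f : X ⟶ Y) (x : X) : ℤ :=
  (fibreLength (f.stalkMap x).hom : ℤ) *
    (letI := (f.residueFieldMap x).hom.toAlgebra
     (Field.finInsepDegree (Y.residueField (f x)) (X.residueField x) : ℤ))

theorem map_maximalIdeal_stalkMap (f : X ⟶ Y) [FormallyUnramified f] [LocallyOfFiniteType f]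
    (x : X) : (maximalIdeal (Y.presheaf.stalk (f x))).map (f.stalkMap x).hom =
      maximalIdeal (X.presheaf.stalk x) := by
  algebraize [(f.stalkMap x).hom]
  haveI : IsLocalHom (algebraMap (Y.presheaf.stalk (f x)) (X.presheaf.stalk x)) :=
    inferInstanceAs <| IsLocalHom (f.stalkMap x).hom
  haveI : Algebra.EssFiniteType (Y.presheaf.stalk (f x)) (X.presheaf.stalk x) := by
    rw [← RingHom.essFiniteType_algebraMap, RingHom.algebraMap_toAlgebra]
    exact LocallyOfFiniteType.stalkMap f x
  haveI : Algebra.FormallyUnramified (Y.presheaf.stalk (f x)) (X.presheaf.stalk x) := by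
    rw [← RingHom.formallyUnramified_algebraMap, RingHom.algebraMap_toAlgebra]
    exact FormallyUnramified.stalkMap f x
  exact Algebra.FormallyUnramified.map_maximalIdeal

theorem finInsepDegree_comp {Z : Scheme.{u}} (f : X ⟶ Y) (g : Y ⟶ Z) [LocallyQuasiFinite g]
    [LocallyOfFiniteType g] (x : X) :
    (letI := ((f ≫ g).residueFieldMap x).hom.toAlgebra
     Field.finInsepDegree (Z.residueField ((f ≫ g) x)) (X.residueField x)) =
      (letI := (g.residueFieldMap (f x)).hom.toAlgebra
       Field.finInsepDegree (Z.residueField (g (f x))) (Y.residueField (f x))) *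
      (letI := (f.residueFieldMap x).hom.toAlgebra
       Field.finInsepDegree (Y.residueField (f x)) (X.residueField x)) := by
  letI := (g.residueFieldMap (f x)).hom.toAlgebra
  letI := (f.residueFieldMap x).hom.toAlgebra
  letI : Algebra (Z.residueField (g (f x))) (X.residueField x) :=
    ((f ≫ g).residueFieldMap x).hom.toAlgebra
  haveI : IsScalarTower (Z.residueField (g (f x))) (Y.residueField (f x)) (X.residueField x) :=
    IsScalarTower.of_algebraMap_eq' (congrArg CommRingCat.Hom.hom (Scheme.residueFieldMap_comp f g x))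
  haveI : Module.Finite (Z.residueField (g (f x))) (Y.residueField (f x)) :=
    finite_residueFieldMap g (f x)
  exact (Field.finInsepDegree_mul_finInsepDegree_of_isAlgebraic (Z.residueField (g (f x)))
    (Y.residueField (f x)) (X.residueField x)).symm

theorem finInsepDegree_eq_one (f : X ⟶ Y) [FormallyUnramified f] [LocallyOfFiniteType f] (x : X) :
    (letI := (f.residueFieldMap x).hom.toAlgebra
     Field.finInsepDegree (Y.residueField (f x)) (X.residueField x)) = 1 := by
  letI := (f.residueFieldMap x).hom.toAlgebra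
  exact Algebra.IsSeparable.finInsepDegree_eq _ _

theorem locallyQuasiFinite_of_formallyUnramified (f : X ⟶ Y) [LocallyOfFiniteType f]
    [FormallyUnramified f] : LocallyQuasiFinite f := by
  rw [HasRingHomProperty.iff_appLE (P := @LocallyQuasiFinite)]
  intro U V e
  have h1 := HasRingHomProperty.appLE @LocallyOfFiniteType f inferInstance U V e
  have h2 := HasRingHomProperty.appLE @FormallyUnramified f inferInstance U V e
  algebraize [(f.appLE U V e).hom]
  exact RingHom.quasiFinite_algebraMap.2 inferInstance

/-- Multiplicities are unchanged by an etale map of the source. -/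
theorem mult_comp_right {X' : Scheme.{u}} (h : X' ⟶ X) [Etale h] (f : X ⟶ Y)
    [LocallyQuasiFinite f] [LocallyOfFiniteType f] (x : X') : mult (h ≫ f) x = mult f (h x) := by
  have h1 : fibreLength ((h ≫ f).stalkMap x).hom = fibreLength (f.stalkMap (h x)).hom := by
    haveI : IsLocalHom (h.stalkMap x).hom := inferInstance
    refine Eq.trans ?_ (fibreLength_comp_right (f.stalkMap (h x)).hom (h.stalkMap x).hom
      (Flat.stalkMap h x) (map_maximalIdeal_stalkMap h x))
    rw [Scheme.Hom.stalkMap_comp]
    rfl
  unfold mult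
  rw [finInsepDegree_comp, finInsepDegree_eq_one h, mul_one]
  exact congrArg (fun n : ℕ ↦ (n : ℤ) * _) h1

/-- Multiplicities are unchanged by an etale map of the target. -/
theorem mult_comp_left {Z : Scheme.{u}} (f : X ⟶ Y) (g : Y ⟶ Z) [Etale g]
    (x : X) : mult (f ≫ g) x = mult f x := by
  haveI := locallyQuasiFinite_of_formallyUnramified g
  have h1 : fibreLength ((f ≫ g).stalkMap x).hom = fibreLength (f.stalkMap x).hom := by
    refine Eq.trans ?_ (fibreLength_comp_left (g.stalkMap (f x)).hom (f.stalkMap x).hom
      (map_maximalIdeal_stalkMap g (f x)))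
    rw [Scheme.Hom.stalkMap_comp]
    rfl
  unfold mult
  rw [finInsepDegree_comp, finInsepDegree_eq_one g, one_mul]
  exact congrArg (fun n : ℕ ↦ (n : ℤ) * _) h1

theorem mult_mul_finSepDegree (f : X ⟶ Y) (x : X) :
    mult f x * (letI := (f.residueFieldMap x).hom.toAlgebra
       (Field.finSepDegree (Y.residueField (f x)) (X.residueField x) : ℤ)) =
      fibreDegree (f.stalkMap x).hom := by
  letI := (f.residueFieldMap x).hom.toAlgebra
  unfold mult fibreDegree
  rw [mul_assoc, mul_comm (Field.finInsepDegree _ _ : ℤ), ← Nat.cast_mul,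
    Field.finSepDegree_mul_finInsepDegree, ← Nat.cast_mul]
  rfl

theorem fibreDegree_conj_cat {A A' B B' : CommRingCat.{u}} [IsLocalRing A] [IsLocalRing A']
    [IsLocalRing B] [IsLocalRing B'] (a : A ≅ A') (b : B ≅ B') (s : A ⟶ B) (hs : IsLocalHom s.hom)
    (l : A' ⟶ B') (hl : IsLocalHom l.hom) (h : a.hom ≫ l ≫ b.inv = s) :
    haveI := hs; haveI := hl; fibreDegree s.hom = fibreDegree l.hom :=
  haveI := hs; haveI := hl
  fibreDegree_conj a.hom.hom (ConcreteCategory.bijective_of_isIso _) b.hom.hom
    (ConcreteCategory.bijective_of_isIso _) _ _ (congrArg CommRingCat.Hom.hom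
      (show a.hom ≫ l = s ≫ b.hom by rw [← h, Category.assoc, Category.assoc, b.inv_hom_id,
        Category.comp_id]))

theorem fibreDegree_stalkMap_specMap {R S : CommRingCat.{u}} (φ : R ⟶ S) (q : ↑(Spec S)) :
    fibreDegree ((Spec.map φ).stalkMap q).hom =
      fibreDegree (Localization.localRingHom (PrimeSpectrum.comap φ.hom q).asIdeal q.asIdeal
        φ.hom rfl) := by
  have hl : IsLocalHom (CommRingCat.ofHom (Localization.localRingHom
      (PrimeSpectrum.comap φ.hom q).asIdeal q.asIdeal φ.hom rfl)).hom :=
    (inferInstance : IsLocalHom (Localization.localRingHom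
      (PrimeSpectrum.comap φ.hom q).asIdeal q.asIdeal φ.hom rfl))
  have hs : IsLocalHom ((Spec.map φ).stalkMap q).hom := inferInstance
  exact fibreDegree_conj_cat (Spec.stalkIso R (PrimeSpectrum.comap φ.hom q)) (Spec.stalkIso S q) ((Spec.map φ).stalkMap q) hs
    (CommRingCat.ofHom (Localization.localRingHom
      (PrimeSpectrum.comap φ.hom q).asIdeal q.asIdeal φ.hom rfl)) hl
    (Scheme.localRingHom_comp_stalkIso φ q)

theorem fibreDegree_localRingHom {R S : Type u} [CommRing R] [CommRing S] [Algebra R S]
    (q : Ideal S) [q.IsPrime] :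
    fibreDegree (Localization.localRingHom (q.under R) q (algebraMap R S) rfl) =
      q.ramificationIdx R * q.inertiaDeg R := by
  letI := Localization.AtPrime.algebraOfLiesOver (q.under R) q
  rw [fibreDegree, Ideal.ramificationIdx_def, Ideal.inertiaDeg_def]
  unfold fibreLength
  rw [← IsLocalization.AtPrime.map_eq_maximalIdeal (q.under R)
    (Localization.AtPrime (q.under R)), Ideal.map_map,
    show (Localization.localRingHom (q.under R) q (algebraMap R S) rfl).comp
      (algebraMap R (Localization.AtPrime (q.under R))) = algebraMap R (Localization.AtPrime q) from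
      RingHom.ext fun a ↦ (Localization.localRingHom_to_map (q.under R) q (algebraMap R S) rfl a).trans
        (IsScalarTower.algebraMap_apply R S (Localization.AtPrime q) a).symm]
  congr 1
  have h : (ResidueField.map (Localization.localRingHom (q.under R) q (algebraMap R S) rfl)).toAlgebra
      = (inferInstance : Algebra (ResidueField (Localization.AtPrime (q.under R)))
          (ResidueField (Localization.AtPrime q))) :=
    Algebra.algebra_ext _ _ fun a ↦ by obtain ⟨a, rfl⟩ := residue_surjective a; rfl
  rw [h]

theorem fibreDegree_stalkMap_spec {R S : Type u} [CommRing R] [CommRing S] [Algebra R S]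
    (q : PrimeSpectrum S) :
    fibreDegree ((Spec.map (CommRingCat.ofHom (algebraMap R S))).stalkMap q).hom =
      q.asIdeal.ramificationIdx R * q.asIdeal.inertiaDeg R :=
  (fibreDegree_stalkMap_specMap (CommRingCat.ofHom (algebraMap R S)) q).trans
    (fibreDegree_localRingHom q.asIdeal)

theorem fibreIntegral_mult_spec {R S : Type u} [CommRing R] [CommRing S] [Algebra R S]
    [Module.Finite R S] [Module.Flat R S] (p : Spec (CommRingCat.of R)) :
    MoreMor.fibreIntegral (Spec.map (CommRingCat.ofHom (algebraMap R S)))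
        (mult (Spec.map (CommRingCat.ofHom (algebraMap R S)))) p =
      (Spec.map (CommRingCat.ofHom (algebraMap R S))).finrank p := by
  classical
  let p' : PrimeSpectrum R := p
  haveI : Finite (p'.asIdeal.primesOver S) :=
    (Algebra.QuasiFinite.finite_primesOver p'.asIdeal).to_subtype
  letI := Fintype.ofFinite (p'.asIdeal.primesOver S)
  let π := Spec.map (CommRingCat.ofHom (algebraMap R S))
  let e : {u : ↑(Spec (CommRingCat.of S)) // π u = p} ≃ p'.asIdeal.primesOver S :=
    { toFun := fun u ↦ ⟨(u.1 : PrimeSpectrum S).asIdeal, (u.1 : PrimeSpectrum S).2,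
        ⟨(congrArg PrimeSpectrum.asIdeal u.2).symm⟩⟩
      invFun := fun q ↦ ⟨(⟨q.1, q.2.1⟩ : PrimeSpectrum S), PrimeSpectrum.ext q.2.2.over.symm⟩
      left_inv := fun u ↦ rfl
      right_inv := fun q ↦ rfl }
  rw [Scheme.Hom.finrank_SpecMap_algebraMap, Module.rankAtStalk_eq,
    ← Ideal.sum_ramification_inertia_eq_finrank_fiber]
  unfold MoreMor.fibreIntegral
  rw [finsum_congr (fun u : {u : ↑(Spec (CommRingCat.of S)) // π u = p} ↦
    (mult_mul_finSepDegree π u.1).trans (congrArg Nat.cast (fibreDegree_stalkMap_spec u.1))),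
    ← finsum_comp_equiv e.symm, finsum_eq_sum_of_fintype, Nat.cast_sum]
  rfl

/-- The integral of the multiplicity of a finite flat morphism is its rank. -/
theorem fibreIntegral_mult {U V : Scheme.{u}} (π : U ⟶ V) [IsFinite π] [Flat π] (v : V) :
    MoreMor.fibreIntegral π (mult π) v = π.finrank v := by
  obtain ⟨R, g, hg, p, rfl⟩ := V.exists_Spec_apply_eq v
  haveI : IsAffine (pullback π g) := isAffine_of_isAffineHom (pullback.snd π g)
  let j := (pullback π g).isoSpec.inv ≫ pullback.fst π g
  let ρ := (pullback π g).isoSpec.inv ≫ pullback.snd π g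
  have hc : IsPullback j ρ π g :=
    (IsPullback.of_hasPullback π g).of_iso (pullback π g).isoSpec (Iso.refl _) (Iso.refl _)
      (Iso.refl _) (by simp [j]) (by simp [ρ]) (by simp) (by simp)
  haveI : IsFinite ρ := MorphismProperty.of_isPullback hc ‹IsFinite π›
  haveI : Flat ρ := MorphismProperty.of_isPullback hc ‹Flat π›
  have hw : mult π ∘ ⇑j = mult ρ := funext fun u ↦ by
    rw [Function.comp_apply, ← mult_comp_right j π u, hc.w, mult_comp_left ρ g u]
  rw [← fibreIntegral_isPullback hc, hw, ← Scheme.Hom.finrank_of_isPullback _ _ _ _ hc]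
  obtain ⟨φ, hφ⟩ := Spec.map_surjective ρ
  rw [← hφ]
  have hfin : φ.hom.Finite := by rw [← IsFinite.SpecMap_iff, hφ]; infer_instance
  have hfl : φ.hom.Flat := by rw [← Flat.SpecMap_iff, hφ]; infer_instance
  letI := φ.hom.toAlgebra
  haveI : Module.Finite R Γ(pullback π g, ⊤) := hfin
  haveI : Module.Flat R Γ(pullback π g, ⊤) := hfl
  exact fibreIntegral_mult_spec (R := R) (S := Γ(pullback π g, ⊤)) p

/-- The multiplicity of a flat quasi-finite morphism of finite presentation is a weighting. -/
theorem isWeighting_mult (f : X ⟶ Y) [LocallyQuasiFinite f] [Flat f]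
    [LocallyOfFinitePresentation f] : MoreMor.IsWeighting f (mult f) := by
  intro V g _ U hU
  haveI := hU
  have : (fun u ↦ mult f (pullback.fst f g (U.ι u))) = mult (U.ι ≫ pullback.snd f g) :=
    funext fun u ↦ by
      rw [← mult_comp_left (U.ι ≫ pullback.snd f g) g u, Category.assoc, ← pullback.condition,
        ← Category.assoc, mult_comp_right (U.ι ≫ pullback.fst f g) f u]
      rfl
  rw [this, funext (fibreIntegral_mult (U.ι ≫ pullback.snd f g))]
  exact (Scheme.Hom.isLocallyConstant_finrank _).comp (fun n : ℕ ↦ (n : ℤ))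

open TensorProduct in
theorem fibreLength_pos {A B : Type u} [CommRing A] [CommRing B] [IsLocalRing A] [IsLocalRing B]
    (φ : A →+* B) [IsLocalHom φ] (hφ : φ.QuasiFinite) : 0 < fibreLength φ := by
  algebraize [φ]
  haveI : IsLocalHom (algebraMap A B) := ‹IsLocalHom φ›
  let m := maximalIdeal A
  haveI : Module.Finite m.ResidueField (m.Fiber B) := Algebra.QuasiFinite.finite_fiber m
  have hsurj : Function.Surjective (algebraMap A m.ResidueField) := by
    rw [IsScalarTower.algebraMap_eq A (A ⧸ m) m.ResidueField]
    exact m.bijective_algebraMap_quotient_residueField.2.comp Ideal.Quotient.mk_surjective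
  haveI : IsArtinian m.ResidueField (m.Fiber B) := inferInstance
  haveI : IsFiniteLength A (m.Fiber B) := by
    rw [← Module.length_ne_top_iff, Module.length_eq_of_surjective hsurj, Module.length_ne_top_iff,
      isFiniteLength_iff_isNoetherian_isArtinian]
    exact ⟨inferInstance, inferInstance⟩
  let c : (A ⧸ m) ≃ₗ[A] m.ResidueField := (AlgEquiv.ofBijective
    (IsScalarTower.toAlgHom A (A ⧸ m) m.ResidueField)
    m.bijective_algebraMap_quotient_residueField).toLinearEquiv
  let e : (B ⧸ m.map φ) ≃ₗ[A] m.Fiber B :=
    ((Algebra.TensorProduct.quotIdealMapEquivTensorQuot B m).toLinearEquiv.restrictScalars A).trans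
      ((TensorProduct.comm A B (A ⧸ m)).trans (TensorProduct.congr c (LinearEquiv.refl A B)))
  have hA : Module.length A (B ⧸ m.map φ) ≠ ⊤ := by
    rw [e.length_eq]; exact Module.length_ne_top_iff.mpr ‹_›
  rw [IsLocalRing.length_restrictScalars A B] at hA
  refine ENat.toNat_pos ?_ (fun h ↦ hA ?_)
  · rw [← pos_iff_ne_zero, Module.length_pos_iff, Submodule.Quotient.nontrivial_iff]
    exact (map_maximalIdeal_lt_top φ).ne
  · rw [show Module.length B (B ⧸ m.map φ) = ⊤ from h, ENat.top_mul]
    exact Module.length_pos.ne'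

theorem mult_pos (f : X ⟶ Y) [LocallyQuasiFinite f] [LocallyOfFiniteType f] (x : X) :
    0 < mult f x := by
  refine mul_pos (Int.natCast_pos.mpr (fibreLength_pos _ (f.quasiFiniteAt x))) ?_
  letI := (f.residueFieldMap x).hom.toAlgebra
  haveI : Module.Finite (Y.residueField (f x)) (X.residueField x) := finite_residueFieldMap f x
  exact Int.natCast_pos.mpr (Nat.pos_of_ne_zero (NeZero.ne _))

end GrothLib.Weight
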