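import Groth.Prelude.Def_MoreMor
import Mathlib.AlgebraicGeometry.Morphisms.QuasiFinite
import Mathlib.Algebra.BigOperators.Finprod
import Mathlib.FieldTheory.IsAlgClosed.AlgebraicClosure

/-! # Fibre integrals as sums over geometric points -/

universe u

open CategoryTheory Limits AlgebraicGeometry

namespace GrothLib.Weight

theorem finite_residueFieldMap {X Y : Scheme.{u}} (f : X ⟶ Y) [LocallyQuasiFinite f]
    [LocallyOfFiniteType f] (x : X) : (f.residueFieldMap x).hom.Finite := by
  haveI : DiscreteTopology (f ⁻¹' {f x}) :=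
    isDiscrete_iff_discreteTopology.mp (f.isDiscrete_preimage_singleton (f x))
  haveI : DiscreteTopology (f.fiber (f x)) :=
    (f.fiberHomeo (f x)).symm.discreteTopology
  haveI : IsClosedImmersion (f.asFiberHom x) := .of_isPreimmersion _ (isClosed_discrete _)
  haveI : LocallyOfFiniteType (f.fiberToSpecResidueField (f x)) :=
    MorphismProperty.pullback_snd _ _ inferInstance
  haveI : LocallyQuasiFinite (f.fiberToSpecResidueField (f x)) :=
    MorphismProperty.pullback_snd _ _ inferInstance
  have : IsFinite (f.asFiberHom x ≫ f.fiberToSpecResidueField (f x)) := by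
    haveI : QuasiCompact (f.asFiberHom x ≫ f.fiberToSpecResidueField (f x)) :=
      (quasiCompact_iff_compactSpace _).mpr inferInstance
    exact IsFinite.of_locallyQuasiFinite _
  rwa [f.asFiberHom_fiberToSpecResidueField, IsFinite.SpecMap_iff] at this

/-- The lifts to `U` of an `Ω`-point of `V`. -/
abbrev GeomPts {U V : Scheme.{u}} {Ω : Type u} [Field Ω] (π : U ⟶ V)
    (p : Spec (CommRingCat.of Ω) ⟶ V) : Type u :=
  {q : Spec (CommRingCat.of Ω) ⟶ U // q ≫ π = p}

/-- The point of a scheme underlying an `Ω`-point. -/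
noncomputable abbrev pt {X : Scheme.{u}} {Ω : Type u} [Field Ω]
    (p : Spec (CommRingCat.of Ω) ⟶ X) : X :=
  p (IsLocalRing.closedPoint Ω)

theorem pt_geomPts {U V : Scheme.{u}} {Ω : Type u} [Field Ω] {π : U ⟶ V}
    {p : Spec (CommRingCat.of Ω) ⟶ V} (q : GeomPts π p) : π (pt q.1) = pt p := by
  obtain ⟨q, rfl⟩ := q; rfl

theorem pt_comp {X Y : Scheme.{u}} {Ω : Type u} [Field Ω] (p : Spec (CommRingCat.of Ω) ⟶ X)
    (g : X ⟶ Y) : pt (p ≫ g) = g (pt p) := rfl

theorem pt_mk {X : Scheme.{u}} {Ω : Type u} [Field Ω] (x : X)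
    (ψ : X.residueField x ⟶ CommRingCat.of Ω) :
    pt (Spec.map ψ ≫ X.fromSpecResidueField x) = x :=
  X.fromSpecResidueField_apply x _

theorem exists_pt {X : Scheme.{u}} (x : X) :
    ∃ (Ω : Type u) (_ : Field Ω) (_ : IsAlgClosed Ω) (p : Spec (CommRingCat.of Ω) ⟶ X), pt p = x :=
  ⟨AlgebraicClosure (X.residueField x), inferInstance, inferInstance,
    Spec.map (CommRingCat.ofHom (algebraMap (X.residueField x)
      (AlgebraicClosure (X.residueField x)))) ≫ X.fromSpecResidueField x, pt_mk x _⟩

variable {U V : Scheme.{u}} (π : U ⟶ V) {Ω : Type u} [Field Ω]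
  (p : Spec (CommRingCat.of Ω) ⟶ V)

/-- The number of geometric points over a given point is the separable degree. -/
theorem card_geomPts_over [LocallyQuasiFinite π] [LocallyOfFiniteType π] [IsAlgClosed Ω]
    (u : U) (hu : π u = pt p) :
    Finite {q : GeomPts π p // pt q.1 = u} ∧ Nat.card {q : GeomPts π p // pt q.1 = u} =
      (letI := (π.residueFieldMap u).hom.toAlgebra
       Field.finSepDegree (V.residueField (π u)) (U.residueField u)) := by
  obtain ⟨⟨x, φ₀⟩, rfl⟩ := (V.SpecToEquivOfField Ω).symm.surjective p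
  rw [Scheme.SpecToEquivOfField_symm_apply] at hu ⊢
  obtain rfl : x = π u := (pt_mk x φ₀).symm.trans hu.symm
  algebraize [(π.residueFieldMap u).hom]
  letI : Algebra (V.residueField (π u)) Ω := φ₀.hom.toAlgebra
  haveI : Module.Finite (V.residueField (π u)) (U.residueField u) := finite_residueFieldMap π u
  have key : ∀ ψ : U.residueField u ⟶ CommRingCat.of Ω,
      (Spec.map ψ ≫ U.fromSpecResidueField u) ≫ π = Spec.map φ₀ ≫ V.fromSpecResidueField (π u) ↔
        π.residueFieldMap u ≫ ψ = φ₀ := fun ψ ↦ by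
    rw [Category.assoc, ← π.SpecMap_residueFieldMap_fromSpecResidueField, ← Spec.map_comp_assoc,
      cancel_mono]
    exact ⟨fun h ↦ Spec.map_inj.mp h, fun h ↦ by rw [h]⟩
  let F : (U.residueField u →ₐ[V.residueField (π u)] Ω) →
      {q : GeomPts π (Spec.map φ₀ ≫ V.fromSpecResidueField (π u)) // pt q.1 = u} := fun σ ↦
    ⟨⟨Spec.map (CommRingCat.ofHom σ.toRingHom) ≫ U.fromSpecResidueField u,
      (key _).mpr (CommRingCat.hom_ext (RingHom.ext σ.commutes))⟩,
      pt_mk u _⟩
  have hF : Function.Bijective F := by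
    constructor
    · intro σ τ h
      have h' := congrArg (fun q ↦ q.1.1) h
      simp only [F, cancel_mono] at h'
      exact AlgHom.coe_ringHom_injective (CommRingCat.hom_ext_iff.mp (Spec.map_injective h'))
    · rintro ⟨⟨q, hq⟩, hqu⟩
      obtain ⟨⟨y, ψ⟩, rfl⟩ := (U.SpecToEquivOfField Ω).symm.surjective q
      obtain rfl : y = u := (pt_mk y ψ).symm.trans hqu
      have hψ := (key ψ).mp hq
      exact ⟨⟨ψ.hom, fun a ↦ congrArg (fun χ ↦ χ.hom a) hψ⟩, rfl⟩
  refine ⟨Finite.of_surjective F hF.2, ?_⟩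
  rw [← Nat.card_congr (Equiv.ofBijective F hF)]
  exact (Field.finSepDegree_eq_of_isAlgClosed _ _ _).symm

/-- Over a finite fibre there are finitely many geometric points. -/
theorem finite_geomPts [LocallyQuasiFinite π] [LocallyOfFiniteType π] [IsAlgClosed Ω]
    (h : (π ⁻¹' {pt p}).Finite) : Finite (GeomPts π p) := by
  haveI := h.to_subtype
  let b : GeomPts π p → π ⁻¹' {pt p} := fun q ↦ ⟨pt q.1, pt_geomPts q⟩
  have : ∀ u : π ⁻¹' {pt p}, Finite {q : GeomPts π p // b q = u} := fun u ↦ by
    haveI := (card_geomPts_over π p u.1 u.2).1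
    exact Finite.of_injective (β := {q : GeomPts π p // pt q.1 = u.1})
      (fun q ↦ ⟨q.1, congrArg Subtype.val q.2⟩)
      (fun a b hab ↦ Subtype.ext (congrArg (fun z : {q : GeomPts π p // pt q.1 = u.1} ↦ z.1) hab))
  exact Finite.of_equiv _ (Equiv.sigmaFiberEquiv b)

/-- **Fibre integrals are sums over geometric points.** -/
theorem fibreIntegral_eq [LocallyQuasiFinite π] [LocallyOfFiniteType π] [IsAlgClosed Ω]
    (w : U → ℤ) :
    MoreMor.fibreIntegral π w (pt p) = ∑ᶠ q : GeomPts π p, w (pt q.1) := by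
  classical
  let b : GeomPts π p → {u : U // π u = pt p} := fun q ↦ ⟨pt q.1, pt_geomPts q⟩
  let d : {u : U // π u = pt p} → ℕ := fun u ↦
    letI := (π.residueFieldMap u.1).hom.toAlgebra
    Field.finSepDegree (V.residueField (π u.1)) (U.residueField u.1)
  have hd : ∀ u, Finite {q : GeomPts π p // b q = u} ∧
      Nat.card {q : GeomPts π p // b q = u} = d u := fun u ↦ by
    have h := card_geomPts_over π p u.1 u.2
    let e : {q : GeomPts π p // b q = u} ≃ {q : GeomPts π p // pt q.1 = u.1} :=
      Equiv.subtypeEquivRight fun q ↦ Subtype.ext_iff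
    haveI := h.1
    exact ⟨Finite.of_equiv _ e.symm, (Nat.card_congr e).trans h.2⟩
  have hd0 : ∀ u, d u ≠ 0 := fun u ↦ by
    have h := card_geomPts_over π p u.1 u.2
    letI := (π.residueFieldMap u.1).hom.toAlgebra
    haveI : Module.Finite (V.residueField (π u.1)) (U.residueField u.1) :=
      finite_residueFieldMap π u.1
    exact NeZero.ne _
  show ∑ᶠ u : {u : U // π u = pt p}, w u.1 * (d u : ℤ) = ∑ᶠ q : GeomPts π p, w (b q).1
  by_cases hfin : (Function.support fun u : {u : U // π u = pt p} ↦ w u.1).Finite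
  · let s := hfin.toFinset
    have hs' : (b ⁻¹' (s : Set _)).Finite := by
      refine Set.Finite.preimage' s.finite_toSet fun u _ ↦ ?_
      exact Set.finite_coe_iff.mp (show Finite {q : GeomPts π p // b q = u} from (hd u).1)
    rw [finsum_eq_sum_of_support_subset _ (s := s) (fun u hu ↦ by
        simp only [s, Set.Finite.coe_toFinset, Function.mem_support] at hu ⊢
        exact left_ne_zero_of_mul hu),
      finsum_eq_sum_of_support_subset _ (s := hs'.toFinset) (fun q hq ↦ by
        simp only [Set.Finite.coe_toFinset, Set.mem_preimage, s]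
        exact hq)]
    rw [← Finset.sum_fiberwise_of_maps_to (g := b) (t := s) (fun q hq ↦ by simpa using hq)]
    refine Finset.sum_congr rfl fun u hu ↦ ?_
    rw [Finset.sum_congr rfl (g := fun _ ↦ w u.1) (fun q hq ↦ by
      rw [(Finset.mem_filter.mp hq).2]), Finset.sum_const, nsmul_eq_mul, mul_comm]
    congr 2
    rw [← (hd u).2, ← Nat.card_eq_finsetCard]
    refine (Nat.card_congr (Equiv.subtypeEquivRight fun q ↦ ?_)).symm
    simp only [Finset.mem_filter, Set.Finite.mem_toFinset, Set.mem_preimage, Finset.mem_coe]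
    exact ⟨fun h ↦ h.2, fun h ↦ ⟨h ▸ hu, h⟩⟩
  · rw [finsum_of_infinite_support, finsum_of_infinite_support]
    · intro hf
      refine hfin ((hf.image b).subset fun u hu ↦ ?_)
      obtain ⟨q, hq⟩ : Nonempty {q : GeomPts π p // b q = u} :=
        (Nat.card_ne_zero.mp ((hd u).2 ▸ hd0 u)).1
      exact ⟨q, by simpa [hq] using hu, hq⟩
    · convert hfin using 2
      ext u
      simp [Function.mem_support, hd0 u]

end GrothLib.Weight
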