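import Groth.Agent.Lib.Weight.GeomPoints
import Mathlib.RingTheory.Etale.StandardEtale
import Mathlib.FieldTheory.PrimitiveElement
import Mathlib.FieldTheory.SeparableClosure
import Mathlib.RingTheory.Polynomial.ScaleRoots
import Mathlib.AlgebraicGeometry.Morphisms.Etale

/-! # Etale neighbourhoods realising prescribed separable residue extensions -/

universe u

open CategoryTheory Limits AlgebraicGeometry Polynomial

namespace GrothLib.Weight

/-- Ring-theoretic core: an etale algebra with a map to `Ω` whose field image contains given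
separable elements. -/
theorem exists_etale_algebra {A k Ω : Type u} [CommRing A] [Field k] [Algebra A k] [Field Ω]
    [Algebra k Ω] [Algebra A Ω] [IsScalarTower A k Ω]
    (hfrac : ∀ c : k, ∃ a b : A, algebraMap A k b ≠ 0 ∧ c * algebraMap A k b = algebraMap A k a)
    (E : Set Ω) (hE : E.Finite) (hsep : ∀ a ∈ E, IsSeparable k a) :
    ∃ (R : Type u) (_ : CommRing R) (_ : Algebra A R) (_ : Algebra.Etale A R) (ρ : R →ₐ[A] Ω),
      ∀ F : Subfield Ω, Set.range ρ ⊆ F → Set.range (algebraMap k Ω) ⊆ F → E ⊆ F := by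
  haveI : Finite E := hE
  let L := IntermediateField.adjoin k E
  haveI : FiniteDimensional k L :=
    IntermediateField.finiteDimensional_adjoin fun a ha ↦ (hsep a ha).isIntegral
  haveI : Algebra.IsSeparable k L := (IntermediateField.isSeparable_adjoin_iff_isSeparable k Ω).mpr hsep
  obtain ⟨θ, hθ⟩ := Field.exists_primitive_element k L
  have hθs : IsSeparable k (θ : Ω) :=
    (Algebra.IsSeparable.isSeparable k θ).map L.val Subtype.val_injective
  set P := minpoly k (θ : Ω) with hP
  have hPm : P.Monic := minpoly.monic hθs.isIntegral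
  choose a b hb hab using hfrac
  let B : A := ∏ i ∈ Finset.range P.natDegree, b (P.coeff i)
  have hB : algebraMap A k B ≠ 0 := by
    rw [map_prod]; exact Finset.prod_ne_zero_iff.mpr fun i _ ↦ hb _
  set β := algebraMap A k B
  have hlift : P.scaleRoots β ∈ Polynomial.lifts (algebraMap A k) := by
    rw [Polynomial.lifts_iff_coeff_lifts]
    intro i
    rw [coeff_scaleRoots]
    rcases lt_trichotomy i P.natDegree with hi | hi | hi
    · obtain ⟨c, hc⟩ : b (P.coeff i) ∣ B ^ (P.natDegree - i) :=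
        (Finset.dvd_prod_of_mem _ (Finset.mem_range.mpr hi)).trans
          (dvd_pow_self _ (Nat.sub_ne_zero_of_lt hi))
      refine ⟨a (P.coeff i) * c, ?_⟩
      rw [map_mul, ← hab, mul_assoc, ← map_mul, ← hc, map_pow]
    · exact ⟨1, by rw [map_one, hi, hPm.coeff_natDegree, Nat.sub_self, pow_zero, mul_one]⟩
    · exact ⟨0, by rw [map_zero, coeff_eq_zero_of_natDegree_lt hi, zero_mul]⟩
  obtain ⟨f, hf, -, hfm⟩ := Polynomial.lifts_and_degree_eq_and_monic hlift
    ((monic_scaleRoots_iff β).mpr hPm)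
  let θ' : Ω := algebraMap k Ω β * θ
  let SP : StandardEtalePair A := ⟨f, hfm, derivative f, ⟨1, 0, 1, by simp⟩⟩
  have h0 : (P.scaleRoots β).aeval θ' = 0 := scaleRoots_aeval_eq_zero (minpoly.aeval _ _)
  have hsepβ : aeval θ' (derivative (P.scaleRoots β)) ≠ 0 := by
    have hid : P.scaleRoots β = C (β ^ P.natDegree) * P.comp (C β⁻¹ * X) := by
      ext i
      rw [coeff_scaleRoots, coeff_C_mul, comp_C_mul_X_coeff]
      rcases le_or_gt i P.natDegree with hi | hi
      · obtain ⟨j, hj⟩ : ∃ j, P.natDegree = i + j := ⟨_, (Nat.add_sub_cancel' hi).symm⟩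
        rw [hj, Nat.add_sub_cancel_left, inv_pow, pow_add]
        field_simp
      · simp [coeff_eq_zero_of_natDegree_lt hi]
    have hc : algebraMap k Ω β⁻¹ * θ' = θ := by
      simp only [θ', ← mul_assoc, ← map_mul, inv_mul_cancel₀ hB, map_one, one_mul]
    have hd := Polynomial.Separable.aeval_derivative_ne_zero hθs (minpoly.aeval k (θ : Ω))
    simp only [hid, derivative_C_mul, derivative_comp, derivative_mul, derivative_C, derivative_X,
      zero_mul, zero_add, mul_one, map_mul, aeval_C, aeval_comp, aeval_X, hc]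
    refine mul_ne_zero ((_root_.map_ne_zero _).mpr (pow_ne_zero _ hB)) (mul_ne_zero ?_ hd)
    exact (_root_.map_ne_zero _).mpr (inv_ne_zero hB)
  have hmap : SP.HasMap θ' := by
    refine ⟨?_, ?_⟩
    · show aeval θ' f = 0
      rw [← aeval_map_algebraMap k, hf, h0]
    · show IsUnit (aeval θ' (derivative f))
      rw [← aeval_map_algebraMap k, ← derivative_map, hf, isUnit_iff_ne_zero]
      exact hsepβ
  refine ⟨SP.Ring, inferInstance, inferInstance, inferInstance, SP.lift θ' hmap, ?_⟩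
  intro F hρ hk
  have hθ'F : θ' ∈ F := hρ ⟨SP.X, SP.lift_X θ' hmap⟩
  have hβ0 : algebraMap k Ω β ≠ 0 := by simpa using hB
  have hθF : (θ : Ω) ∈ F := by
    have : (θ : Ω) = θ' * (algebraMap k Ω β)⁻¹ := by
      simp only [θ']; field_simp
    rw [this]
    exact F.mul_mem hθ'F (F.inv_mem (hk ⟨β, rfl⟩))
  intro e he
  let F' : IntermediateField k Ω := F.toIntermediateField fun c ↦ hk ⟨c, rfl⟩
  have hLF : L ≤ F' := by
    intro x hx
    have : (⟨x, hx⟩ : L) ∈ IntermediateField.adjoin k {θ} := hθ ▸ IntermediateField.mem_top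
    have h2 : x ∈ (IntermediateField.adjoin k {θ}).map L.val := ⟨⟨x, hx⟩, this, rfl⟩
    rw [IntermediateField.adjoin_map, Set.image_singleton] at h2
    exact IntermediateField.adjoin_le_iff.mpr (Set.singleton_subset_iff.mpr hθF) h2
  exact hLF (IntermediateField.subset_adjoin k E he)

/-- The image in `Ω` of a ring map from `Γ(U)` lands in the residue field of the point. -/
theorem range_subset_residueField {R : CommRingCat.{u}} {Ω : Type u} [Field Ω]
    (ρ : R ⟶ CommRingCat.of Ω) (u : Spec R) (ψ : (Spec R).residueField u ⟶ CommRingCat.of Ω)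
    (h : Spec.map ψ ≫ (Spec R).fromSpecResidueField u = Spec.map ρ) :
    Set.range ρ.hom ⊆ Set.range ψ.hom := by
  rw [← Scheme.Spec.map_residueFieldIso_inv_eq_fromSpecResidueField, ← Spec.map_comp,
    ← Spec.map_comp] at h
  have := Spec.map_inj.mp h
  rintro _ ⟨r, rfl⟩
  rw [← this]
  exact ⟨_, rfl⟩

/-- An etale neighbourhood with an `Ω`-point over a given one whose residue field contains given
separable elements. -/
theorem exists_etale_nbhd {Y : Scheme.{u}} {Ω : Type u} [Field Ω] (y : Y)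
    (φ : Y.residueField y ⟶ CommRingCat.of Ω) (E : Set Ω) (hE : E.Finite)
    (hsep : letI := φ.hom.toAlgebra; ∀ a ∈ E, IsSeparable (Y.residueField y) a) :
    ∃ (U : Scheme.{u}) (g : U ⟶ Y) (_ : Etale g) (u : U)
      (ψ : U.residueField u ⟶ CommRingCat.of Ω),
      (Spec.map ψ ≫ U.fromSpecResidueField u) ≫ g = Spec.map φ ≫ Y.fromSpecResidueField y ∧
      E ⊆ Set.range ψ.hom := by
  obtain ⟨_, ⟨V, hV, rfl⟩, hyV, -⟩ :=
    Y.isBasis_affineOpens.exists_subset_of_mem_open (Set.mem_univ y) isOpen_univ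
  let χ : Γ(Y, V) ⟶ Y.residueField y := Y.presheaf.germ V y hyV ≫ Y.residue y
  letI : Algebra Γ(Y, V) (Y.residueField y) := χ.hom.toAlgebra
  letI : Algebra (Y.residueField y) Ω := φ.hom.toAlgebra
  letI : Algebra Γ(Y, V) Ω := (χ ≫ φ).hom.toAlgebra
  haveI : IsScalarTower Γ(Y, V) (Y.residueField y) Ω := IsScalarTower.of_algebraMap_eq fun _ ↦ rfl
  have hfrac : ∀ c : Y.residueField y, ∃ a b : Γ(Y, V),
      algebraMap Γ(Y, V) (Y.residueField y) b ≠ 0 ∧
      c * algebraMap Γ(Y, V) (Y.residueField y) b = algebraMap Γ(Y, V) (Y.residueField y) a := by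
    intro c
    obtain ⟨s, rfl⟩ := Y.residue_surjective y c
    letI := TopCat.Presheaf.algebra_section_stalk Y.presheaf ⟨y, hyV⟩
    haveI : IsLocalization.AtPrime (Y.presheaf.stalk y) (hV.primeIdealOf ⟨y, hyV⟩).asIdeal :=
      hV.isLocalization_stalk ⟨y, hyV⟩
    obtain ⟨⟨a, b⟩, hab⟩ := IsLocalization.surj (hV.primeIdealOf ⟨y, hyV⟩).asIdeal.primeCompl s
    refine ⟨a, b, ?_, ?_⟩
    · exact ((IsLocalization.map_units (Y.presheaf.stalk y) b).map (Y.residue y).hom).ne_zero
    · exact (map_mul (Y.residue y).hom _ _).symm.trans (congrArg (Y.residue y).hom hab)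
  obtain ⟨R, _, _, _, ρ, hρ⟩ := exists_etale_algebra hfrac E hE hsep
  let q := Spec.map (CommRingCat.ofHom (algebraMap Γ(Y, V) R))
  haveI : Etale q := (HasRingHomProperty.Spec_iff (P := @Etale)).mpr
    (RingHom.etale_algebraMap.mpr inferInstance)
  let p : Spec (CommRingCat.of Ω) ⟶ Spec (CommRingCat.of R) :=
    Spec.map (CommRingCat.ofHom ρ.toRingHom)
  obtain ⟨⟨u, ψ⟩, hψ⟩ := ((Spec (CommRingCat.of R)).SpecToEquivOfField Ω).symm.surjective p
  rw [Scheme.SpecToEquivOfField_symm_apply] at hψ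
  have hp0 : p ≫ q ≫ hV.fromSpec = Spec.map φ ≫ Y.fromSpecResidueField y := by
    rw [← Category.assoc, ← Spec.map_comp, show CommRingCat.ofHom (algebraMap Γ(Y, V) R) ≫
      CommRingCat.ofHom ρ.toRingHom = χ ≫ φ from CommRingCat.hom_ext (RingHom.ext ρ.commutes),
      Spec.map_comp, Category.assoc, Spec.map_comp, Category.assoc]
    congr 1
    rw [Scheme.fromSpecResidueField, ← hV.fromSpecStalk_eq_fromSpecStalk hyV]
    rfl
  haveI : Etale (q ≫ hV.fromSpec) := inferInstance
  refine ⟨_, q ≫ hV.fromSpec, inferInstance, u, ψ, by rw [hψ]; exact hp0, ?_⟩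
  have h1 : Set.range ρ ⊆ Set.range ψ.hom := range_subset_residueField _ u ψ hψ
  refine fun e he ↦ hρ ψ.hom.fieldRange (fun x hx ↦ h1 hx) ?_ he
  rintro _ ⟨c, rfl⟩
  obtain ⟨a, b, hb, hab⟩ := hfrac c
  have mem : ∀ z : Γ(Y, V), algebraMap Γ(Y, V) Ω z ∈ ψ.hom.fieldRange := fun z ↦
    h1 ⟨algebraMap Γ(Y, V) R z, ρ.commutes z⟩
  have hc : algebraMap (Y.residueField y) Ω c =
      algebraMap Γ(Y, V) Ω a * (algebraMap Γ(Y, V) Ω b)⁻¹ := by
    rw [IsScalarTower.algebraMap_apply Γ(Y, V) (Y.residueField y) Ω a, ← hab,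
      IsScalarTower.algebraMap_apply Γ(Y, V) (Y.residueField y) Ω b, map_mul, mul_assoc,
      mul_inv_cancel₀ (by simpa using hb), mul_one]
  rw [hc]
  exact mul_mem (mem a) (inv_mem (mem b))

end GrothLib.Weight
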