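import Groth.Agent.Lib.Weight.AffinePieces

/-! # Constructibility of fibre integrals -/

universe u

open CategoryTheory Limits AlgebraicGeometry Topology

namespace GrothLib.Weight

open MoreMor

variable {X Y : Scheme.{u}} {f : X ⟶ Y}

/-- A point outside the image of a closed subset of a quasi-compact scheme over an affine base has a
constructible neighbourhood outside the image. -/
theorem exists_constructible_avoid_closed {W : Scheme.{u}} [CompactSpace W] {R : CommRingCat.{u}}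
    (π : W ⟶ Spec R) (Z : Set W) (hZ : IsClosed Z) (v : Spec R) (h : ∀ x ∈ Z, π x ≠ v) :
    ∃ E : Set (Spec R), IsConstructible E ∧ v ∈ E ∧ ∀ x ∈ Z, π x ∉ E := by
  classical
  let 𝒰 := W.affineCover.finiteSubcover
  have key : ∀ i : 𝒰.I₀, ∃ E : Set (Spec R), IsConstructible E ∧ v ∈ E ∧
      ∀ y, 𝒰.f i y ∈ Z → π (𝒰.f i y) ∉ E := fun i ↦ by
    let e := (𝒰.X i).isoSpec
    let ψ : R ⟶ Γ(𝒰.X i, ⊤) := Spec.preimage (e.inv ≫ 𝒰.f i ≫ π)
    have hψ : Spec.map ψ = e.inv ≫ 𝒰.f i ≫ π := Spec.map_preimage _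
    obtain ⟨I, hI⟩ := (PrimeSpectrum.isClosed_iff_zeroLocus_ideal _).mp
      (hZ.preimage (e.inv ≫ 𝒰.f i).continuous)
    have hrange : ∀ Q : PrimeSpectrum Γ(𝒰.X i, ⊤), (e.inv ≫ 𝒰.f i) Q ∈ Z ↔
        Q ∈ PrimeSpectrum.zeroLocus (I : Set Γ(𝒰.X i, ⊤)) := fun Q ↦ by rw [← hI]; rfl
    obtain ⟨E, hE, hvE, hdisj⟩ := exists_constructible_avoid
      ((Ideal.Quotient.mk I).comp ψ.hom) v (by
        rintro ⟨Q, hQ⟩
        refine h ((e.inv ≫ 𝒰.f i) (PrimeSpectrum.comap (Ideal.Quotient.mk I) Q)) ?_ ?_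
        · refine (hrange _).mpr fun a ha ↦ ?_
          show Ideal.Quotient.mk I a ∈ Q.asIdeal
          rw [Ideal.Quotient.eq_zero_iff_mem.mpr ha]
          exact Q.asIdeal.zero_mem
        · rw [← Scheme.Hom.comp_apply, Category.assoc, ← hψ]
          exact hQ)
    refine ⟨E, hE, hvE, fun y hy hmem ↦ Set.disjoint_left.mp hdisj hmem ?_⟩
    have hy' : (e.inv ≫ 𝒰.f i) (e.hom y) = 𝒰.f i y :=
      congrArg (fun m : 𝒰.X i ⟶ W ↦ m y) (e.hom_inv_id_assoc (𝒰.f i))
    obtain ⟨Q, hQ⟩ : e.hom y ∈ Set.range (PrimeSpectrum.comap (Ideal.Quotient.mk I)) := by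
      rw [range_comap_of_surjective _ _ Ideal.Quotient.mk_surjective, Ideal.mk_ker]
      exact (hrange _).mp (hy'.symm ▸ hy)
    refine ⟨Q, ?_⟩
    show PrimeSpectrum.comap ψ.hom (PrimeSpectrum.comap (Ideal.Quotient.mk I) Q) = _
    rw [hQ]
    show Spec.map ψ (e.hom y) = _
    rw [hψ, ← hy']
    rfl
  choose E hE hvE hEy using key
  refine ⟨⋂ i, E i, ?_, Set.mem_iInter.mpr hvE, fun x hx hmem ↦ ?_⟩
  · rw [← compl_compl (⋂ i, E i), Set.compl_iInter]
    exact (IsConstructible.iUnion fun i ↦ (hE i).compl).compl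
  · obtain ⟨i, y, rfl⟩ := 𝒰.exists_eq x
    exact hEy i y hx (Set.mem_iInter.mp hmem i)

theorem exists_constructible_integral [LocallyQuasiFinite f] [LocallyOfFiniteType f]
    [QuasiCompact f] [QuasiSeparated f] {w : X → ℤ} (hw : IsWeighting f w) (A : Y.Opens)
    (hA : IsAffineOpen A) (y : A) :
    ∃ E : Set A, IsConstructible E ∧ y ∈ E ∧
      ∀ z ∈ E, fibreIntegral f w z.1 = fibreIntegral f w y.1 := by
  classical
  obtain ⟨Ω, _, _, p₀, hp₀⟩ := exists_pt y.1
  haveI : Finite (GeomPts f p₀) := finite_geomPts f p₀ (f.finite_preimage_singleton _)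
  obtain ⟨n, ⟨e⟩⟩ := Finite.exists_equiv_fin (GeomPts f p₀)
  obtain ⟨R, g, _, p, hp, B, φ, a, q, hP, hs, hq, hI, -, hgA⟩ :=
    exists_affine_charts hw p₀ n (fun i ↦ e.symm i) (fun _ ↦ ⊤) (fun _ ↦ trivial) A (hp₀ ▸ y.2)
  haveI : ∀ i, IsFinite (Spec.map (φ i)) := fun i ↦ (hP i).finite
  haveI : ∀ i, IsOpenImmersion
      (pullback.lift (a i) (Spec.map (φ i)) (hP i).w : Spec (B i) ⟶ pullback f g) :=
    fun i ↦ (hP i).openImmersion
  let j : ∀ i, Spec (B i) ⟶ pullback f g := fun i ↦ pullback.lift (a i) (Spec.map (φ i)) (hP i).w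
  haveI : QuasiCompact (pullback.snd f g) := inferInstance
  haveI : CompactSpace ↑(pullback f g) :=
    QuasiCompact.compactSpace_of_compactSpace (pullback.snd f g)
  haveI : QuasiSeparatedSpace ↑(pullback f g) :=
    quasiSeparatedSpace_of_quasiSeparated (pullback.snd f g)
  -- uncovered points
  have hcov : ∀ x : ↑(pullback f g), pullback.snd f g x = pt p → ∃ i, x ∈ Set.range (j i) := by
    intro x hx
    obtain ⟨⟨⟨c, hc⟩, hcx⟩⟩ : Nonempty {c : GeomPts (pullback.snd f g) p // pt c.1 = x} := by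
      refine (Nat.card_ne_zero.mp ?_).1
      rw [(card_geomPts_over (pullback.snd f g) p x hx).2]
      letI := ((pullback.snd f g).residueFieldMap x).hom.toAlgebra
      haveI : Module.Finite ((Spec R).residueField (pullback.snd f g x))
          ((pullback f g).residueField x) := finite_residueFieldMap _ x
      exact NeZero.ne _
    let r : GeomPts f p₀ := ⟨c ≫ pullback.fst f g, by
      rw [Category.assoc, pullback.condition, ← Category.assoc, hc, hp]⟩
    refine ⟨e r, pt (q (e r)).1, ?_⟩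
    rw [← hcx]
    show pt ((q (e r)).1 ≫ j (e r)) = pt c
    congr 1
    apply pullback.hom_ext
    · rw [Category.assoc, pullback.lift_fst, hq, Equiv.symm_apply_apply]
    · rw [Category.assoc, pullback.lift_snd, (q (e r)).2, hc]
  let Z : Set ↑(pullback f g) := (⋃ i, Set.range (j i))ᶜ
  obtain ⟨E₁, hE₁, hpE₁, hE₁'⟩ := exists_constructible_avoid_closed (pullback.snd f g) Z
    (isOpen_iUnion fun i ↦ (j i).isOpenEmbedding.isOpen_range).isClosed_compl (pt p)
    (fun x hx hxp ↦ hx (Set.mem_iUnion.mpr (hcov x hxp)))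
  -- overlaps
  have hov : ∀ i k : Fin n, ∃ E : Set (Spec R), IsConstructible E ∧ pt p ∈ E ∧ (i ≠ k →
      ∀ x ∈ Set.range (j i), x ∈ Set.range (j k) → pullback.snd f g x ∉ E) := by
    intro i k
    by_cases hik : i = k
    · exact ⟨Set.univ, .univ, trivial, fun h ↦ absurd hik h⟩
    let U : (pullback f g).Opens := (j i).opensRange ⊓ (j k).opensRange
    have hU : IsCompact (U : Set ↑(pullback f g)) :=
      QuasiSeparatedSpace.inter_isCompact _ _ (j i).isOpenEmbedding.isOpen_range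
        (isCompact_range (j i).continuous) (j k).isOpenEmbedding.isOpen_range
        (isCompact_range (j k).continuous)
    haveI : CompactSpace ↥(U : Scheme.{u}) := isCompact_iff_compactSpace.mp hU
    obtain ⟨E, hE, hpE, hE'⟩ := exists_constructible_avoid_closed (U.ι ≫ pullback.snd f g)
      Set.univ isClosed_univ (pt p) (fun x _ hx ↦
        not_mem_range_of_ne (hP i) (hP k) (q i) (q k) (hs i) (hs k)
          (by rw [hq, hq]; exact fun h ↦ hik (e.symm.injective (Subtype.ext h)))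
          (U.ι x) hx x.2.1 x.2.2)
    exact ⟨E, hE, hpE, fun _ x hxi hxk hxE ↦ hE' ⟨x, hxi, hxk⟩ trivial hxE⟩
  choose E₂ hE₂ hpE₂ hE₂' using hov
  let E : Set (Spec R) := E₁ ∩ ⋂ i, ⋂ k, E₂ i k
  have hE : IsConstructible E := by
    refine hE₁.inter ?_
    rw [← compl_compl (⋂ i, ⋂ k, E₂ i k), Set.compl_iInter]
    refine (IsConstructible.iUnion fun i ↦ ?_).compl
    rw [Set.compl_iInter]
    exact IsConstructible.iUnion fun k ↦ (hE₂ i k).compl
  have hpE : pt p ∈ E := ⟨hpE₁, Set.mem_iInter.mpr fun i ↦ Set.mem_iInter.mpr fun k ↦ hpE₂ i k⟩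
  have hval : ∀ z ∈ E, fibreIntegral f w (g z) = ∑ i, w (pt (e.symm i).1) := by
    rintro z ⟨hz₁, hz₂⟩
    rw [(sum_pieces hP w z (f.finite_preimage_singleton _) (fun i k hik x hx hxi hxk ↦
      hE₂' i k hik x hxi hxk (hx ▸ Set.mem_iInter.mp (Set.mem_iInter.mp hz₂ i) k))).1
      (fun x hx ↦ by
        by_contra hn
        exact hE₁' x (fun hm ↦ hn (Set.mem_iUnion.mp hm)) (hx ▸ hz₁))]
    exact Finset.sum_congr rfl fun i _ ↦ hI i z
  haveI : IsAffine (A : Scheme.{u}) := hA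
  let g' : Spec R ⟶ (A : Scheme.{u}) := IsOpenImmersion.lift A.ι g (by
    rintro _ ⟨z, rfl⟩; rw [Scheme.Opens.range_ι]; exact hgA z)
  have hg' : g' ≫ A.ι = g := IsOpenImmersion.lift_fac _ _ _
  haveI : Etale (g' ≫ A.ι) := hg'.symm ▸ inferInstance
  haveI : Etale g' := Etale.of_comp g' A.ι
  have hgz : ∀ z, (g' z).1 = g z := fun z ↦ congrArg (fun m : Spec R ⟶ Y ↦ m z) hg'
  have hgy : (g' (pt p)).1 = y.1 := by rw [hgz, ← pt_comp, hp, hp₀]
  refine ⟨g' '' E, Scheme.Hom.isConstructible_image g' hE, ⟨pt p, hpE, Subtype.ext hgy⟩, ?_⟩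
  rintro _ ⟨z, hz, rfl⟩
  rw [hgz, hval z hz, ← hgy, hgz, hval (pt p) hpE]

theorem isLocallyConstructible_fibreIntegral [LocallyQuasiFinite f] [LocallyOfFiniteType f]
    [QuasiCompact f] [QuasiSeparated f] {w : X → ℤ} (hw : IsWeighting f w) (n : ℤ) :
    IsLocallyConstructible {y : Y | fibreIntegral f w y = n} := by
  intro y
  obtain ⟨_, ⟨A, hA, rfl⟩, hyA, -⟩ :=
    Y.isBasis_affineOpens.exists_subset_of_mem_open (Set.mem_univ y) isOpen_univ
  refine ⟨A, A.isOpen.mem_nhds hyA, A.isOpen, ?_⟩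
  haveI : IsAffine (A : Scheme.{u}) := hA
  exact (isConstructible_levelSets (X := (A : Scheme.{u})) (fun z ↦ fibreIntegral f w z.1)
    (fun z ↦ exists_constructible_integral hw A hA z)).1 n

end GrothLib.Weight
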