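import Groth.Agent.Lib.Weight.Family
import Mathlib.AlgebraicGeometry.Morphisms.FlatDescent
import Mathlib.Topology.Semicontinuity.Basic

/-! # The fibre integral of a positive weighting of a separated morphism -/

universe u

open CategoryTheory Limits AlgebraicGeometry Topology

namespace GrothLib.Weight

open MoreMor

variable {X Y : Scheme.{u}} {f : X ⟶ Y}

/-- All geometric points of a fibre by disjoint pieces over one etale neighbourhood. -/
theorem exists_disjoint_pieces [LocallyQuasiFinite f] [LocallyOfFiniteType f] [IsSeparated f]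
    (hfin : ∀ y : Y, (f ⁻¹' {y}).Finite) {w : X → ℤ} (hw : IsWeighting f w) (y : Y) :
    ∃ (V : Scheme.{u}) (g : V ⟶ Y) (_ : Etale g) (v : V) (n : ℕ) (T : Fin n → Scheme.{u})
      (π : ∀ i, T i ⟶ V) (a : ∀ i, T i ⟶ X) (hP : ∀ i, Piece f g (π i) (a i)),
      g v = y ∧
      (∀ i k, i ≠ k → ∀ x : ↑(pullback f g),
        x ∈ Set.range (pullback.lift (a i) (π i) (hP i).w : T i ⟶ pullback f g) →
        x ∉ Set.range (pullback.lift (a k) (π k) (hP k).w : T k ⟶ pullback f g)) ∧
      (∀ z, ∑ i, fibreIntegral (π i) (w ∘ ⇑(a i)) z = fibreIntegral f w y) := by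
  classical
  obtain ⟨Ω, _, _, p₀, rfl⟩ := exists_pt y
  haveI : Finite (GeomPts f p₀) := finite_geomPts f p₀ (hfin _)
  obtain ⟨n, ⟨e⟩⟩ := Finite.exists_equiv_fin (GeomPts f p₀)
  obtain ⟨U, g, _, p, hp, T, π, a, q, hP, hs, hq⟩ := exists_charts p₀ n (fun i ↦ e.symm i)
  haveI : ∀ i, IsFinite (π i) := fun i ↦ (hP i).finite
  haveI : ∀ i, IsOpenImmersion (pullback.lift (a i) (π i) (hP i).w : T i ⟶ pullback f g) :=
    fun i ↦ (hP i).openImmersion
  haveI : IsSeparated (pullback.snd f g) := inferInstance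
  let j : ∀ i, T i ⟶ pullback f g := fun i ↦ pullback.lift (a i) (π i) (hP i).w
  have hclosed : ∀ i, IsClosed (Set.range (j i)) := fun i ↦ by
    haveI : IsFinite (j i ≫ pullback.snd f g) := by rw [pullback.lift_snd]; exact (hP i).finite
    haveI : IsFinite (j i) := IsFinite.of_comp _ (pullback.snd f g)
    exact (j i).isClosedMap.isClosed_range
  -- shrink to make the pieces disjoint and the integrals constant
  have hev : ∀ i k, ∀ᶠ z in 𝓝 (pt p), i ≠ k → ∀ x : ↑(pullback f g), pullback.snd f g x = z →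
      x ∈ Set.range (j i) → x ∉ Set.range (j k) := by
    intro i k
    by_cases hik : i = k
    · exact Filter.Eventually.of_forall fun z h ↦ absurd hik h
    obtain ⟨O, hO, hO'⟩ := exists_preimage_subset (π i) (π i).isClosedMap (pt p)
      (j i ⁻¹' (Set.range (j k))ᶜ) ((hclosed k).isOpen_compl.preimage (j i).continuous) (by
        intro t ht hk
        refine not_mem_range_of_ne (hP i) (hP k) (q i) (q k) (hs i) (hs k) ?_ (j i t) ?_ ⟨t, rfl⟩ hk
        · rw [hq, hq]; exact fun h ↦ hik (e.symm.injective (Subtype.ext h))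
        · show (j i ≫ pullback.snd f g) t = _
          rw [pullback.lift_snd]; exact ht)
    filter_upwards [O.isOpen.mem_nhds hO] with z hz
    rintro - x hx ⟨t, rfl⟩
    refine hO' t ?_
    rw [show π i t = z by rw [← hx, ← Scheme.Hom.comp_apply, pullback.lift_snd]]
    exact hz
  have hI := fun i ↦ eventually_single hw (hP i) (q i) (hs i)
  obtain ⟨A, hA, hAopen, hpA⟩ := mem_nhds_iff.mp
    (Filter.inter_mem (Filter.eventually_all.mpr fun i ↦ Filter.eventually_all.mpr (hev i))
      (Filter.eventually_all.mpr hI))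
  let O : U.Opens := ⟨A, hAopen⟩
  refine ⟨O, O.ι ≫ g, inferInstance, ⟨pt p, hpA⟩, n, fun i ↦ pullback (π i) O.ι,
    fun i ↦ pullback.snd (π i) O.ι, fun i ↦ pullback.fst (π i) O.ι ≫ a i,
    fun i ↦ (hP i).restrict O, ?_, ?_, fun z ↦ ?_⟩
  · show g (pt p) = pt p₀
    rw [← pt_comp, hp]
  · rintro i k hik x ⟨t, rfl⟩ ⟨s, hst⟩
    have hmap : ∀ (i) (t : ↑(pullback (π i) O.ι)), towerMap f g O.ι
        ((pullback.lift (pullback.fst (π i) O.ι ≫ a i) (pullback.snd (π i) O.ι)
          ((hP i).restrict O).w : pullback (π i) O.ι ⟶ pullback f (O.ι ≫ g)) t) =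
        j i (pullback.fst (π i) O.ι t) := fun i t ↦ by
      rw [← Scheme.Hom.comp_apply, ← Scheme.Hom.comp_apply]
      refine congrArg (fun m : pullback (π i) O.ι ⟶ pullback f g ↦ m t) ?_
      apply pullback.hom_ext
      · rw [Category.assoc, Category.assoc, pullback.lift_fst, pullback.lift_fst, pullback.lift_fst]
      · rw [Category.assoc, Category.assoc, pullback.lift_snd, pullback.lift_snd,
          pullback.lift_snd_assoc]
        exact pullback.condition.symm
    refine (hA (pullback.snd (π i) O.ι t).2).1 i k hik (j i (pullback.fst (π i) O.ι t)) ?_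
      ⟨_, rfl⟩ ⟨pullback.fst (π k) O.ι s, ?_⟩
    · show (pullback.fst (π i) O.ι ≫ j i ≫ pullback.snd f g) t = _
      rw [pullback.lift_snd, pullback.condition]
      rfl
    · rw [← hmap, ← hmap]; exact congrArg (towerMap f g O.ι) hst
  · rw [fibreIntegral_eq f p₀, finsum_eq_of_bijective (g := fun i : Fin n ↦ w (pt (e.symm i).1)) e
      e.bijective (fun x ↦ by rw [Equiv.symm_apply_apply]), finsum_eq_sum_of_fintype]
    refine Finset.sum_congr rfl fun i _ ↦ ?_
    rw [← hq i]
    exact (fibreIntegral_isPullback (IsPullback.of_hasPullback (π i) O.ι) _ z).trans ((hA z.2).2 i)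

theorem eventually_ge [LocallyQuasiFinite f] [LocallyOfFiniteType f] [IsSeparated f]
    (hfin : ∀ y : Y, (f ⁻¹' {y}).Finite) {w : X → ℤ} (hw : IsWeighting f w) (hpos : ∀ x, 0 < w x)
    (y : Y) : ∀ᶠ y' in 𝓝 y, fibreIntegral f w y ≤ fibreIntegral f w y' := by
  obtain ⟨V, g, _, v, n, T, π, a, hP, rfl, hdisj, hsum⟩ := exists_disjoint_pieces hfin hw y
  refine Filter.mem_of_superset (g.isOpenMap.isOpen_range.mem_nhds ⟨v, rfl⟩) ?_
  rintro _ ⟨z, rfl⟩
  rw [Set.mem_setOf_eq, ← hsum z]
  exact (sum_pieces hP w z (hfin _) fun i k hik x _ ↦ hdisj i k hik x).2.1 hpos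

/-- Lower semicontinuity of the fibre integral. -/
theorem lowerSemicontinuous_fibreIntegral [LocallyQuasiFinite f] [LocallyOfFiniteType f]
    [IsSeparated f] (hfin : ∀ y : Y, (f ⁻¹' {y}).Finite) {w : X → ℤ} (hw : IsWeighting f w)
    (hpos : ∀ x, 0 < w x) : LowerSemicontinuous (fibreIntegral f w) :=
  fun y c hc ↦ (eventually_ge hfin hw hpos y).mono fun _ h ↦ hc.trans_le h

/-- Finiteness over the maximal locus. -/
theorem finite_over_max [LocallyQuasiFinite f] [LocallyOfFiniteType f] [IsSeparated f]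
    (hfin : ∀ y : Y, (f ⁻¹' {y}).Finite) {w : X → ℤ} (hw : IsWeighting f w) (hpos : ∀ x, 0 < w x)
    (d : ℤ) (hmax : ∀ y : Y, fibreIntegral f w y ≤ d) :
    ∃ hYd : IsOpen {y : Y | fibreIntegral f w y = d},
      IsFinite (f ∣_ ⟨{y : Y | fibreIntegral f w y = d}, hYd⟩) := by
  have hopen : IsOpen {y : Y | fibreIntegral f w y = d} :=
    isOpen_iff_mem_nhds.mpr fun y (hy : _ = d) ↦ (eventually_ge hfin hw hpos y).mono
      fun y' h ↦ le_antisymm (hmax y') (hy ▸ h)
  refine ⟨hopen, ?_⟩
  set W : Y.Opens := ⟨_, hopen⟩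
  haveI : UniversallyClosed (f ∣_ W) := by
    choose V g hg v n T π a hP hv hdisj hsum using fun y : W ↦ exists_disjoint_pieces hfin hw y.1
    haveI : ∀ y, Etale (g y) := hg
    have hgW : ∀ y, Set.range (g y) ⊆ (W : Set Y) := by
      rintro y _ ⟨z, rfl⟩
      refine le_antisymm (hmax _) ?_
      calc d = fibreIntegral f w y.1 := y.2.symm
        _ = _ := (hsum y z).symm
        _ ≤ _ := (sum_pieces (hP y) w z (hfin _) fun i k hik x _ ↦ hdisj y i k hik x).2.1 hpos
    let R : W → Y.Opens := fun y ↦ ⟨Set.range (g y), (g y).isOpenMap.isOpen_range⟩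
    refine IsZariskiLocalAtTarget.of_iSup_eq_top (P := @UniversallyClosed)
      (fun y : W ↦ W.ι ⁻¹ᵁ (R y)) ?_ fun y ↦ ?_
    · rw [eq_top_iff]
      intro y _
      exact TopologicalSpace.Opens.mem_iSup.mpr ⟨y, v y, hv y⟩
    rw [MorphismProperty.arrow_mk_iso_iff @UniversallyClosed (morphismRestrictRestrict f W _)]
    rw [show W.ι ''ᵁ W.ι ⁻¹ᵁ (R y) = (R y) by
      rw [Scheme.Hom.image_preimage_eq_opensRange_inf, Scheme.Opens.opensRange_ι]
      exact inf_eq_right.mpr fun b hb ↦ hgW y hb]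
    haveI : IsFinite (pullback.snd f (g y)) := by
      haveI : ∀ i, IsOpenImmersion
          (pullback.lift (a y i) (π y i) (hP y i).w : T y i ⟶ pullback f (g y)) :=
        fun i ↦ (hP y i).openImmersion
      refine isFinite_of_cover _ _ (T y) (fun i ↦ pullback.lift (a y i) (π y i) (hP y i).w)
        (fun i ↦ by rw [pullback.lift_snd]; exact (hP y i).finite) fun x ↦ ?_
      have heq : ∑ i, fibreIntegral (π y i) (w ∘ ⇑(a y i)) (pullback.snd f (g y) x) =
          fibreIntegral f w (g y (pullback.snd f (g y) x)) := by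
        rw [hsum, y.2]
        exact (hgW y ⟨_, rfl⟩).symm
      obtain ⟨i, hi⟩ := (sum_pieces (hP y) w _ (hfin _)
        fun i k hik x _ ↦ hdisj y i k hik x).2.2 hpos heq x rfl
      exact ⟨i, hi, fun k hk ↦ by_contra fun hki ↦ hdisj y i k (Ne.symm hki) x hi hk⟩
    let g' : V y ⟶ (R y) :=
      IsOpenImmersion.lift (R y).ι (g y) (by
        rw [Scheme.Opens.range_ι]; exact fun b hb ↦ hb)
    have hg' : g' ≫ (R y).ι = g y := IsOpenImmersion.lift_fac _ _ _
    haveI : Surjective g' := ⟨fun ⟨b, c, hc⟩ ↦ ⟨c, Subtype.ext (by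
      show (g' ≫ (R y).ι) c = b
      rw [hg']; exact hc)⟩⟩
    haveI : Etale (g' ≫ (R y).ι) := hg'.symm ▸ inferInstance
    haveI : Etale g' := Etale.of_comp g' (R y).ι
    refine MorphismProperty.of_isPullback_of_descendsAlong (P := @UniversallyClosed)
      (Q := @Surjective ⊓ @Flat ⊓ @LocallyOfFinitePresentation)
      (f := g') (g := f ∣_ (R y))
      (IsPullback.of_hasPullback g' (f ∣_ (R y))) ⟨⟨‹_›, inferInstance⟩, inferInstance⟩ ?_
    have hbig := (IsPullback.of_hasPullback g' (f ∣_ (R y))).flip.paste_horiz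
      (isPullback_morphismRestrict f (R y)).flip
    have hlift := hbig.isoPullback
    have : IsFinite (pullback.fst g' (f ∣_ (R y))) := by
      rw [← hbig.isoPullback_hom_snd]
      haveI : IsFinite (pullback.snd f (g' ≫ (R y).ι)) := by rw [hg']; infer_instance
      infer_instance
    infer_instance
  haveI : LocallyQuasiFinite (f ∣_ W) := inferInstance
  haveI : IsProper (f ∣_ W) := { }
  exact IsFinite.of_isProper_of_locallyQuasiFinite (f ∣_ W)

end GrothLib.Weight
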