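import Groth.Agent.Lib.Weight.FibreRank
import Groth.Agent.Lib.Weight.IntegralConstructible
import Groth.Agent.Lib.Weight.Semicont
import Groth.Prelude.Def_Mor2
import Groth.Agent.Lib.Constr.Scheme

/-! # Stratification by fibre degree -/

universe u

open CategoryTheory Limits AlgebraicGeometry Topology

namespace GrothLib.Weight

variable {X S : Scheme.{u}} {f : X ⟶ S}

/-- The rank of a finite fibre is the integral of the multiplicity. -/
theorem gRank_fiber_eq [LocallyQuasiFinite f] [LocallyOfFinitePresentation f] [Flat f]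
    [IsSeparated f] (s : S) (hfin : (f ⁻¹' {s}).Finite) :
    ∃ n : ℕ, gRank (K := S.residueField s) (f.fiberToSpecResidueField s) = n ∧
      MoreMor.fibreIntegral f (mult f) s = n := by
  haveI : Finite ↥(f ⁻¹' {s}) := hfin.to_subtype
  haveI : Finite ↥(f.fiber s) := Finite.of_equiv _ (f.fiberHomeo s).symm.toEquiv
  haveI : LocallyQuasiFinite (f.fiberToSpecResidueField s) :=
    MorphismProperty.pullback_snd _ _ ‹LocallyQuasiFinite f›
  haveI : LocallyOfFiniteType (f.fiberToSpecResidueField s) :=
    MorphismProperty.pullback_snd _ _ inferInstance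
  haveI hflat : Flat (f.fiberToSpecResidueField s) := MorphismProperty.pullback_snd _ _ ‹Flat f›
  haveI : CompactSpace ↥(f.fiber s) := Finite.compactSpace
  haveI : QuasiCompact (f.fiberToSpecResidueField s) :=
    (quasiCompact_iff_compactSpace (f := f.fiberToSpecResidueField s)).mpr inferInstance
  haveI hff : IsFinite (f.fiberToSpecResidueField s) := IsFinite.of_locallyQuasiFinite _
  let p₀ : Spec (S.residueField s) := IsLocalRing.closedPoint _
  refine ⟨(f.fiberToSpecResidueField s).finrank p₀, gRank_of_isFinite (K := S.residueField s) _ p₀, ?_⟩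
  obtain ⟨U, g, u, hu, V, hVcl, hVfin, hV⟩ := exists_finite_isolated_part f s (Set.toFinite _)
  obtain ⟨hge, hgu, -⟩ := hu
  subst hgu
  haveI := hge
  haveI := hVfin
  haveI : LocallyQuasiFinite (pullback.snd f g) :=
    MorphismProperty.pullback_snd _ _ ‹LocallyQuasiFinite f›
  let ρ := V.ι ≫ pullback.snd f g
  haveI : LocallyQuasiFinite g := locallyQuasiFinite_of_formallyUnramified g
  have hin : ∀ x : ↑(pullback f g), pullback.snd f g x = u → x ∈ V := by
    intro x hx
    haveI : DiscreteTopology ↑((pullback.snd f g).fiber u) :=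
      (IsLocallyArtinian.iff_isLocallyNoetherian_and_discreteTopology.mp inferInstance).2
    obtain ⟨b, hb⟩ : x ∈ Set.range ((pullback.snd f g).fiberι u) := by
      rw [Scheme.Hom.range_fiberι]; exact hx
    by_contra hn
    exact hV b (by rwa [hb]) (isOpen_discrete _)
  have hT := isPullback_fiberToSpecResidueField_of_isPullback (IsPullback.of_hasPullback f g) u
  haveI hff' : IsFinite ((pullback.snd f g).fiberToSpecResidueField u) :=
    MorphismProperty.of_isPullback hT hff
  have hPfin : (pullback.snd f g ⁻¹' {u}).Finite := by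
    haveI : Subsingleton ↥(Spec (U.residueField u)) :=
      inferInstanceAs (Subsingleton (PrimeSpectrum (U.residueField u)))
    haveI : Finite ↥((pullback.snd f g).fiber u) := by
      refine Set.finite_univ_iff.mp ?_
      have := ((pullback.snd f g).fiberToSpecResidueField u).finite_preimage_singleton
        (IsLocalRing.closedPoint _)
      exact this.subset fun z _ ↦ Subsingleton.elim _ _
    haveI := Finite.of_equiv _ ((pullback.snd f g).fiberHomeo u).toEquiv
    exact Set.toFinite _
  -- the integral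
  have h1 : MoreMor.fibreIntegral f (mult f) (g u) = ρ.finrank u := by
    rw [← fibreIntegral_mult ρ u, ← fibreIntegral_isPullback (IsPullback.of_hasPullback f g) (mult f) u,
      fibreIntegral_split (pullback.snd f g) (fun _ : Unit ↦ (V : Scheme.{u})) (fun _ ↦ V.ι) u
        hPfin
        (fun x hx ↦ ⟨(), ⟨⟨x, hin x hx⟩, rfl⟩, fun _ _ ↦ rfl⟩)]
    simp only [Finset.univ_unique, Finset.sum_singleton]
    congr 1
    funext y
    show mult f (pullback.fst f g (V.ι y)) = mult ρ y
    rw [← mult_comp_left ρ g y, Category.assoc, ← pullback.condition, ← Category.assoc,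
      mult_comp_right (V.ι ≫ pullback.fst f g) f y]
    rfl
  -- the rank
  have h2 := @Scheme.Hom.finrank_of_isPullback _ _ _ _ _ _ _ _ hT hflat hff (IsLocalRing.closedPoint _)
  replace h2 := h2.trans (congrArg (f.fiberToSpecResidueField (g u)).finrank
    (Subsingleton.elim (α := PrimeSpectrum _) _ p₀))
  let a := (pullback.snd f g).fiberι u
  have hc : IsPullback a ((pullback.snd f g).fiberToSpecResidueField u) (pullback.snd f g)
      (U.fromSpecResidueField u) := IsPullback.of_hasPullback _ _
  have h3 := @Scheme.Hom.finrank_of_isPullback _ _ _ _ _ _ _ _ (isPullback_restrict_opens hc V)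
    (inferInstanceAs (Flat ρ)) hVfin (IsLocalRing.closedPoint _)
  rw [Scheme.fromSpecResidueField_apply] at h3
  have htop : a ⁻¹ᵁ V = ⊤ := eq_top_iff.mpr fun z _ ↦ hin _ (by
    have := ((pullback.snd f g).fiberHomeo u z).2
    exact this)
  rw [h1, Nat.cast_inj, ← h3, ← h2]
  rw [htop]
  haveI : IsIso (⊤ : ((pullback.snd f g).fiber u).Opens).ι := (Scheme.topIso _).isIso_hom
  haveI : Flat ((pullback.snd f g).fiberToSpecResidueField u) :=
    MorphismProperty.of_isPullback hT hflat
  exact congrFun (Scheme.Hom.finrank_comp_left_of_isIso _ _) _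

/-- The degree of a fibre. -/
noncomputable def fibreDeg (f : X ⟶ S) (s : S) : ℕ :=
  Cardinal.toNat (gRank (K := S.residueField s) (f.fiberToSpecResidueField s))

theorem finite_fibre_of_gRank_le [LocallyQuasiFinite f] [LocallyOfFiniteType f] (s : S) (n : ℕ)
    (h : gRank (K := S.residueField s) (f.fiberToSpecResidueField s) ≤ n) :
    (f ⁻¹' {s}).Finite := by
  haveI : LocallyQuasiFinite (f.fiberToSpecResidueField s) :=
    MorphismProperty.pullback_snd _ _ ‹LocallyQuasiFinite f›
  haveI : LocallyOfFiniteType (f.fiberToSpecResidueField s) :=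
    MorphismProperty.pullback_snd _ _ inferInstance
  haveI := finite_of_gRank_lt_aleph0 (K := S.residueField s) (f.fiberToSpecResidueField s)
    (h.trans_lt Cardinal.natCast_lt_aleph0)
  haveI := Finite.of_equiv _ (f.fiberHomeo s).toEquiv
  exact Set.toFinite _

theorem fibreDeg_eq [LocallyQuasiFinite f] [LocallyOfFinitePresentation f] [Flat f] [IsSeparated f]
    (s : S) (hfin : (f ⁻¹' {s}).Finite) :
    gRank (K := S.residueField s) (f.fiberToSpecResidueField s) = fibreDeg f s ∧
      MoreMor.fibreIntegral f (mult f) s = fibreDeg f s := by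
  obtain ⟨n, h1, h2⟩ := gRank_fiber_eq s hfin
  rw [fibreDeg, h1, Cardinal.toNat_natCast]
  exact ⟨rfl, h2⟩

theorem isClosed_fibreDeg_le [LocallyQuasiFinite f] [LocallyOfFinitePresentation f] [Flat f]
    [IsSeparated f] (hfin : ∀ s, (f ⁻¹' {s}).Finite) (r : ℕ) :
    IsClosed {s : S | fibreDeg f s ≤ r} := by
  rw [← isOpen_compl_iff]
  convert isOpen_le_gRank (f := f) (r + 1) using 1
  ext s
  rw [Set.mem_setOf_eq, (fibreDeg_eq s (hfin s)).1, Set.mem_compl_iff, Set.mem_setOf_eq]
  exact ⟨fun h ↦ by exact_mod_cast (not_le.mp h : r < fibreDeg f s),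
    fun h ↦ not_le.mpr (by exact_mod_cast h : r < fibreDeg f s)⟩

/-- A base change is finite locally free of degree `r` iff it maps into the `r`th stratum. -/
theorem isFinLocFreeOfDeg_iff [LocallyQuasiFinite f] [LocallyOfFinitePresentation f] [Flat f]
    [IsSeparated f] (hfin : ∀ s, (f ⁻¹' {s}).Finite) {T : Scheme.{u}} (g : T ⟶ S) (r : ℕ) :
    Mor2.IsFinLocFreeOfDeg r (pullback.snd f g) ↔ ∀ t : T, fibreDeg f (g t) = r := by
  haveI : LocallyQuasiFinite (pullback.snd f g) :=
    MorphismProperty.pullback_snd _ _ ‹LocallyQuasiFinite f›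
  have hfin' : ∀ t : T, (pullback.snd f g ⁻¹' {t}).Finite ∧
      (∀ d : ℕ, d ≤ fibreDeg f (g t) ↔ (d : Cardinal.{u}) ≤
        gRank (K := T.residueField t) ((pullback.snd f g).fiberToSpecResidueField t)) := by
    intro t
    have hc : IsPullback ((pullback.snd f g).fiberι t ≫ pullback.fst f g)
        ((pullback.snd f g).fiberToSpecResidueField t) f (T.fromSpecResidueField t ≫ g) :=
      (IsPullback.of_hasPullback _ _).paste_horiz (IsPullback.of_hasPullback f g)
    have h := le_gRank_iff (K := T.residueField t) hc (g t)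
      (congrArg g (Scheme.fromSpecResidueField_apply _ _))
    have h' : ∀ d : ℕ, d ≤ fibreDeg f (g t) ↔ (d : Cardinal.{u}) ≤
        gRank (K := T.residueField t) ((pullback.snd f g).fiberToSpecResidueField t) := fun d ↦ by
      rw [h d, (fibreDeg_eq _ (hfin (g t))).1, Nat.cast_le]
    refine ⟨finite_fibre_of_gRank_le t (fibreDeg f (g t)) ?_, h'⟩
    by_contra hlt
    have := (h' (fibreDeg f (g t) + 1)).mpr ((Cardinal.natCast_add_one_le_iff.mpr (not_le.mp hlt)).trans' (by push_cast; rfl))
    omega
  have hint : ∀ t, MoreMor.fibreIntegral (pullback.snd f g) (mult (pullback.snd f g)) t =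
      fibreDeg f (g t) := by
    intro t
    obtain ⟨h1, h2⟩ := fibreDeg_eq (f := pullback.snd f g) t (hfin' t).1
    rw [h2, Nat.cast_inj]
    refine le_antisymm ?_ ?_
    · rw [(hfin' t).2, h1]
    · have := ((hfin' t).2 (fibreDeg f (g t))).mp le_rfl
      rw [h1] at this
      exact_mod_cast this
  constructor
  · rintro ⟨⟨hfi, hfl, -⟩, hr⟩ t
    haveI := hfi
    haveI := hfl
    have := hint t
    rw [fibreIntegral_mult, hr t] at this
    exact_mod_cast this.symm
  · intro h
    have hr : ∀ t, MoreMor.fibreIntegral (pullback.snd f g) (mult (pullback.snd f g)) t = r :=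
      fun t ↦ by rw [hint, h]
    obtain ⟨hopen, hf⟩ := finite_over_max (f := pullback.snd f g) (fun t ↦ (hfin' t).1)
      (isWeighting_mult _) (mult_pos _) r (fun t ↦ (hr t).le)
    haveI : IsFinite (pullback.snd f g) := by
      have htop : (⟨_, hopen⟩ : T.Opens) = ⊤ := eq_top_iff.mpr fun t _ ↦ hr t
      rw [htop] at hf
      haveI := hf
      haveI : IsIso (⊤ : T.Opens).ι := (Scheme.topIso T).isIso_hom
      have h2 : IsFinite ((pullback.snd f g ⁻¹ᵁ (⊤ : T.Opens)).ι ≫ pullback.snd f g) := by
        rw [← morphismRestrict_ι]; infer_instance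
      haveI : IsIso (pullback.snd f g ⁻¹ᵁ (⊤ : T.Opens)).ι := (Scheme.topIso _).isIso_hom
      exact (MorphismProperty.cancel_left_of_respectsIso @IsFinite _ _).mp h2
    refine ⟨⟨inferInstance, inferInstance, inferInstance⟩, fun t ↦ ?_⟩
    have := hr t
    rw [fibreIntegral_mult] at this
    exact_mod_cast this

end GrothLib.Weight

namespace GrothLib.Weight

theorem isRetrocompact_of_isLocallyConstructible {X : Scheme.{u}} {E : Set X}
    (hE : IsLocallyConstructible E) : IsRetrocompact E := by
  intro U hU hUo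
  have h : ∀ x : U, ∃ A : X.Opens, IsAffineOpen A ∧ x.1 ∈ A ∧ (A : Set X) ⊆ U := fun x ↦ by
    obtain ⟨A, hA, hxA, hAU⟩ := exists_isAffineOpen_mem_and_subset (U := ⟨U, hUo⟩) x.2
    exact ⟨A, hA, hxA, hAU⟩
  choose A hA hxA hAU using h
  obtain ⟨t, ht⟩ := hU.elim_finite_subcover (fun x ↦ (A x : Set X)) (fun x ↦ (A x).2)
    (fun x hx ↦ Set.mem_iUnion.mpr ⟨⟨x, hx⟩, hxA _⟩)
  have : E ∩ U = ⋃ x ∈ t, E ∩ A x := by
    refine Set.Subset.antisymm (fun z hz ↦ ?_) (Set.iUnion₂_subset fun x _ ↦
      Set.inter_subset_inter_right _ (hAU x))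
    obtain ⟨x, hx, hzx⟩ := Set.mem_iUnion₂.mp (ht hz.2)
    exact Set.mem_iUnion₂.mpr ⟨x, hx, hz.1, hzx⟩
  rw [this]
  refine t.isCompact_biUnion fun x _ ↦ ?_
  haveI : IsAffine (A x : Scheme.{u}) := hA x
  have hc : IsConstructible (X := (A x : Scheme.{u})) ((A x).ι ⁻¹' E) :=
    (hE.preimage_of_isOpenEmbedding (A x).ι.isOpenEmbedding).isConstructible
  have h2 : IsCompact (X := (A x : Scheme.{u})) ((A x).ι ⁻¹' E) := by
    have := @IsCompact.image _ _ (constructibleTopology (A x : Scheme.{u})) _ _ id
      (GrothLib.Constr.isCompact_constructibleTopology_of_isClosed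
        (GrothLib.Constr.isClosed_constructibleTopology_of_isConstructible hc))
      GrothLib.Constr.continuous_id_constructibleTopology
    simpa using this
  have h3 := h2.image (A x).ι.continuous
  rwa [Set.image_preimage_eq_inter_range, Scheme.Opens.range_ι] at h3

end GrothLib.Weight
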