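import Groth.Agent.Lib.Weight.Clopen
import Mathlib.LinearAlgebra.FiniteDimensional.Basic

/-! # Radicial parts without separatedness; prescribed residue fields -/

universe u

open CategoryTheory Limits AlgebraicGeometry Topology

namespace GrothLib.Weight

variable {X S : Scheme.{u}} {f : X ⟶ S}

theorem isFinite_and_purelyInseparable_comp_left {T P V : Scheme.{u}} (j : T ⟶ P) (σ : P ⟶ V)
    (π : T ⟶ V) [IsFinite π] (hπ : j ≫ σ = π) (t : T)
    (h : letI := (π.residueFieldMap t).hom.toAlgebra
      IsPurelyInseparable (V.residueField (π t)) (T.residueField t)) :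
    letI := (σ.residueFieldMap (j t)).hom.toAlgebra
    Module.Finite (V.residueField (σ (j t))) (P.residueField (j t)) ∧
      IsPurelyInseparable (V.residueField (σ (j t))) (P.residueField (j t)) := by
  refine ⟨?_, isPurelyInseparable_comp_left j σ π hπ t h⟩
  subst hπ
  letI := (σ.residueFieldMap (j t)).hom.toAlgebra
  letI := (j.residueFieldMap t).hom.toAlgebra
  letI : Algebra (V.residueField (σ (j t))) (T.residueField t) :=
    ((j ≫ σ).residueFieldMap t).hom.toAlgebra
  haveI : IsScalarTower (V.residueField (σ (j t))) (P.residueField (j t)) (T.residueField t) :=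
    IsScalarTower.of_algebraMap_eq' (congrArg CommRingCat.Hom.hom (Scheme.residueFieldMap_comp j σ t))
  haveI : Module.Finite (V.residueField (σ (j t))) (T.residueField t) :=
    finite_residueFieldMap (j ≫ σ) t
  exact FiniteDimensional.left (V.residueField (σ (j t))) (P.residueField (j t)) (T.residueField t)

/-- Etale locally, the quasi-finite points over `s` are the closed
points of radicial finite pieces. -/
theorem exists_radicial_parts (f : X ⟶ S) [LocallyOfFiniteType f] (s : S)
    {ι : Type} [Finite ι] (x : ι → X) (hinj : Function.Injective x) (hs : ∀ i, f (x i) = s)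
    (hx : ∀ i, f.QuasiFiniteAt (x i)) :
    ∃ (U : Scheme.{u}) (g : U ⟶ S) (u : U), Etale g ∧ g u = s ∧
      ∃ (J : ι → Type) (_ : ∀ i, Finite (J i)) (V : ∀ i, J i → (pullback f g).Opens)
        (v : ∀ i, J i → ↑(pullback f g)),
        (∀ i j, v i j ∈ V i j ∧ IsFinite ((V i j).ι ≫ pullback.snd f g) ∧
          pullback.snd f g (v i j) = u ∧
          (∀ w : ↑(pullback f g), w ∈ V i j → pullback.snd f g w = u → w = v i j) ∧
          (letI := ((pullback.snd f g).residueFieldMap (v i j)).hom.toAlgebra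
           Module.Finite ↑(U.residueField (pullback.snd f g (v i j)))
             ↑((pullback f g).residueField (v i j)) ∧
           IsPurelyInseparable ↑(U.residueField (pullback.snd f g (v i j)))
             ↑((pullback f g).residueField (v i j))) ∧
          pullback.fst f g (v i j) = x i) ∧
        (∀ i j i' j', v i j = v i' j' → i = i' ∧ HEq j j') ∧
        (∀ (w : ↑(pullback f g)) (i : ι), pullback.snd f g w = u → pullback.fst f g w = x i →
          ∃ j, w = v i j) := by
  classical
  let W : X.Opens := ⟨_, f.isOpen_quasiFiniteAt⟩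
  haveI : LocallyQuasiFinite (W.ι ≫ f) := locallyQuasiFinite_of_forall _ fun w ↦
    Scheme.Hom.quasiFiniteAt_comp_iff_of_isOpenImmersion.mpr w.2
  obtain ⟨Ω, _, _, p₀, hp₀⟩ := exists_pt s
  let R := {r : GeomPts (W.ι ≫ f) p₀ // ∃ i, pt r.1 = (⟨x i, hx i⟩ : W)}
  haveI : ∀ i, Finite {r : GeomPts (W.ι ≫ f) p₀ // pt r.1 = (⟨x i, hx i⟩ : W)} := fun i ↦
    (card_geomPts_over (W.ι ≫ f) p₀ (⟨x i, hx i⟩ : W) ((hs i).trans hp₀.symm)).1
  haveI : Finite R := by
    refine Finite.of_surjective (fun z : Σ i, {r : GeomPts (W.ι ≫ f) p₀ //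
      pt r.1 = (⟨x i, hx i⟩ : W)} ↦ (⟨z.2.1, z.1, z.2.2⟩ : R)) ?_
    rintro ⟨r, i, hr⟩
    exact ⟨⟨i, r, hr⟩, rfl⟩
  obtain ⟨n, ⟨e⟩⟩ := Finite.exists_equiv_fin R
  obtain ⟨U₀, g₀, _, p, hp, T, π, a, q, hP₀, hsub, hq⟩ :=
    exists_charts p₀ n fun k ↦ (e.symm k).1
  have hP := fun k ↦ (hP₀ k).of_restrict_source
  let g : U₀ ⟶ S := g₀
  let j : ∀ k, T k ⟶ pullback f g := fun k ↦ pullback.lift _ _ (hP k).w
  haveI : ∀ k, IsOpenImmersion (j k) := fun k ↦ (hP k).openImmersion
  haveI : ∀ k, IsFinite (π k) := fun k ↦ (hP k).finite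
  have hj2 : ∀ k, j k ≫ pullback.snd f g = π k := fun k ↦ pullback.lift_snd _ _ _
  let v : Fin n → ↑(pullback f g) := fun k ↦ j k (pt (q k).1)
  have hv1 : ∀ k, pullback.fst f g (v k) = W.ι (pt (e.symm k).1.1) := fun k ↦ by
    show (j k ≫ pullback.fst f g) (pt (q k).1) = _
    rw [pullback.lift_fst, ← pt_comp, ← Category.assoc, hq]
    rfl
  have hv2 : ∀ k, pullback.snd f g (v k) = pt p := fun k ↦ by
    show (j k ≫ pullback.snd f g) (pt (q k).1) = _
    rw [hj2, ← pt_comp, (q k).2]
  let J : ι → Type := fun i ↦ {k : Fin n // pt (e.symm k).1.1 = (⟨x i, hx i⟩ : W)}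
  refine ⟨U₀, g, pt p, inferInstance, ?_, J, inferInstance, fun i k ↦ (j k.1).opensRange,
    fun i k ↦ v k.1, ?_, ?_, ?_⟩
  · rw [← pt_comp, hp, hp₀]
  · intro i k
    refine ⟨⟨_, rfl⟩, ?_, hv2 k.1, ?_, ?_, ?_⟩
    · rw [← MorphismProperty.cancel_left_of_respectsIso @IsFinite (j k.1).isoOpensRange.hom,
        Scheme.Hom.isoOpensRange_hom_ι_assoc, hj2]
      infer_instance
    · rintro w ⟨t, rfl⟩ ht
      obtain ⟨y, -, hy, -⟩ := fibreIntegral_subsingleton (π k.1) p ⟨hsub k.1, ⟨q k.1⟩⟩
      refine congrArg (j k.1) ((hy t ?_).trans (hy _ (pt_geomPts (q k.1))).symm)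
      rw [← hj2]; exact ht
    · exact isFinite_and_purelyInseparable_comp_left (j k.1) (pullback.snd f g) _ (hj2 k.1) _
        (isPurelyInseparable_of_subsingleton _ (q k.1) (hsub k.1))
    · rw [hv1, k.2]
      rfl
  · rintro i ⟨k, hk⟩ i' ⟨k', hk'⟩ hv
    obtain rfl : k = k' := by
      by_contra hne
      refine not_mem_range_of_ne (hP k) (hP k') (q k) (q k') (hsub k) (hsub k') ?_ (v k) (hv2 k)
        ⟨_, rfl⟩ ⟨_, hv.symm⟩
      intro h
      rw [← Category.assoc, ← Category.assoc, cancel_mono, hq, hq] at h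
      exact hne (e.symm.injective (Subtype.ext (Subtype.ext h)))
    obtain rfl : i = i' := hinj (congrArg Subtype.val (hk.symm.trans hk'))
    exact ⟨rfl, HEq.rfl⟩
  · intro w i hwu hwx
    haveI : LocallyQuasiFinite (pullback.snd (W.ι ≫ f) g) :=
      MorphismProperty.pullback_snd _ _ ‹LocallyQuasiFinite (W.ι ≫ f)›
    haveI : LocallyOfFiniteType (pullback.snd (W.ι ≫ f) g) :=
      MorphismProperty.pullback_snd _ _ inferInstance
    let m : pullback (W.ι ≫ f) g ⟶ pullback f g :=
      pullback.lift (pullback.fst _ _ ≫ W.ι) (pullback.snd _ _) (by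
        rw [Category.assoc]; exact pullback.condition)
    obtain ⟨w', rfl⟩ : ∃ w', m w' = w := by
      let ξ := (pullback f g).fromSpecResidueField w
      have hr : Set.range (ξ ≫ pullback.fst f g) ⊆ Set.range W.ι := by
        rintro _ ⟨t, rfl⟩
        rw [Scheme.Opens.range_ι, Scheme.Hom.comp_apply, Scheme.fromSpecResidueField_apply, hwx]
        exact hx i
      let ℓ : Spec ((pullback f g).residueField w) ⟶ pullback (W.ι ≫ f) g :=
        pullback.lift (IsOpenImmersion.lift W.ι _ hr) (ξ ≫ pullback.snd f g) (by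
          rw [IsOpenImmersion.lift_fac_assoc, Category.assoc, pullback.condition, Category.assoc])
      obtain ⟨t⟩ : Nonempty ↥(Spec ((pullback f g).residueField w)) := inferInstance
      refine ⟨ℓ t, ?_⟩
      rw [← Scheme.Hom.comp_apply, show ℓ ≫ m = ξ by
        apply pullback.hom_ext
        · rw [Category.assoc, pullback.lift_fst, pullback.lift_fst_assoc, IsOpenImmersion.lift_fac]
        · rw [Category.assoc, pullback.lift_snd, pullback.lift_snd]]
      exact Scheme.fromSpecResidueField_apply _ t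
    have hw'u : pullback.snd (W.ι ≫ f) g w' = pt p := by
      rw [← hwu, ← Scheme.Hom.comp_apply m, pullback.lift_snd]
    obtain ⟨⟨⟨c, hc⟩, hcw⟩⟩ :
        Nonempty {c : GeomPts (pullback.snd (W.ι ≫ f) g) p // pt c.1 = w'} := by
      refine (Nat.card_ne_zero.mp ?_).1
      rw [(card_geomPts_over (pullback.snd (W.ι ≫ f) g) p w' hw'u).2]
      letI := ((pullback.snd (W.ι ≫ f) g).residueFieldMap w').hom.toAlgebra
      haveI : Module.Finite (U₀.residueField (pullback.snd (W.ι ≫ f) g w'))
          ((pullback (W.ι ≫ f) g).residueField w') := finite_residueFieldMap _ w'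
      exact NeZero.ne _
    have hc1 : pt (c ≫ pullback.fst (W.ι ≫ f) g) = (⟨x i, hx i⟩ : W) := by
      apply Subtype.ext
      rw [pt_comp, hcw]
      show _ = x i
      rw [← Scheme.Hom.comp_apply m, pullback.lift_fst] at hwx
      exact hwx
    let r : R := ⟨⟨c ≫ pullback.fst (W.ι ≫ f) g, by
      rw [Category.assoc, pullback.condition, ← Category.assoc, hc, hp]⟩,
      i, hc1⟩
    refine ⟨⟨e r, by rw [Equiv.symm_apply_apply]; exact hc1⟩, ?_⟩
    show m w' = j (e r) (pt (q (e r)).1)
    rw [← hcw, ← pt_comp, ← pt_comp]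
    congr 1
    apply pullback.hom_ext
    · rw [Category.assoc, Category.assoc, pullback.lift_fst, pullback.lift_fst,
        ← Category.assoc (q (e r)).1, hq, Equiv.symm_apply_apply]
      show c ≫ _ = (c ≫ _) ≫ _
      rw [Category.assoc]
    · rw [Category.assoc, Category.assoc, hj2, (q (e r)).2]
      show c ≫ m ≫ _ = _
      rw [pullback.lift_snd, hc]

theorem exists_nbhd_residueField (S : Scheme.{u}) (s : S) (k : Type u) [Field k]
    [Algebra (S.residueField s) k] [FiniteDimensional (S.residueField s) k]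
    [Algebra.IsSeparable (S.residueField s) k] :
    ∃ (U : Scheme.{u}) (g : U ⟶ S) (u : U) (hu : g u = s), Etale g ∧
      letI := ((S.residueFieldCongr hu).inv ≫ g.residueFieldMap u).hom.toAlgebra
      Nonempty (k ≃ₐ[S.residueField s] U.residueField u) := by
  classical
  let φ : S.residueField s ⟶ CommRingCat.of k :=
    CommRingCat.ofHom (algebraMap (S.residueField s) k)
  let b := Module.Free.chooseBasis (S.residueField s) k
  have halg : φ.hom.toAlgebra = (inferInstance : Algebra (S.residueField s) k) :=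
    Algebra.algebra_ext _ _ fun _ ↦ rfl
  obtain ⟨U, g, he, u, ψ, hψ, hE⟩ := exists_etale_nbhd s φ (Set.range b) (Set.finite_range _)
    (fun a _ ↦ by rw [halg]; exact Algebra.IsSeparable.isSeparable _ a)
  have hu : g u = s := by
    have := congrArg pt hψ
    rw [pt_comp, pt_mk, pt_mk] at this
    exact this
  subst hu
  have hcomm : g.residueFieldMap u ≫ ψ = φ := by
    apply Spec.map_injective
    rw [← cancel_mono (S.fromSpecResidueField (g u)), ← hψ, Spec.map_comp, Category.assoc,
      g.SpecMap_residueFieldMap_fromSpecResidueField, Category.assoc]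
  refine ⟨U, g, u, rfl, he, ?_⟩
  letI := ((S.residueFieldCongr (rfl : g u = g u)).inv ≫ g.residueFieldMap u).hom.toAlgebra
  let Ψ : U.residueField u →ₐ[S.residueField (g u)] k :=
    ⟨ψ.hom, fun c ↦ by
      show ψ.hom (((S.residueFieldCongr (rfl : g u = g u)).inv ≫ g.residueFieldMap u).hom c) = φ.hom c
      simpa using congrArg (fun m ↦ m.hom c) hcomm⟩
  refine ⟨(AlgEquiv.ofBijective Ψ ⟨Ψ.toRingHom.injective, ?_⟩).symm⟩
  rw [← AlgHom.range_eq_top, eq_top_iff]
  intro z _
  have hz : z ∈ Submodule.span (S.residueField (g u)) (Set.range b) := by rw [b.span_eq]; trivial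
  exact (Submodule.span_le.mpr (show Set.range b ⊆ (Ψ.range.toSubmodule : Set k) from hE) :) hz

end GrothLib.Weight
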