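import Groth.Agent.Lib.Weight.Weighting
import Mathlib.AlgebraicGeometry.Limits

/-! # Families of pieces through the points of a fibre -/

universe u

open CategoryTheory Limits AlgebraicGeometry Topology

namespace GrothLib.Weight

open MoreMor

theorem isFinite_coprodDesc {U W Z : Scheme.{u}} (a : U ⟶ Z) (b : W ⟶ Z) [IsFinite a]
    [IsFinite b] : IsFinite (coprod.desc a b) := inferInstance

/-- A scheme covered by finitely many disjoint opens finite over the base is finite over it. -/
theorem isFinite_of_cover {V P : Scheme.{u}} (π : P ⟶ V) (n : ℕ) (T : Fin n → Scheme.{u})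
    (j : ∀ i, T i ⟶ P) [∀ i, IsOpenImmersion (j i)] (hfin : ∀ i, IsFinite (j i ≫ π))
    (hcov : ∀ x : P, ∃! i, x ∈ Set.range (j i)) : IsFinite π := by
  induction n generalizing P with
  | zero =>
    haveI : IsEmpty P := ⟨fun x ↦ (hcov x).exists.elim fun i _ ↦ i.elim0⟩
    infer_instance
  | succ n ih =>
    let A : P.Opens := (j 0).opensRange
    let C : P.Opens := ⨆ i : Fin n, (j i.succ).opensRange
    have hmemC : ∀ x, x ∈ C ↔ ∃ i : Fin n, x ∈ Set.range (j i.succ) := fun x ↦
      TopologicalSpace.Opens.mem_iSup.trans Iff.rfl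
    have hAC : IsCompl A C := by
      constructor
      · rw [disjoint_iff]
        ext x
        simp only [TopologicalSpace.Opens.coe_inf, Set.mem_inter_iff, TopologicalSpace.Opens.coe_bot,
          Set.mem_empty_iff_false, iff_false, not_and]
        intro hA hC
        obtain ⟨i, hi⟩ := (hmemC x).mp hC
        exact Fin.succ_ne_zero i ((hcov x).unique hi hA)
      · rw [codisjoint_iff]
        ext x
        simp only [TopologicalSpace.Opens.coe_sup, Set.mem_union, TopologicalSpace.Opens.coe_top,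
          Set.mem_univ, iff_true]
        obtain ⟨i, hi, -⟩ := hcov x
        cases i using Fin.cases with
        | zero => exact Or.inl hi
        | succ i => exact Or.inr ((hmemC x).mpr ⟨i, hi⟩)
    let k : ∀ i : Fin n, T i.succ ⟶ (C : Scheme.{u}) := fun i ↦
      IsOpenImmersion.lift C.ι (j i.succ) (by
        rintro _ ⟨t, rfl⟩
        rw [Scheme.Opens.range_ι]
        exact (hmemC _).mpr ⟨i, t, rfl⟩)
    have hk : ∀ i, k i ≫ C.ι = j i.succ := fun i ↦ IsOpenImmersion.lift_fac _ _ _
    haveI : ∀ i, IsOpenImmersion (k i) := fun i ↦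
      haveI : IsOpenImmersion (k i ≫ C.ι) := (hk i).symm ▸ inferInstance
      IsOpenImmersion.of_comp (k i) C.ι
    have hC : IsFinite (C.ι ≫ π) := by
      refine ih (C.ι ≫ π) (fun i ↦ T i.succ) k (fun i ↦ ?_) (fun x ↦ ?_)
      · rw [← Category.assoc, hk]; exact hfin _
      · obtain ⟨i, y, hy⟩ := (hmemC (C.ι x)).mp x.2
        refine ⟨i, ⟨y, C.ι.isOpenEmbedding.injective ?_⟩, fun i' ⟨y', hy'⟩ ↦ ?_⟩
        · rw [← Scheme.Hom.comp_apply, hk]; exact hy
        · refine Fin.succ_injective _ ((hcov (C.ι x)).unique ⟨y', ?_⟩ ⟨y, hy⟩)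
          rw [← hy', ← Scheme.Hom.comp_apply, hk]
    haveI := hfin 0
    haveI := hC
    obtain ⟨H⟩ := nonempty_isColimit_binaryCofanMk_of_isCompl (j 0) C.ι
      (by rwa [Scheme.Opens.opensRange_ι])
    let e : P ≅ T 0 ⨿ (C : Scheme.{u}) :=
      H.coconePointUniqueUpToIso (colimit.isColimit (pair (T 0) (C : Scheme.{u})))
    have hinv : e.inv = coprod.desc (j 0) C.ι := by
      apply coprod.hom_ext
      · rw [coprod.inl_desc]
        exact H.comp_coconePointUniqueUpToIso_inv _ ⟨WalkingPair.left⟩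
      · rw [coprod.inr_desc]
        exact H.comp_coconePointUniqueUpToIso_inv _ ⟨WalkingPair.right⟩
    have : IsFinite (e.inv ≫ π) := by
      rw [hinv, coprod.desc_comp]
      exact @isFinite_coprodDesc _ _ _ _ _ (hfin 0) hC
    exact (MorphismProperty.cancel_left_of_respectsIso @IsFinite e.inv π).mp this

variable {X Y : Scheme.{u}} {f : X ⟶ Y}

/-- Two radicial pieces through different geometric points do not meet over the base point. -/
theorem not_mem_range_of_ne {V T T' : Scheme.{u}} {g : V ⟶ Y} {π : T ⟶ V} {a : T ⟶ X}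
    {π' : T' ⟶ V} {a' : T' ⟶ X} (hP : Piece f g π a) (hP' : Piece f g π' a')
    {Ω : Type u} [Field Ω] [IsAlgClosed Ω] {p : Spec (CommRingCat.of Ω) ⟶ V}
    (q : GeomPts π p) (q' : GeomPts π' p) (hs : Subsingleton (GeomPts π p))
    (hs' : Subsingleton (GeomPts π' p)) (hne : q.1 ≫ a ≠ q'.1 ≫ a') (x : ↑(pullback f g))
    (hx : pullback.snd f g x = pt p)
    (h : x ∈ Set.range (pullback.lift a π hP.w : T ⟶ pullback f g))
    (h' : x ∈ Set.range (pullback.lift a' π' hP'.w : T' ⟶ pullback f g)) : False := by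
  haveI := hP.finite
  haveI := hP'.finite
  haveI := hP.openImmersion
  haveI := hP'.openImmersion
  obtain ⟨t, rfl⟩ := h
  obtain ⟨x₀, hx₀, hx₀u, -⟩ := fibreIntegral_subsingleton π p ⟨hs, ⟨q⟩⟩
  have ht : t = pt q.1 := (hx₀u t (by rw [← hx, ← Scheme.Hom.comp_apply, pullback.lift_snd])).trans
    (hx₀u _ (pt_geomPts q)).symm
  subst ht
  have hr : Set.range (q.1 ≫ (pullback.lift a π hP.w : T ⟶ pullback f g)) ⊆
      Set.range (pullback.lift a' π' hP'.w : T' ⟶ pullback f g) :=
    range_subset_of_pt_mem _ h'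
  let ℓ := IsOpenImmersion.lift (pullback.lift a' π' hP'.w : T' ⟶ pullback f g)
    (q.1 ≫ (pullback.lift a π hP.w : T ⟶ pullback f g)) hr
  have hℓ : ℓ ≫ (pullback.lift a' π' hP'.w : T' ⟶ pullback f g) =
      q.1 ≫ (pullback.lift a π hP.w : T ⟶ pullback f g) := IsOpenImmersion.lift_fac _ _ _
  let r : GeomPts π' p := ⟨ℓ, by
    have h2 := congrArg (fun m ↦ m ≫ pullback.snd f g) hℓ
    simpa only [Category.assoc, pullback.lift_snd, q.2] using h2⟩
  apply hne
  rw [← Subsingleton.elim r q']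
  have h2 := congrArg (fun m ↦ m ≫ pullback.fst f g) hℓ
  simpa only [Category.assoc, pullback.lift_fst] using h2.symm

/-- Charts through finitely many geometric points, over one etale neighbourhood. -/
theorem exists_charts [LocallyQuasiFinite f] [LocallyOfFiniteType f] {Ω : Type u} [Field Ω]
    [IsAlgClosed Ω] (p₀ : Spec (CommRingCat.of Ω) ⟶ Y) (n : ℕ) (r : Fin n → GeomPts f p₀) :
    ∃ (U : Scheme.{u}) (g : U ⟶ Y) (_ : Etale g) (p : Spec (CommRingCat.of Ω) ⟶ U)
      (_ : p ≫ g = p₀) (T : Fin n → Scheme.{u}) (π : ∀ i, T i ⟶ U) (a : ∀ i, T i ⟶ X)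
      (q : ∀ i, GeomPts (π i) p),
      (∀ i, Piece f g (π i) (a i)) ∧ (∀ i, Subsingleton (GeomPts (π i) p)) ∧
      (∀ i, (q i).1 ≫ a i = (r i).1) := by
  induction n with
  | zero =>
    exact ⟨Y, 𝟙 Y, inferInstance, p₀, Category.comp_id _, Fin.elim0, fun i ↦ i.elim0,
      fun i ↦ i.elim0, fun i ↦ i.elim0, fun i ↦ i.elim0, fun i ↦ i.elim0, fun i ↦ i.elim0⟩
  | succ n ih =>
    obtain ⟨U₁, g₁, _, p₁, hp₁, T₁, π₁, a₁, q₁, hP₁, hs₁, hq₁⟩ := exists_chart p₀ (r 0)
    obtain ⟨U, g, _, p, hp, T, π, a, q, hP, hs, hq⟩ := ih (fun i ↦ r i.succ)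
    let e : pullback g₁ g ⟶ U₁ := pullback.fst g₁ g
    let c : pullback g₁ g ⟶ U := pullback.snd g₁ g
    let p' : Spec (CommRingCat.of Ω) ⟶ pullback g₁ g := pullback.lift p₁ p (hp₁.trans hp.symm)
    have hcg : c ≫ g = e ≫ g₁ := pullback.condition.symm
    let T' : Fin (n + 1) → Scheme.{u} := Fin.cons (pullback π₁ e) fun i ↦ pullback (π i) c
    let π' : ∀ i, T' i ⟶ pullback g₁ g := Fin.cases (motive := fun i ↦ T' i ⟶ pullback g₁ g)
      (pullback.snd π₁ e) fun i ↦ pullback.snd (π i) c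
    let a' : ∀ i, T' i ⟶ X := Fin.cases (motive := fun i ↦ T' i ⟶ X)
      (pullback.fst π₁ e ≫ a₁) fun i ↦ pullback.fst (π i) c ≫ a i
    let q' : ∀ i, GeomPts (π' i) p' := Fin.cases (motive := fun i ↦ GeomPts (π' i) p')
      ⟨pullback.lift q₁.1 p' (q₁.2.trans (pullback.lift_fst _ _ _).symm), pullback.lift_snd _ _ _⟩
      fun i ↦ ⟨pullback.lift (q i).1 p' ((q i).2.trans (pullback.lift_snd _ _ _).symm),
        pullback.lift_snd _ _ _⟩
    refine ⟨pullback g₁ g, e ≫ g₁, inferInstance, p', ?_, T', π', a', q', ?_, ?_, ?_⟩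
    · rw [← Category.assoc, pullback.lift_fst, hp₁]
    · intro i
      cases i using Fin.cases with
      | zero => exact hP₁.baseChange (IsPullback.of_hasPullback π₁ e)
      | succ i => rw [← hcg]; exact (hP i).baseChange (IsPullback.of_hasPullback (π i) c)
    · intro i
      cases i using Fin.cases with
      | zero =>
        exact (geomPtsEquiv (IsPullback.of_hasPullback π₁ e) p' p₁
          (pullback.lift_fst _ _ _)).subsingleton
      | succ i =>
        haveI := hs i
        exact (geomPtsEquiv (IsPullback.of_hasPullback (π i) c) p' p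
          (pullback.lift_snd _ _ _)).subsingleton
    · intro i
      cases i using Fin.cases with
      | zero =>
        show pullback.lift q₁.1 p' _ ≫ pullback.fst π₁ e ≫ a₁ = _
        rw [pullback.lift_fst_assoc, hq₁]
      | succ i =>
        show pullback.lift (q i).1 p' _ ≫ pullback.fst (π i) c ≫ a i = _
        rw [pullback.lift_fst_assoc, hq]

/-- Comparison of the fibre integral with the integrals over pieces disjoint on the fibre. -/
theorem sum_pieces [LocallyQuasiFinite f] [LocallyOfFiniteType f] {V : Scheme.{u}} {g : V ⟶ Y}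
    {n : ℕ} {T : Fin n → Scheme.{u}} {π : ∀ i, T i ⟶ V} {a : ∀ i, T i ⟶ X}
    (hP : ∀ i, Piece f g (π i) (a i)) (w : X → ℤ) (z : V) (hfin : (f ⁻¹' {g z}).Finite)
    (hdisj : ∀ i k, i ≠ k → ∀ x : ↑(pullback f g), pullback.snd f g x = z →
      x ∈ Set.range (pullback.lift (a i) (π i) (hP i).w : T i ⟶ pullback f g) →
      x ∉ Set.range (pullback.lift (a k) (π k) (hP k).w : T k ⟶ pullback f g)) :
    ((∀ x : ↑(pullback f g), pullback.snd f g x = z → ∃ i,
        x ∈ Set.range (pullback.lift (a i) (π i) (hP i).w : T i ⟶ pullback f g)) →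
      fibreIntegral f w (g z) = ∑ i, fibreIntegral (π i) (w ∘ ⇑(a i)) z) ∧
    ((∀ x, 0 < w x) → ∑ i, fibreIntegral (π i) (w ∘ ⇑(a i)) z ≤ fibreIntegral f w (g z)) ∧
    ((∀ x, 0 < w x) → ∑ i, fibreIntegral (π i) (w ∘ ⇑(a i)) z = fibreIntegral f w (g z) →
      ∀ x : ↑(pullback f g), pullback.snd f g x = z → ∃ i,
        x ∈ Set.range (pullback.lift (a i) (π i) (hP i).w : T i ⟶ pullback f g)) := by
  classical
  obtain ⟨Ω, _, _, p, rfl⟩ := exists_pt z
  haveI : ∀ i, IsFinite (π i) := fun i ↦ (hP i).finite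
  haveI : ∀ i, Finite (GeomPts (π i) p) := fun i ↦
    finite_geomPts (π i) p ((π i).finite_preimage_singleton _)
  haveI : Finite (GeomPts f (p ≫ g)) := finite_geomPts f (p ≫ g) hfin
  haveI : ∀ i, Fintype (GeomPts (π i) p) := fun i ↦ Fintype.ofFinite _
  haveI : Fintype (GeomPts f (p ≫ g)) := Fintype.ofFinite _
  let j : ∀ i, T i ⟶ pullback f g := fun i ↦ pullback.lift (a i) (π i) (hP i).w
  haveI : ∀ i, IsOpenImmersion (j i) := fun i ↦ (hP i).openImmersion
  let Φ : (Σ i, GeomPts (π i) p) → GeomPts f (p ≫ g) := fun x ↦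
    ⟨x.2.1 ≫ a x.1, by rw [Category.assoc, (hP x.1).w, ← Category.assoc, x.2.2]⟩
  have hsnd : ∀ (i) (q : GeomPts (π i) p), pullback.snd f g (pt (q.1 ≫ j i)) = pt p := fun i q ↦ by
    rw [← pt_comp, Category.assoc, pullback.lift_snd, q.2]
  have hinj : Function.Injective Φ := by
    rintro ⟨i, q⟩ ⟨k, q'⟩ h
    have h' : q.1 ≫ j i = q'.1 ≫ j k := by
      apply pullback.hom_ext
      · rw [Category.assoc, Category.assoc, pullback.lift_fst, pullback.lift_fst]
        exact congrArg Subtype.val h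
      · rw [Category.assoc, Category.assoc, pullback.lift_snd, pullback.lift_snd, q.2, q'.2]
    obtain rfl : i = k := by
      by_contra hne
      exact hdisj i k hne _ (hsnd i q) ⟨pt q.1, rfl⟩ ⟨pt q'.1, (congrArg pt h').symm⟩
    rw [cancel_mono] at h'
    exact congrArg (Sigma.mk i) (Subtype.ext h')
  have hL : ∑ i, fibreIntegral (π i) (w ∘ ⇑(a i)) (pt p) =
      ∑ q ∈ Finset.univ.image Φ, w (pt q.1) := by
    rw [Finset.sum_image hinj.injOn, Finset.univ_sigma_univ.symm, Finset.sum_sigma]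
    refine Finset.sum_congr rfl fun i _ ↦ ?_
    rw [fibreIntegral_eq (π i) p, finsum_eq_sum_of_fintype]
    rfl
  have hR : fibreIntegral f w (g (pt p)) = ∑ q : GeomPts f (p ≫ g), w (pt q.1) := by
    rw [← pt_comp, fibreIntegral_eq f (p ≫ g), finsum_eq_sum_of_fintype]
  have himg : ∀ q : GeomPts f (p ≫ g), (∃ i, pt (pullback.lift q.1 p q.2) ∈ Set.range (j i)) →
      q ∈ Finset.univ.image Φ := by
    rintro q ⟨i, hi⟩
    let s := IsOpenImmersion.lift (j i) _ (range_subset_of_pt_mem _ hi)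
    have hs : s ≫ j i = pullback.lift q.1 p q.2 := IsOpenImmersion.lift_fac _ _ _
    refine Finset.mem_image.mpr ⟨⟨i, ⟨s, ?_⟩⟩, Finset.mem_univ _, Subtype.ext ?_⟩
    · have := congrArg (fun m ↦ m ≫ pullback.snd f g) hs
      simpa only [j, Category.assoc, pullback.lift_snd] using this
    · have := congrArg (fun m ↦ m ≫ pullback.fst f g) hs
      simpa only [j, Category.assoc, pullback.lift_fst] using this
  refine ⟨fun hcov ↦ ?_, fun hpos ↦ ?_, fun hpos heq x hx ↦ ?_⟩
  · rw [hL, hR]
    refine (Finset.sum_subset (Finset.subset_univ _) fun q _ hq ↦ ?_).symm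
    refine (hq (himg q (hcov _ ?_))).elim
    rw [← pt_comp, pullback.lift_snd]
  · rw [hL, hR]
    exact Finset.sum_le_sum_of_subset_of_nonneg (Finset.subset_univ _) fun q _ _ ↦ (hpos _).le
  · by_contra! hnot
    -- a geometric point through `x` is missed
    haveI : LocallyQuasiFinite (pullback.snd f g) :=
      MorphismProperty.pullback_snd _ _ ‹LocallyQuasiFinite f›
    haveI : LocallyOfFiniteType (pullback.snd f g) :=
      MorphismProperty.pullback_snd _ _ ‹LocallyOfFiniteType f›
    obtain ⟨⟨⟨c, hc⟩, hcx⟩⟩ : Nonempty {c : GeomPts (pullback.snd f g) p // pt c.1 = x} := by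
      refine (Nat.card_ne_zero.mp ?_).1
      rw [(card_geomPts_over (pullback.snd f g) p x hx).2]
      letI := ((pullback.snd f g).residueFieldMap x).hom.toAlgebra
      haveI : Module.Finite (V.residueField (pullback.snd f g x))
          ((pullback f g).residueField x) := finite_residueFieldMap _ x
      exact NeZero.ne _
    let q : GeomPts f (p ≫ g) := ⟨c ≫ pullback.fst f g, by
      rw [Category.assoc, pullback.condition, ← Category.assoc, hc]⟩
    have hq : q ∉ Finset.univ.image Φ := by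
      intro hmem
      obtain ⟨⟨i, s⟩, -, hs⟩ := Finset.mem_image.mp hmem
      refine hnot i ⟨pt s.1, ?_⟩
      rw [← hcx]
      show pt (s.1 ≫ j i) = pt c
      congr 1
      apply pullback.hom_ext
      · rw [Category.assoc, pullback.lift_fst]
        exact congrArg Subtype.val hs
      · rw [Category.assoc, pullback.lift_snd, s.2, hc]
    rw [hL, hR] at heq
    exact (Finset.sum_lt_sum_of_subset (Finset.subset_univ _) (Finset.mem_univ q) hq (hpos _)
      fun _ _ _ ↦ (hpos _).le).ne heq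

end GrothLib.Weight
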