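import Groth.Agent.Lib.Weight.FiniteParts
import Groth.Agent.Lib.Weight.Family
import Groth.Agent.Lib.Weight.Multiplicity

/-! # Splitting off the isolated points of a fibre -/

universe u

open CategoryTheory Limits AlgebraicGeometry Topology

namespace GrothLib.Weight

/-- An open which is a finite union of clopen pieces finite over the base is finite over it. -/
theorem isFinite_union {P U : Scheme.{u}} (π : P ⟶ U) [IsSeparated π] (n : ℕ)
    (V : Fin n → P.Opens) (hV : ∀ i, IsFinite ((V i).ι ≫ π)) :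
    IsClopen (⋃ i, (V i : Set P)) ∧ IsFinite ((⨆ i, V i).ι ≫ π) := by
  have hclosed : ∀ i, IsClosed (V i : Set P) := fun i ↦ by
    haveI := hV i
    haveI : IsFinite (V i).ι := IsFinite.of_comp _ π
    simpa using (V i).ι.isClosedMap.isClosed_range
  refine ⟨⟨isClosed_iUnion_of_finite hclosed, isOpen_iUnion fun i ↦ (V i).2⟩, ?_⟩
  -- disjointify
  let W : Fin n → P.Opens := fun i ↦ ⟨(V i : Set P) ∩ (⋃ k ∈ {k | k < i}, (V k : Set P))ᶜ,
    (V i).2.inter ((Set.toFinite _).isClosed_biUnion fun k _ ↦ hclosed k).isOpen_compl⟩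
  have hWV : ∀ i, W i ≤ V i := fun i ↦ Set.inter_subset_left
  have hWsup : ∀ i, W i ≤ ⨆ k, V k := fun i ↦ (hWV i).trans (le_iSup V i)
  refine isFinite_of_cover _ n (fun i ↦ (W i : Scheme.{u})) (fun i ↦ P.homOfLE (hWsup i))
    (fun i ↦ ?_) fun x ↦ ?_
  · rw [← Category.assoc, P.homOfLE_ι, ← P.homOfLE_ι (hWV i), Category.assoc]
    haveI := hV i
    haveI : IsClosedImmersion (P.homOfLE (hWV i)) := .of_isPreimmersion _ (by
      have : Set.range (P.homOfLE (hWV i)) = (V i).ι ⁻¹' (W i : Set P) := by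
        ext z
        constructor
        · rintro ⟨t, rfl⟩
          show (P.homOfLE (hWV i) ≫ (V i).ι) t ∈ W i
          rw [P.homOfLE_ι]
          exact t.2
        · intro hz
          exact ⟨⟨_, hz⟩, (V i).ι.isOpenEmbedding.injective (by
            rw [← Scheme.Hom.comp_apply, P.homOfLE_ι]; rfl)⟩
      rw [this]
      refine ⟨?_⟩
      have h2 : ((V i).ι ⁻¹' (W i : Set P))ᶜ = ⋃ k ∈ {k | k < i}, (V i).ι ⁻¹' (V k : Set P) := by
        ext z
        simp only [W, Set.mem_compl_iff, Set.mem_preimage, TopologicalSpace.Opens.coe_mk,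
          Set.mem_inter_iff, not_and, not_not, Set.mem_iUnion]
        exact ⟨fun h ↦ h z.2, fun h _ ↦ h⟩
      rw [h2]
      exact isOpen_biUnion fun k _ ↦ (V k).2.preimage (V i).ι.continuous)
    infer_instance
  · have hx : (x.1 : P) ∈ ⨆ k, V k := x.2
    rw [TopologicalSpace.Opens.mem_iSup] at hx
    classical
    obtain ⟨k₀, hk₀⟩ := hx
    let S := Finset.univ.filter fun k ↦ x.1 ∈ V k
    have hS : S.Nonempty := ⟨k₀, Finset.mem_filter.mpr ⟨Finset.mem_univ _, hk₀⟩⟩
    have hmin : ∀ k, x.1 ∈ V k → S.min' hS ≤ k := fun k hk ↦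
      Finset.min'_le S k (Finset.mem_filter.mpr ⟨Finset.mem_univ _, hk⟩)
    have hmemV : x.1 ∈ V (S.min' hS) := (Finset.mem_filter.mp (S.min'_mem hS)).2
    have hmem : x.1 ∈ W (S.min' hS) := by
      refine ⟨hmemV, ?_⟩
      simp only [Set.mem_compl_iff, Set.mem_iUnion, Set.mem_setOf_eq, not_exists]
      exact fun k hk hxk ↦ absurd (hmin k hxk) (not_le.mpr hk)
    refine ⟨S.min' hS, ⟨⟨x.1, hmem⟩, (Scheme.Opens.ι _).isOpenEmbedding.injective (by
      rw [← Scheme.Hom.comp_apply, P.homOfLE_ι]; rfl)⟩, ?_⟩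
    rintro k ⟨t, rfl⟩
    have ht : (P.homOfLE (hWsup k) ≫ (⨆ k, V k).ι) t = t.1 := by rw [P.homOfLE_ι]; rfl
    have hk : (P.homOfLE (hWsup k) t).1 ∈ W k := by
      show (P.homOfLE (hWsup k) ≫ (⨆ k, V k).ι) t ∈ W k
      rw [ht]; exact t.2
    refine le_antisymm ?_ (hmin k hk.1)
    refine not_lt.mp fun hlt ↦ ?_
    exact hk.2 (Set.mem_iUnion₂.mpr ⟨_, hlt, hmemV⟩)

/-- After an elementary etale localisation the isolated points of a fibre lie in a finite clopen
part and no isolated point is outside it. -/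
theorem exists_finite_isolated_part {X S : Scheme.{u}} (f : X ⟶ S) [LocallyOfFiniteType f]
    [IsSeparated f] (s : S)
    (hfin : {x : ↑(f.fiber s) | IsOpen ({x} : Set ↑(f.fiber s))}.Finite) :
    ∃ (U : Scheme.{u}) (g : U ⟶ S) (u : U), Hens2.IsEtaleNbhd g u s ∧
      ∃ V : (pullback f g).Opens, IsClopen (V : Set ↑(pullback f g)) ∧
        IsFinite (V.ι ≫ pullback.snd f g) ∧
        ∀ w : ↑((pullback.snd f g).fiber u), (pullback.snd f g).fiberι u w ∉ V →
          ¬ IsOpen ({w} : Set ↑((pullback.snd f g).fiber u)) := by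
  obtain ⟨n, ⟨e⟩⟩ := @Finite.exists_equiv_fin _ hfin.to_subtype
  let x : Fin n → X := fun i ↦ f.fiberι s (e.symm i).1
  have hs : ∀ i, f (x i) = s := fun i ↦ (f.fiberHomeo s (e.symm i).1).2
  have hiso : ∀ a : f.fiber s, IsOpen ({a} : Set ↑(f.fiber s)) → f.QuasiFiniteAt (f.fiberι s a) := by
    intro a ha
    obtain ⟨⟨y, hy⟩, rfl⟩ := (f.fiberHomeo s).symm.surjective a
    obtain rfl : f y = s := hy
    rw [Scheme.Hom.fiberι_fiberHomeo_symm, Scheme.Hom.quasiFiniteAt_iff_isOpen_singleton_asFiber]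
    exact ha
  obtain ⟨U, g, u, hu, h⟩ := exists_finite_parts s x hs
    (fun i ↦ hiso _ (e.symm i).2) Finset.univ
  obtain ⟨hge, hgu, hgb⟩ := id hu
  haveI := hge
  haveI : LocallyQuasiFinite g := locallyQuasiFinite_of_formallyUnramified g
  choose V v hvV hVfin hvu huniq hvx hvb using fun i ↦ h i (Finset.mem_univ i)
  obtain ⟨hclopen, hfinite⟩ := isFinite_union (pullback.snd f g) n V hVfin
  refine ⟨U, g, u, hu, ⨆ i, V i, by rwa [TopologicalSpace.Opens.coe_iSup], hfinite,
    fun w hwV hw ↦ ?_⟩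
  set z := (pullback.snd f g).fiberι u w
  have hzu : pullback.snd f g z = u := ((pullback.snd f g).fiberHomeo u w).2
  have hzs : f (pullback.fst f g z) = s := by
    rw [← Scheme.Hom.comp_apply, pullback.condition, Scheme.Hom.comp_apply, hzu, hgu]
  -- the image is isolated in the fibre of `f`
  have h1 : IsOpen ({⟨z, hzu⟩} : Set ↥(pullback.snd f g ⁻¹' {u})) := by
    have := ((pullback.snd f g).fiberHomeo u).isOpen_image.mpr hw
    rwa [Set.image_singleton] at this
  obtain ⟨O, hO, hOz⟩ := isOpen_induced_iff.mp h1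
  haveI : DiscreteTopology (g ⁻¹' {s}) :=
    isDiscrete_iff_discreteTopology.mp (g.isDiscrete_preimage_singleton s)
  obtain ⟨A, hA, hAu⟩ := isOpen_induced_iff.mp (isOpen_discrete ({⟨u, hgu⟩} : Set ↥(g ⁻¹' {s})))
  have huA : u ∈ A := by
    have : (⟨u, hgu⟩ : ↥(g ⁻¹' {s})) ∈ Subtype.val ⁻¹' A := by rw [hAu]; rfl
    exact this
  have hzO : z ∈ O := by
    have : (⟨z, hzu⟩ : ↥(pullback.snd f g ⁻¹' {u})) ∈ Subtype.val ⁻¹' O := by rw [hOz]; rfl
    exact this
  let O' := (pullback.fst f g) '' (O ∩ pullback.snd f g ⁻¹' A)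
  have hO' : IsOpen O' :=
    (pullback.fst f g).isOpenMap _ (hO.inter (hA.preimage (pullback.snd f g).continuous))
  obtain ⟨a, ha⟩ : pullback.fst f g z ∈ Set.range (f.fiberι s) := by
    rw [Scheme.Hom.range_fiberι]; exact hzs
  have haopen : IsOpen ({a} : Set ↑(f.fiber s)) := by
    have : ({a} : Set ↑(f.fiber s)) = f.fiberι s ⁻¹' O' := by
      refine Set.eq_of_subset_of_subset ?_ fun b hb ↦ ?_
      · rintro _ rfl
        exact ⟨z, ⟨hzO, by show _ ∈ A; rw [hzu]; exact huA⟩, ha.symm⟩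
      · obtain ⟨z', ⟨hz'O, hz'A⟩, hz'b⟩ := hb
        have hz's : g (pullback.snd f g z') = s := by
          rw [← Scheme.Hom.comp_apply, ← pullback.condition, Scheme.Hom.comp_apply, hz'b]
          exact (f.fiberHomeo s b).2
        have hz'u : pullback.snd f g z' = u := by
          have : (⟨_, hz's⟩ : ↥(g ⁻¹' {s})) ∈ ({⟨u, hgu⟩} : Set ↥(g ⁻¹' {s})) := by
            rw [← hAu]; exact hz'A
          exact congrArg Subtype.val this
        have : (⟨z', hz'u⟩ : ↥(pullback.snd f g ⁻¹' {u})) ∈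
            ({⟨z, hzu⟩} : Set ↥(pullback.snd f g ⁻¹' {u})) := by
          rw [← hOz]; exact hz'O
        have hzz : z' = z := congrArg Subtype.val this
        refine (f.fiberι s).isEmbedding.injective ?_
        rw [ha, ← hz'b, hzz]
    rw [this]
    exact hO'.preimage (f.fiberι s).continuous
  let i := e ⟨a, haopen⟩
  have hxi : x i = pullback.fst f g z := by
    show f.fiberι s (e.symm (e ⟨a, haopen⟩)).1 = _
    rw [Equiv.symm_apply_apply]; exact ha
  obtain ⟨v₀, -, -, hv₀⟩ := existsUnique_point_over f g u hgb _ (hzs.trans hgu.symm)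
  apply hwV
  rw [TopologicalSpace.Opens.mem_iSup]
  refine ⟨i, ?_⟩
  show z ∈ V i
  rw [hv₀ z rfl hzu, ← hv₀ (v i) ((hvx i).trans hxi) (hvu i)]
  exact hvV i

end GrothLib.Weight
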