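import Groth.Agent.Lib.Weight.GeomPoints
import Mathlib.AlgebraicGeometry.PullbackCarrier

/-! # Formal properties of fibre integrals -/

universe u

open CategoryTheory Limits AlgebraicGeometry

namespace GrothLib.Weight

open MoreMor

/-- Fibre integrals commute with base change. -/
theorem fibreIntegral_isPullback {U V U' V' : Scheme.{u}} {π : U ⟶ V} [LocallyQuasiFinite π]
    [LocallyOfFiniteType π] {π' : U' ⟶ V'} {h : U' ⟶ U} {g : V' ⟶ V} (hc : IsPullback h π' π g)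
    (w : U → ℤ) (v' : V') :
    fibreIntegral π' (w ∘ ⇑h) v' = fibreIntegral π w (g v') := by
  haveI : LocallyQuasiFinite π' := MorphismProperty.of_isPullback hc ‹LocallyQuasiFinite π›
  haveI : LocallyOfFiniteType π' := MorphismProperty.of_isPullback hc ‹LocallyOfFiniteType π›
  obtain ⟨Ω, _, _, p, rfl⟩ := exists_pt v'
  rw [fibreIntegral_eq π' p, ← pt_comp p g, fibreIntegral_eq π (p ≫ g)]
  refine finsum_eq_of_bijective (fun q ↦ ⟨q.1 ≫ h, by
    rw [Category.assoc, hc.w, ← Category.assoc, q.2]⟩) ⟨fun a b hab ↦ ?_, fun q ↦ ?_⟩ (fun q ↦ rfl)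
  · exact Subtype.ext (hc.hom_ext (congrArg Subtype.val hab) (a.2.trans b.2.symm))
  · exact ⟨⟨hc.lift q.1 p q.2, hc.lift_snd _ _ _⟩, Subtype.ext (hc.lift_fst _ _ _)⟩

/-- Fibre integrals are invariant under isomorphisms of the source. -/
theorem fibreIntegral_iso_left {U U' V : Scheme.{u}} (e : U' ⟶ U) [IsIso e] (π : U ⟶ V)
    [LocallyQuasiFinite π] [LocallyOfFiniteType π] (w : U → ℤ) (v : V) :
    fibreIntegral (e ≫ π) (w ∘ ⇑e) v = fibreIntegral π w v :=
  fibreIntegral_isPullback (π := π) (g := 𝟙 V) (IsPullback.of_horiz_isIso ⟨by simp⟩) w v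

theorem finite_fibre_comp {X Y Z : Scheme.{u}} (f : X ⟶ Y) (g : Y ⟶ Z)
    (hf : ∀ y, (f ⁻¹' {y}).Finite) {z : Z} (hg : (g ⁻¹' {z}).Finite) :
    ((f ≫ g) ⁻¹' {z}).Finite :=
  (hg.preimage' fun y _ ↦ hf y : (f ⁻¹' (g ⁻¹' {z})).Finite)

/-- Fibre integrals of a composite. -/
theorem fibreIntegral_comp {X Y Z : Scheme.{u}} (f : X ⟶ Y) (g : Y ⟶ Z) [LocallyQuasiFinite f]
    [LocallyOfFiniteType f] [LocallyQuasiFinite g] [LocallyOfFiniteType g]
    (hf : ∀ y, (f ⁻¹' {y}).Finite) (z : Z) (hg : (g ⁻¹' {z}).Finite)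
    (wf : X → ℤ) (wg : Y → ℤ) :
    fibreIntegral (f ≫ g) (fun x ↦ wf x * wg (f x)) z =
      fibreIntegral g (fun y ↦ wg y * fibreIntegral f wf y) z := by
  classical
  obtain ⟨Ω, _, _, p, rfl⟩ := exists_pt z
  rw [fibreIntegral_eq (f ≫ g) p, fibreIntegral_eq g p]
  haveI : Finite (GeomPts g p) := finite_geomPts g p hg
  haveI : ∀ q : GeomPts g p, Finite (GeomPts f q.1) := fun q ↦ finite_geomPts f q.1 (hf _)
  haveI := Fintype.ofFinite (GeomPts g p)
  haveI := fun q : GeomPts g p ↦ Fintype.ofFinite (GeomPts f q.1)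
  let e : (Σ q : GeomPts g p, GeomPts f q.1) ≃ GeomPts (f ≫ g) p :=
    { toFun := fun x ↦ ⟨x.2.1, by rw [← Category.assoc, x.2.2, x.1.2]⟩
      invFun := fun r ↦ ⟨⟨r.1 ≫ f, by rw [Category.assoc, r.2]⟩, ⟨r.1, rfl⟩⟩
      left_inv := fun ⟨⟨q, hq⟩, ⟨r, hr⟩⟩ ↦ by
        obtain rfl : r ≫ f = q := hr
        rfl
      right_inv := fun r ↦ rfl }
  rw [← finsum_comp_equiv e, finsum_eq_sum_of_fintype, finsum_eq_sum_of_fintype,
    Finset.univ_sigma_univ.symm, Finset.sum_sigma]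
  refine Finset.sum_congr rfl fun q _ ↦ ?_
  rw [fibreIntegral_eq f q.1, finsum_eq_sum_of_fintype, Finset.mul_sum]
  refine Finset.sum_congr rfl fun r _ ↦ ?_
  show wf (pt r.1) * wg (f (pt r.1)) = wg (pt q.1) * wf (pt r.1)
  rw [pt_geomPts r, mul_comm]

/-- If the fibre lies in the disjoint images of finitely many open immersions, the fibre integral
splits. -/
theorem fibreIntegral_split {U V : Scheme.{u}} (π : U ⟶ V) [LocallyQuasiFinite π]
    [LocallyOfFiniteType π] {ι : Type*} [Fintype ι] (W : ι → Scheme.{u}) (j : ∀ i, W i ⟶ U)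
    [∀ i, IsOpenImmersion (j i)] (v : V) (hfin : (π ⁻¹' {v}).Finite)
    (hcov : ∀ x, π x = v → ∃! i, x ∈ Set.range (j i)) (w : U → ℤ) :
    fibreIntegral π w v = ∑ i, fibreIntegral (j i ≫ π) (w ∘ ⇑(j i)) v := by
  classical
  obtain ⟨Ω, _, _, p, rfl⟩ := exists_pt v
  haveI : Finite (GeomPts π p) := finite_geomPts π p hfin
  haveI : ∀ i, LocallyQuasiFinite (j i ≫ π) := fun i ↦ inferInstance
  haveI : ∀ i, Finite (GeomPts (j i ≫ π) p) := fun i ↦
    finite_geomPts (j i ≫ π) p (hfin.preimage (f := ⇑(j i)) (j i).isOpenEmbedding.injective.injOn)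
  haveI := fun i ↦ Fintype.ofFinite (GeomPts (j i ≫ π) p)
  haveI := Fintype.ofFinite (GeomPts π p)
  have hb : Function.Bijective (fun x : Σ i, GeomPts (j i ≫ π) p ↦
      (⟨x.2.1 ≫ j x.1, by rw [Category.assoc, x.2.2]⟩ : GeomPts π p)) := by
    constructor
    · rintro ⟨i, a⟩ ⟨k, b⟩ h
      have h' : a.1 ≫ j i = b.1 ≫ j k := congrArg Subtype.val h
      obtain ⟨l, -, hl⟩ := hcov (pt (a.1 ≫ j i)) (by rw [pt_comp]; exact pt_geomPts a)
      have h1 : i = l := hl i ⟨pt a.1, rfl⟩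
      have h2 : k = l := hl k ⟨pt b.1, by rw [h']; rfl⟩
      obtain rfl : i = k := h1.trans h2.symm
      rw [cancel_mono] at h'
      exact congrArg (Sigma.mk i) (Subtype.ext h')
    · intro q
      obtain ⟨i, hi, -⟩ := hcov (pt q.1) (pt_geomPts q)
      have hr : Set.range q.1 ⊆ Set.range (j i) := by
        rintro _ ⟨t, rfl⟩
        haveI : Unique ↥(Spec (CommRingCat.of Ω)) :=
          inferInstanceAs (Unique (PrimeSpectrum Ω))
        rw [Subsingleton.elim t (IsLocalRing.closedPoint Ω)]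
        exact hi
      exact ⟨⟨i, ⟨IsOpenImmersion.lift (j i) q.1 hr, by
        rw [IsOpenImmersion.lift_fac_assoc, q.2]⟩⟩, Subtype.ext (IsOpenImmersion.lift_fac _ _ _)⟩
  rw [fibreIntegral_eq π p, ← finsum_comp_equiv (Equiv.ofBijective _ hb), finsum_eq_sum_of_fintype,
    Finset.univ_sigma_univ.symm, Finset.sum_sigma]
  refine Finset.sum_congr rfl fun i _ ↦ ?_
  rw [fibreIntegral_eq (j i ≫ π) p, finsum_eq_sum_of_fintype]
  rfl

/-- A fibre with one point. -/
theorem fibreIntegral_of_unique {U V : Scheme.{u}} (π : U ⟶ V) (w : U → ℤ) (x : U)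
    (h : ∀ y, π y = π x → y = x) :
    fibreIntegral π w (π x) = w x *
      (letI := (π.residueFieldMap x).hom.toAlgebra
       (Field.finSepDegree (V.residueField (π x)) (U.residueField x) : ℤ)) := by
  unfold fibreIntegral
  exact finsum_eq_single _ (⟨x, rfl⟩ : {u : U // π u = π x})
    (fun y hy ↦ absurd (Subtype.ext (h y.1 y.2)) hy)

/-- A fibre with one geometric point. -/
theorem fibreIntegral_of_unique_geomPts {U V : Scheme.{u}} (π : U ⟶ V) [LocallyQuasiFinite π]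
    [LocallyOfFiniteType π] {Ω : Type u} [Field Ω] [IsAlgClosed Ω]
    (p : Spec (CommRingCat.of Ω) ⟶ V) (q : GeomPts π p) [Subsingleton (GeomPts π p)]
    (w : U → ℤ) : fibreIntegral π w (pt p) = w (pt q.1) := by
  rw [fibreIntegral_eq π p]
  exact finsum_eq_single (fun q ↦ w (pt q.1)) q (fun y hy ↦ absurd (Subsingleton.elim y q) hy)

/-- Fibre integrals of nonnegative functions are nonnegative. -/
theorem fibreIntegral_nonneg {U V : Scheme.{u}} (π : U ⟶ V) {w : U → ℤ} (hw : ∀ x, 0 ≤ w x)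
    (v : V) : 0 ≤ fibreIntegral π w v :=
  finsum_nonneg fun u ↦ mul_nonneg (hw _) (Int.natCast_nonneg _)

theorem fibreIntegral_of_isEmpty {U V : Scheme.{u}} (π : U ⟶ V) (w : U → ℤ) (v : V)
    (h : ∀ x, π x ≠ v) : fibreIntegral π w v = 0 := by
  haveI : IsEmpty {u : U // π u = v} := ⟨fun u ↦ h u.1 u.2⟩
  exact finsum_of_isEmpty _

end GrothLib.Weight
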