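import Groth.Agent.Lib.Weight.EtaleNbhd
import Groth.Agent.Lib.Weight.Integral
import Groth.Prelude.Def_Hens2
import Mathlib.AlgebraicGeometry.ZariskisMainTheorem
import Mathlib.FieldTheory.PurelyInseparable.Basic

/-! # Finite parts after etale localisation -/

universe u

open CategoryTheory Limits AlgebraicGeometry TensorProduct

namespace GrothLib.Weight

theorem residueFieldMap_spec {A B : Type u} [CommRing A] [CommRing B] (φ : A →+* B)
    (Q : PrimeSpectrum B) :
    (Scheme.Spec.residueFieldIso (.of A) (PrimeSpectrum.comap φ Q)).inv ≫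
      (Spec.map (CommRingCat.ofHom φ)).residueFieldMap Q =
    CommRingCat.ofHom (Ideal.ResidueField.map (PrimeSpectrum.comap φ Q).asIdeal Q.asIdeal φ rfl) ≫
      (Scheme.Spec.residueFieldIso (.of B) Q).inv := by
  have h : CommRingCat.ofHom (algebraMap A (PrimeSpectrum.comap φ Q).asIdeal.ResidueField) ≫
      (Scheme.Spec.residueFieldIso (.of A) (PrimeSpectrum.comap φ Q)).inv ≫
        (Spec.map (CommRingCat.ofHom φ)).residueFieldMap Q =
      CommRingCat.ofHom (algebraMap A (PrimeSpectrum.comap φ Q).asIdeal.ResidueField) ≫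
      CommRingCat.ofHom (Ideal.ResidueField.map (PrimeSpectrum.comap φ Q).asIdeal Q.asIdeal φ rfl) ≫
      (Scheme.Spec.residueFieldIso (.of B) Q).inv := by
    rw [← Category.assoc]
    erw [Scheme.Spec.algebraMap_residueFieldIso_inv]
    simp only [Category.assoc]
    erw [Scheme.residue_residueFieldMap]
    erw [Scheme.Hom.germ_stalkMap_assoc]
    rw [← Category.assoc (CommRingCat.ofHom (algebraMap A _)), ← CommRingCat.ofHom_comp,
      show (Ideal.ResidueField.map (PrimeSpectrum.comap φ Q).asIdeal Q.asIdeal φ rfl).comp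
        (algebraMap A _) = (algebraMap B Q.asIdeal.ResidueField).comp φ from
        RingHom.ext fun a => Ideal.ResidueField.map_algebraMap _ _ φ rfl a,
      CommRingCat.ofHom_comp, Category.assoc]
    erw [Scheme.Spec.algebraMap_residueFieldIso_inv]
    rw [Scheme.ΓSpecIso_inv_naturality_assoc]
    rfl
  exact CommRingCat.hom_ext (Ideal.ResidueField.ringHom_ext (congrArg CommRingCat.Hom.hom h))

theorem residueFieldMap_bijective_spec {A R : Type u} [CommRing A] [CommRing R] [Algebra A R]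
    (p : Ideal A) [p.IsPrime] (P : Ideal R) [P.IsPrime] [P.LiesOver p]
    (h : Function.Bijective (Ideal.ResidueField.mapₐ p P (Algebra.ofId _ _) (P.over_def p))) :
    Function.Bijective
      ((Spec.map (CommRingCat.ofHom (algebraMap A R))).residueFieldMap ⟨P, ‹_›⟩) := by
  obtain rfl : p = P.comap (algebraMap A R) := P.over_def p
  have e := residueFieldMap_spec (algebraMap A R) ⟨P, ‹_›⟩
  have : IsIso ((Scheme.Spec.residueFieldIso (.of A) (PrimeSpectrum.comap (algebraMap A R) ⟨P, ‹_›⟩)).inv ≫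
      (Spec.map (CommRingCat.ofHom (algebraMap A R))).residueFieldMap ⟨P, ‹_›⟩) := by
    rw [e]
    exact @IsIso.comp_isIso _ _ _ _ _ _ _ ((ConcreteCategory.isIso_iff_bijective _).mpr h)
      inferInstance
  rw [isIso_comp_left_iff] at this
  exact (ConcreteCategory.isIso_iff_bijective _).mp this

/-- Composing with an open immersion does not affect bijectivity of residue field maps. -/
theorem residueFieldMap_bijective_comp {X Y Z : Scheme.{u}} (f : X ⟶ Y) (g : Y ⟶ Z)
    [IsOpenImmersion g] (x : X) (h : Function.Bijective (f.residueFieldMap x)) :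
    Function.Bijective ((f ≫ g).residueFieldMap x) := by
  haveI := (ConcreteCategory.isIso_iff_bijective _).mpr h
  rw [← ConcreteCategory.isIso_iff_bijective, Scheme.residueFieldMap_comp]
  exact inferInstanceAs (IsIso (g.residueFieldMap (f x) ≫ f.residueFieldMap x))

variable {X S U : Scheme.{u}}

/-- Over a point with bijective residue field map, geometric lifts agree. -/
theorem geomPts_subsingleton_of_bijective (g : U ⟶ S) (u : U)
    (h : Function.Bijective (g.residueFieldMap u)) {Ω : Type u} [Field Ω]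
    (p p' : Spec (CommRingCat.of Ω) ⟶ U) (hp : pt p = u) (hp' : pt p' = u)
    (he : p ≫ g = p' ≫ g) : p = p' := by
  obtain ⟨⟨a, ψ⟩, rfl⟩ := (U.SpecToEquivOfField Ω).symm.surjective p
  obtain ⟨⟨b, χ⟩, rfl⟩ := (U.SpecToEquivOfField Ω).symm.surjective p'
  change pt (Spec.map ψ ≫ U.fromSpecResidueField a) = u at hp
  change pt (Spec.map χ ≫ U.fromSpecResidueField b) = u at hp'
  change (Spec.map ψ ≫ U.fromSpecResidueField a) ≫ g = (Spec.map χ ≫ U.fromSpecResidueField b) ≫ g at he
  show Spec.map ψ ≫ U.fromSpecResidueField a = Spec.map χ ≫ U.fromSpecResidueField b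
  obtain rfl : a = u := (pt_mk a ψ).symm.trans hp
  obtain rfl : b = a := (pt_mk b χ).symm.trans hp'
  haveI := (ConcreteCategory.isIso_iff_bijective _).mpr h
  rw [Category.assoc, Category.assoc, ← g.SpecMap_residueFieldMap_fromSpecResidueField,
    ← Spec.map_comp_assoc, ← Spec.map_comp_assoc, cancel_mono] at he
  rw [(cancel_epi (g.residueFieldMap b)).mp (Spec.map_inj.mp he)]

/-- An `Ω`-point of `S` at `g u` lifts to `u` when `κ(g u) = κ(u)`. -/
theorem exists_lift_of_bijective (g : U ⟶ S) (u : U)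
    (h : Function.Bijective (g.residueFieldMap u)) {Ω : Type u} [Field Ω]
    (p : Spec (CommRingCat.of Ω) ⟶ S) (hp : pt p = g u) :
    ∃ p' : Spec (CommRingCat.of Ω) ⟶ U, p' ≫ g = p ∧ pt p' = u := by
  obtain ⟨⟨s, φ⟩, rfl⟩ := (S.SpecToEquivOfField Ω).symm.surjective p
  rw [Scheme.SpecToEquivOfField_symm_apply] at hp ⊢
  obtain rfl : s = g u := (pt_mk s φ).symm.trans hp
  haveI := (ConcreteCategory.isIso_iff_bijective _).mpr h
  refine ⟨Spec.map (inv (g.residueFieldMap u) ≫ φ) ≫ U.fromSpecResidueField u, ?_, pt_mk u _⟩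
  rw [Category.assoc, ← g.SpecMap_residueFieldMap_fromSpecResidueField, ← Spec.map_comp_assoc,
    IsIso.hom_inv_id_assoc]

/-- Over a point `u` with `κ(g u) = κ(u)`, a fibre product has one point over `(x, u)`, with the
residue field of `x`. -/
theorem existsUnique_point_over (f : X ⟶ S) (g : U ⟶ S) (u : U)
    (h : Function.Bijective (g.residueFieldMap u)) (x : X) (hx : f x = g u) :
    ∃ v : ↑(pullback f g), (pullback.fst f g v = x ∧ pullback.snd f g v = u) ∧
      Function.Bijective ((pullback.fst f g).residueFieldMap v) ∧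
      ∀ w : ↑(pullback f g), pullback.fst f g w = x → pullback.snd f g w = u → w = v := by
  haveI := (ConcreteCategory.isIso_iff_bijective _).mpr h
  let σ : Spec (X.residueField x) ⟶ pullback f g :=
    pullback.lift (X.fromSpecResidueField x)
      (Spec.map (inv (g.residueFieldMap u) ≫ (S.residueFieldCongr hx.symm).hom ≫
        f.residueFieldMap x) ≫ U.fromSpecResidueField u) (by
      rw [Category.assoc, ← g.SpecMap_residueFieldMap_fromSpecResidueField, ← Spec.map_comp_assoc,
        IsIso.hom_inv_id_assoc, Spec.map_comp, Category.assoc,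
        Scheme.residueFieldCongr_fromSpecResidueField,
        f.SpecMap_residueFieldMap_fromSpecResidueField])
  let σ' : Spec (CommRingCat.of (X.residueField x)) ⟶ pullback f g := σ
  obtain ⟨⟨v, ψ⟩, hψ⟩ :=
    ((pullback f g).SpecToEquivOfField (X.residueField x)).symm.surjective σ'
  rw [Scheme.SpecToEquivOfField_symm_apply] at hψ
  have hvx : pullback.fst f g v = x := by
    have := congrArg (fun m ↦ pullback.fst f g (pt m)) hψ
    simp only [pt_mk] at this
    rw [this]
    show (σ ≫ pullback.fst f g) _ = x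
    rw [pullback.lift_fst]
    exact X.fromSpecResidueField_apply x _
  have hvu : pullback.snd f g v = u := by
    have := congrArg (fun m ↦ pullback.snd f g (pt m)) hψ
    simp only [pt_mk] at this
    rw [this]
    show (σ ≫ pullback.snd f g) _ = u
    rw [pullback.lift_snd]
    exact pt_mk u _
  subst hvx
  refine ⟨v, ⟨rfl, hvu⟩, ?_, fun w hw hwu ↦ ?_⟩
  · have hcomp : (pullback.fst f g).residueFieldMap v ≫ ψ = 𝟙 _ := by
      apply Spec.map_injective
      rw [← cancel_mono (X.fromSpecResidueField _), Spec.map_comp, Category.assoc,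
        (pullback.fst f g).SpecMap_residueFieldMap_fromSpecResidueField, ← Category.assoc, hψ,
        Spec.map_id]
      exact (pullback.lift_fst _ _ _).trans (Category.id_comp _).symm
    refine ⟨(RingHom.injective _), fun a ↦ ⟨ψ a, ψ.hom.injective ?_⟩⟩
    exact congrArg (fun m ↦ m.hom (ψ a)) hcomp
  · obtain ⟨Ω, _, _, q, rfl⟩ := exists_pt w
    obtain ⟨⟨a, χ⟩, ha⟩ := (X.SpecToEquivOfField Ω).symm.surjective (q ≫ pullback.fst f g)
    rw [Scheme.SpecToEquivOfField_symm_apply] at ha
    obtain rfl : a = pullback.fst f g v := by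
      rw [← pt_mk a χ, ha, pt_comp]; exact hw
    have hq : q = Spec.map χ ≫ σ := by
      apply pullback.hom_ext
      · rw [Category.assoc]
        exact ha.symm.trans (congrArg (Spec.map χ ≫ ·) (pullback.lift_fst _ _ _).symm)
      · refine geomPts_subsingleton_of_bijective g u h _ _ (by rw [pt_comp]; exact hwu) ?_ ?_
        · rw [Category.assoc, pullback.lift_snd, ← Spec.map_comp_assoc]
          exact pt_mk u _
        · rw [Category.assoc, Category.assoc, Category.assoc, ← pullback.condition,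
            ← Category.assoc, ← ha, Category.assoc]
          congr 1
          exact ((pullback.lift_fst_assoc _ _ _ _).symm)
    rw [hq]
    show σ (Spec.map χ _) = v
    rw [Subsingleton.elim (α := PrimeSpectrum (X.residueField _)) (Spec.map χ _)
      (IsLocalRing.closedPoint _)]
    have := congrArg pt hψ
    rw [pt_mk] at this
    exact this.symm

/-- The finite part at a quasi-finite point after an elementary etale localisation. -/
theorem exists_finite_part (f : X ⟶ S) [LocallyOfFiniteType f] (x : X) (hx : f.QuasiFiniteAt x) :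
    ∃ (U : Scheme.{u}) (g : U ⟶ S) (u : U), Hens2.IsEtaleNbhd g u (f x) ∧
      ∃ (V : (pullback f g).Opens) (v : ↑(pullback f g)), v ∈ V ∧
        IsFinite (V.ι ≫ pullback.snd f g) ∧ pullback.snd f g v = u ∧
        (∀ w : ↑(pullback f g), w ∈ V → pullback.snd f g w = u → w = v) ∧
        pullback.fst f g v = x ∧ Function.Bijective ((pullback.fst f g).residueFieldMap v) := by
  obtain ⟨_, ⟨U, hU, rfl⟩, hxU, -⟩ := S.isBasis_affineOpens.exists_subset_of_mem_open
    (Set.mem_univ (f x)) isOpen_univ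
  obtain ⟨_, ⟨V, hV, rfl⟩, hxV, hUV : V ≤ f ⁻¹ᵁ U⟩ :=
    X.isBasis_affineOpens.exists_subset_of_mem_open hxU (f ⁻¹ᵁ U).2
  have : (f.appLE U V hUV).hom.FiniteType := f.finiteType_appLE hU hV hUV
  algebraize [(f.appLE U V hUV).hom]
  have : (hV.primeIdealOf ⟨x, hxV⟩).asIdeal.LiesOver (hU.primeIdealOf ⟨f x, hxU⟩).asIdeal := by
    suffices hU.primeIdealOf ⟨f x, hxU⟩ = Spec.map (f.appLE U V hUV) (hV.primeIdealOf ⟨x, hxV⟩) from
      ⟨congr(($this).1)⟩
    apply hU.isoSpec.inv.homeomorph.injective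
    apply Subtype.ext
    simp only [IsAffineOpen.primeIdealOf, Scheme.Hom.homeomorph_apply,
      ← Scheme.Hom.comp_apply, ← Scheme.Opens.ι_apply, IsAffineOpen.isoSpec_hom]
    simp
  have : Algebra.QuasiFiniteAt Γ(S, U) (hV.primeIdealOf ⟨x, hxV⟩).asIdeal :=
    hx.quasiFiniteAt hV hU hUV hxV
  obtain ⟨R, _, _, _, P, _, _, e, he, P', _, _, hP', heP', hbij, hfin, huniq⟩ :=
    Algebra.exists_etale_isIdempotentElem_forall_liesOver_eq
    (hU.primeIdealOf ⟨f x, hxU⟩).asIdeal (hV.primeIdealOf ⟨x, hxV⟩).asIdeal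
  let φ : Γ(S, U) ⟶ .of R := CommRingCat.ofHom <| algebraMap Γ(S, U) R
  have hφ : φ.hom.Etale := RingHom.etale_algebraMap.mpr ‹_›
  have : Etale (Spec.map φ) := HasRingHomProperty.Spec_iff.mpr hφ
  let G : Spec (.of R) ⟶ S := Spec.map φ ≫ hU.fromSpec
  let PR : Spec (.of R) := ⟨P, ‹_›⟩
  have hGP : G PR = f x := by
    show hU.fromSpec (Spec.map φ PR) = f x
    rw [show Spec.map φ PR = hU.primeIdealOf ⟨f x, hxU⟩ from
      PrimeSpectrum.ext (Ideal.over_def P _).symm]
    exact hU.fromSpec_primeIdealOf ⟨f x, hxU⟩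
  have hGbij : Function.Bijective (G.residueFieldMap PR) :=
    residueFieldMap_bijective_comp _ _ _
      (residueFieldMap_bijective_spec (hU.primeIdealOf ⟨f x, hxU⟩).asIdeal P hbij)
  let e₁ : Spec (.of (R ⊗ Γ(X, V))) ≅ pullback (Spec.map (f.appLE U V hUV)) (Spec.map φ) :=
    (pullbackSpecIso _ _ _).symm ≪≫ pullbackSymmetry _ _
  let m : Spec (.of (R ⊗[Γ(S, U)] Γ(X, V))) ⟶ pullback f G :=
    e₁.hom ≫ pullback.map _ _ _ _ hV.fromSpec (𝟙 _) hU.fromSpec
      (IsAffineOpen.SpecMap_appLE_fromSpec ..) (by simp [G])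
  have hm1 : m ≫ pullback.fst f G =
      Spec.map (CommRingCat.ofHom Algebra.TensorProduct.includeRight.toRingHom) ≫ hV.fromSpec := by
    simp only [m, e₁, Iso.trans_hom, Iso.symm_hom, Category.assoc, pullback.lift_fst]
    erw [pullbackSymmetry_hom_comp_fst_assoc]
    exact congrArg (· ≫ hV.fromSpec) (pullbackSpecIso_inv_snd ..)
  have hm2 : m ≫ pullback.snd f G = Spec.map (CommRingCat.ofHom (algebraMap R _)) := by
    simp only [m, e₁, Iso.trans_hom, Iso.symm_hom, Category.assoc, pullback.lift_snd,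
      Category.comp_id, pullbackSymmetry_hom_comp_snd]
    erw [pullbackSymmetry_hom_comp_snd]
    exact pullbackSpecIso_inv_fst' Γ(S, U) R Γ(X, V)
  let W₁ := m ''ᵁ PrimeSpectrum.basicOpen e
  have hfinW : IsFinite (W₁.ι ≫ pullback.snd f G) := by
    let ι : Spec (.of (Localization.Away e)) ⟶ pullback f G :=
      Spec.map (CommRingCat.ofHom <| algebraMap _ _) ≫ m
    have : ι.opensRange = W₁ := by
      simp only [Scheme.Hom.opensRange_comp, ι, W₁]
      congr 1
      exact TopologicalSpace.Opens.ext <| PrimeSpectrum.localization_away_comap_range _ _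
    rw [← this, ← MorphismProperty.cancel_left_of_respectsIso @IsFinite
      (Scheme.Hom.isoOpensRange ι).hom]
    have hι : (Scheme.Hom.isoOpensRange ι).hom ≫ ι.opensRange.ι ≫ pullback.snd f G =
        Spec.map (CommRingCat.ofHom (algebraMap R (Localization.Away e))) := by
      rw [Scheme.Hom.isoOpensRange_hom_ι_assoc, Category.assoc, hm2, ← Spec.map_comp]
      rfl
    rw [hι, IsFinite.SpecMap_iff]
    exact RingHom.finite_algebraMap.mpr hfin
  let v := m ⟨P', ‹_›⟩
  have hvW : v ∈ W₁ := ⟨⟨P', ‹_›⟩, heP', rfl⟩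
  have hvu : pullback.snd f G v = PR := by
    show (m ≫ pullback.snd f G) _ = _
    rw [hm2]
    exact PrimeSpectrum.ext (Ideal.over_def P' P).symm
  have hvx : pullback.fst f G v = x := by
    show (m ≫ pullback.fst f G) _ = _
    rw [hm1, Scheme.Hom.comp_apply]
    rw [show Spec.map (CommRingCat.ofHom Algebra.TensorProduct.includeRight.toRingHom)
      (⟨P', ‹_›⟩ : Spec (.of (R ⊗[Γ(S, U)] Γ(X, V)))) = hV.primeIdealOf ⟨x, hxV⟩ from
      PrimeSpectrum.ext hP']
    exact hV.fromSpec_primeIdealOf ⟨x, hxV⟩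
  obtain ⟨v₀, ⟨-, -⟩, hvb, hv₀⟩ := existsUnique_point_over f G PR hGbij x hGP.symm
  refine ⟨Spec (.of R), G, PR, ⟨inferInstance, hGP, hGbij⟩, W₁, v, hvW, hfinW, hvu, ?_, hvx,
    (hv₀ v hvx hvu) ▸ hvb⟩
  rintro _ ⟨Q, hQe, rfl⟩ hQ
  have hQP : Q.asIdeal.LiesOver P := by
    refine ⟨?_⟩
    have : (m ≫ pullback.snd f G) Q = PR := hQ
    rw [hm2] at this
    exact (congrArg PrimeSpectrum.asIdeal this).symm
  exact congrArg m (PrimeSpectrum.ext (huniq Q.asIdeal Q.isPrime hQP hQe))

/-- Radicial finite parts: after an etale localisation a given geometric lift is the unique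
geometric point of a finite open piece. -/
theorem exists_radicial_part (f : X ⟶ S) [LocallyQuasiFinite f] [LocallyOfFiniteType f]
    {Ω : Type u} [Field Ω] [IsAlgClosed Ω] (p₀ : Spec (CommRingCat.of Ω) ⟶ S)
    (r : GeomPts f p₀) :
    ∃ (U : Scheme.{u}) (g : U ⟶ S) (_ : Etale g) (p : Spec (CommRingCat.of Ω) ⟶ U)
      (_ : p ≫ g = p₀) (V : (pullback f g).Opens) (q : GeomPts (V.ι ≫ pullback.snd f g) p),
      IsFinite (V.ι ≫ pullback.snd f g) ∧ Subsingleton (GeomPts (V.ι ≫ pullback.snd f g) p) ∧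
      q.1 ≫ V.ι ≫ pullback.fst f g = r.1 := by
  classical
  obtain ⟨r, rfl⟩ := r
  let x := pt r
  obtain ⟨⟨x', ψr⟩, hψr⟩ := (X.SpecToEquivOfField Ω).symm.surjective r
  rw [Scheme.SpecToEquivOfField_symm_apply] at hψr
  obtain rfl : x' = x := by show x' = pt r; rw [← hψr, pt_mk]
  let y := f x
  let φ : S.residueField y ⟶ CommRingCat.of Ω := f.residueFieldMap x ≫ ψr
  have hp₀ : r ≫ f = Spec.map φ ≫ S.fromSpecResidueField y := by
    conv_lhs => rw [← hψr]
    rw [Category.assoc, ← f.SpecMap_residueFieldMap_fromSpecResidueField, ← Spec.map_comp_assoc]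
  letI := (f.residueFieldMap x).hom.toAlgebra
  letI : Algebra (S.residueField y) Ω := φ.hom.toAlgebra
  haveI : Module.Finite (S.residueField y) (X.residueField x) := finite_residueFieldMap f x
  let Ks := separableClosure (S.residueField y) (X.residueField x)
  let b := Module.Free.chooseBasis (S.residueField y) Ks
  haveI := Fintype.ofFinite (X.residueField x →ₐ[S.residueField y] Ω)
  let E : Set Ω := Set.range (fun z : (X.residueField x →ₐ[S.residueField y] Ω) × _ ↦
    z.1 (b z.2 : X.residueField x))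
  have hsep : ∀ a ∈ E, IsSeparable (S.residueField y) a := by
    rintro _ ⟨⟨σ, i⟩, rfl⟩
    exact (mem_separableClosure_iff.mp (b i).2).map σ σ.injective
  obtain ⟨U₁, g₁, _, u₁, ψ₁, hψ₁, hE⟩ := exists_etale_nbhd y φ E (Set.finite_range _) hsep
  let p₁ := Spec.map ψ₁ ≫ U₁.fromSpecResidueField u₁
  let r₁ : Spec (CommRingCat.of Ω) ⟶ pullback f g₁ :=
    pullback.lift r p₁ (by rw [hp₀]; exact hψ₁.symm)
  let z := pt r₁
  obtain ⟨⟨z', ψz⟩, hψz⟩ := ((pullback f g₁).SpecToEquivOfField Ω).symm.surjective r₁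
  rw [Scheme.SpecToEquivOfField_symm_apply] at hψz
  obtain rfl : z' = z := by show z' = pt r₁; rw [← hψz, pt_mk]
  -- a geometric lift of `p₁` at `z` is equal to `r₁`
  have hrad : ∀ l : Spec (CommRingCat.of Ω) ⟶ pullback f g₁,
      l ≫ pullback.snd f g₁ = p₁ → pt l = z → l = r₁ := by
    intro l hl hlz
    obtain ⟨⟨a, χ⟩, rfl⟩ := ((pullback f g₁).SpecToEquivOfField Ω).symm.surjective l
    rw [Scheme.SpecToEquivOfField_symm_apply] at hl hlz ⊢
    obtain rfl : a = z := (pt_mk a χ).symm.trans hlz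
    suffices hχ : χ = ψz by
      simp only [Scheme.SpecToEquivOfField_symm_apply, hχ]; exact hψz
    have hzu : pullback.snd f g₁ z = u₁ := by
      show pt (r₁ ≫ pullback.snd f g₁) = u₁
      rw [pullback.lift_snd]; exact pt_mk _ _
    have hzx : pullback.fst f g₁ z = x := by
      show pt (r₁ ≫ pullback.fst f g₁) = x
      rw [pullback.lift_fst]
    let ιx := (X.residueFieldCongr hzx.symm).hom ≫ (pullback.fst f g₁).residueFieldMap z
    let ιu := (U₁.residueFieldCongr hzu.symm).hom ≫ (pullback.snd f g₁).residueFieldMap z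
    have hx' : ∀ (χ : (pullback f g₁).residueField z ⟶ CommRingCat.of Ω),
        Spec.map (ιx ≫ χ) ≫ X.fromSpecResidueField x =
          (Spec.map χ ≫ (pullback f g₁).fromSpecResidueField z) ≫ pullback.fst f g₁ := fun χ ↦ by
      simp only [ιx, Spec.map_comp, Category.assoc, Scheme.residueFieldCongr_fromSpecResidueField,
        Scheme.Hom.SpecMap_residueFieldMap_fromSpecResidueField]
    have hu' : ∀ (χ : (pullback f g₁).residueField z ⟶ CommRingCat.of Ω),
        Spec.map (ιu ≫ χ) ≫ U₁.fromSpecResidueField u₁ =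
          (Spec.map χ ≫ (pullback f g₁).fromSpecResidueField z) ≫ pullback.snd f g₁ := fun χ ↦ by
      simp only [ιu, Spec.map_comp, Category.assoc, Scheme.residueFieldCongr_fromSpecResidueField,
        Scheme.Hom.SpecMap_residueFieldMap_fromSpecResidueField]
    have hu1 : ιu ≫ χ = ψ₁ := Spec.map_injective
      ((cancel_mono (U₁.fromSpecResidueField u₁)).mp ((hu' χ).trans hl))
    have hu2 : ιu ≫ ψz = ψ₁ := Spec.map_injective
      ((cancel_mono (U₁.fromSpecResidueField u₁)).mp ((hu' ψz).trans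
        (by rw [hψz]; exact pullback.lift_snd _ _ _)))
    have hbase : ∀ (χ : (pullback f g₁).residueField z ⟶ CommRingCat.of Ω),
        (Spec.map χ ≫ (pullback f g₁).fromSpecResidueField z) ≫ pullback.snd f g₁ = p₁ →
          f.residueFieldMap x ≫ ιx ≫ χ = φ := fun χ hc ↦ by
      apply Spec.map_injective
      rw [← cancel_mono (S.fromSpecResidueField y), Spec.map_comp, Category.assoc,
        f.SpecMap_residueFieldMap_fromSpecResidueField, ← Category.assoc, hx', Category.assoc,
        pullback.condition, ← Category.assoc, hc, hψ₁]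
    let σ : X.residueField x →ₐ[S.residueField y] Ω :=
      { toRingHom := (ιx ≫ χ).hom
        commutes' := fun c ↦ congrArg (fun m ↦ m.hom c) (hbase χ hl) }
    let τ : X.residueField x →ₐ[S.residueField y] Ω :=
      { toRingHom := (ιx ≫ ψz).hom
        commutes' := fun c ↦ congrArg (fun m ↦ m.hom c)
          (hbase ψz (by rw [hψz]; exact pullback.lift_snd _ _ _)) }
    have hb : ∀ i, σ (b i : X.residueField x) = τ (b i : X.residueField x) := fun i ↦ by
      obtain ⟨c, hc⟩ := hE ⟨(σ, i), rfl⟩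
      have hc' : ψ₁.hom c = σ (b i : X.residueField x) := hc
      have heq : ιx.hom (b i : X.residueField x) = ιu.hom c := χ.hom.injective (by
        show σ _ = (ιu ≫ χ).hom c
        rw [hu1, hc'])
      show σ _ = ψz.hom (ιx.hom _)
      rw [heq, ← hc']
      exact (congrArg (fun m ↦ m.hom c) hu2).symm
    have hKs : σ.comp Ks.val = τ.comp Ks.val := AlgHom.toLinearMap_injective (b.ext hb)
    have hστ : σ = τ := AlgHom.coe_ringHom_injective
      (IsPurelyInseparable.injective_comp_algebraMap Ks (X.residueField x) Ω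
        (RingHom.ext fun c ↦ congrArg (fun m : Ks →ₐ[S.residueField y] Ω ↦ m c) hKs))
    have hx1 : ιx ≫ χ = ιx ≫ ψz :=
      CommRingCat.hom_ext (congrArg (fun m : X.residueField x →ₐ[S.residueField y] Ω ↦
        m.toRingHom) hστ)
    have : Spec.map χ ≫ (pullback f g₁).fromSpecResidueField z =
        Spec.map ψz ≫ (pullback f g₁).fromSpecResidueField z := by
      apply pullback.hom_ext
      · rw [← hx', ← hx', hx1]
      · rw [← hu', ← hu', hu1, hu2]
    exact Spec.map_injective ((cancel_mono _).mp this)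
  obtain ⟨U₂, g₂, u₂, ⟨_, hu₂, hbij⟩, V, v, hvV, hfin, hvu, huniq, hvz, -⟩ :=
    exists_finite_part (pullback.snd f g₁) z ((pullback.snd f g₁).quasiFiniteAt z)
  obtain ⟨p₂, hp₂, hp₂u⟩ := exists_lift_of_bijective g₂ u₂ hbij p₁ (by
    rw [hu₂]
    show pt p₁ = pt (r₁ ≫ pullback.snd f g₁)
    rw [pullback.lift_snd])
  let q₀ : Spec (CommRingCat.of Ω) ⟶ pullback (pullback.snd f g₁) g₂ :=
    pullback.lift r₁ p₂ ((pullback.lift_snd _ _ _).trans hp₂.symm)
  let e := pullbackLeftPullbackSndIso f g₁ g₂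
  have he1 : e.inv ≫ pullback.snd (pullback.snd f g₁) g₂ = pullback.snd f (g₂ ≫ g₁) :=
    (Iso.inv_comp_eq e).mpr (pullbackLeftPullbackSndIso_hom_snd f g₁ g₂).symm
  have he2 : e.inv ≫ pullback.fst (pullback.snd f g₁) g₂ ≫ pullback.fst f g₁ =
      pullback.fst f (g₂ ≫ g₁) := pullbackLeftPullbackSndIso_inv_fst f g₁ g₂
  let V' : (pullback f (g₂ ≫ g₁)).Opens := e.inv ⁻¹ᵁ V
  have hfac : V'.ι ≫ pullback.snd f (g₂ ≫ g₁) =
      (e.inv ∣_ V) ≫ V.ι ≫ pullback.snd (pullback.snd f g₁) g₂ := by
    rw [← he1, ← Category.assoc, ← Category.assoc, morphismRestrict_ι]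
  have hq₀V : Set.range q₀ ⊆ Set.range V.ι := by
    rintro _ ⟨t, rfl⟩
    rw [Scheme.Opens.range_ι]
    haveI : Unique ↥(Spec (CommRingCat.of Ω)) := inferInstanceAs (Unique (PrimeSpectrum Ω))
    rw [Subsingleton.elim t (IsLocalRing.closedPoint Ω)]
    obtain ⟨v₀, -, -, hv₀⟩ := existsUnique_point_over (pullback.snd f g₁) g₂ u₂ hbij z hu₂.symm
    have h1 : pt q₀ = v₀ := hv₀ _ (by rw [← pt_comp, pullback.lift_fst])
      (by rw [← pt_comp, pullback.lift_snd]; exact hp₂u)
    show pt q₀ ∈ V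
    rw [h1, ← hv₀ v hvz hvu]
    exact hvV
  let qV := IsOpenImmersion.lift V.ι q₀ hq₀V
  haveI : IsIso (e.inv ∣_ V) := inferInstance
  have hQ : (qV ≫ inv (e.inv ∣_ V)) ≫ V'.ι ≫ pullback.snd f (g₂ ≫ g₁) = p₂ := by
    rw [hfac, Category.assoc, IsIso.inv_hom_id_assoc, IsOpenImmersion.lift_fac_assoc,
      pullback.lift_snd]
  refine ⟨U₂, g₂ ≫ g₁, inferInstance, p₂, ?_, V', ⟨qV ≫ inv (e.inv ∣_ V), hQ⟩, ?_, ?_, ?_⟩
  · rw [← Category.assoc, hp₂, hψ₁, hp₀]
  · rw [hfac]
    exact (MorphismProperty.cancel_left_of_respectsIso @IsFinite _ _).mpr hfin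
  · refine ⟨fun a b ↦ Subtype.ext ?_⟩
    have key : ∀ a : GeomPts (V'.ι ≫ pullback.snd f (g₂ ≫ g₁)) p₂,
        a.1 ≫ (e.inv ∣_ V) ≫ V.ι = q₀ := fun a ↦ by
      have h2 : (a.1 ≫ (e.inv ∣_ V) ≫ V.ι) ≫ pullback.snd _ g₂ = p₂ := by
        simp only [Category.assoc, ← hfac]; exact a.2
      have hmem : pt (a.1 ≫ (e.inv ∣_ V) ≫ V.ι) = v := huniq _ (by
        show V.ι ((e.inv ∣_ V) (pt a.1)) ∈ V
        exact ((e.inv ∣_ V) (pt a.1)).2) (by rw [← pt_comp, h2]; exact hp₂u)
      apply pullback.hom_ext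
      · rw [pullback.lift_fst]
        refine hrad _ ?_ ?_
        · rw [Category.assoc, pullback.condition, ← Category.assoc, h2, hp₂]
        · rw [pt_comp, hmem, hvz]
      · rw [pullback.lift_snd]; exact h2
    exact (cancel_mono ((e.inv ∣_ V) ≫ V.ι)).mp ((key a).trans (key b).symm)
  · show (qV ≫ inv (e.inv ∣_ V)) ≫ V'.ι ≫ pullback.fst f (g₂ ≫ g₁) = r
    rw [show V'.ι ≫ pullback.fst f (g₂ ≫ g₁) =
      (e.inv ∣_ V) ≫ V.ι ≫ pullback.fst (pullback.snd f g₁) g₂ ≫ pullback.fst f g₁ by
        rw [← he2, ← Category.assoc V'.ι e.inv, ← morphismRestrict_ι, Category.assoc],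
      Category.assoc, IsIso.inv_hom_id_assoc, IsOpenImmersion.lift_fac_assoc,
      pullback.lift_fst_assoc, pullback.lift_fst]

end GrothLib.Weight
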