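import Groth.Agent.Lib.Weight.FinitePart
import Mathlib.AlgebraicGeometry.Morphisms.UniversallyOpen
import Mathlib.AlgebraicGeometry.Morphisms.Separated

/-! # Splitting finite morphisms into radicial pieces etale locally -/

universe u

open CategoryTheory Limits AlgebraicGeometry Topology

namespace GrothLib.Weight

/-- An open containing a fibre of a closed map contains the preimage of a neighbourhood. -/
theorem exists_preimage_subset {U V : Scheme.{u}} (π : U ⟶ V) (hπ : IsClosedMap ⇑π) (v : V)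
    (A : Set U) (hA : IsOpen A) (h : ∀ u, π u = v → u ∈ A) :
    ∃ O : V.Opens, v ∈ O ∧ ∀ u, π u ∈ O → u ∈ A := by
  refine ⟨⟨(π '' Aᶜ)ᶜ, (hπ _ hA.isClosed_compl).isOpen_compl⟩, ?_, ?_⟩
  · rintro ⟨u, hu, hu'⟩; exact hu (h u hu')
  · intro u hu; by_contra hne; exact hu ⟨u, hne, rfl⟩

/-- Pushing eventual constancy down an open map. -/
theorem eventually_eq_of_lift {V V' : Scheme.{u}} (h : V' ⟶ V) (hopen : IsOpenMap ⇑h) (v' : V')
    (F : V → ℤ) (c : ℤ) (hF : ∀ᶠ z in 𝓝 v', F (h z) = c) : ∀ᶠ y in 𝓝 (h v'), F y = c :=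
  Filter.mem_of_superset (hopen.image_mem_nhds hF) (by rintro _ ⟨z, hz, rfl⟩; exact hz)

/-- The canonical map between base changes along a composite. -/
noncomputable abbrev towerMap {U V V' V'' : Scheme.{u}} (π : U ⟶ V) (h : V' ⟶ V)
    (h' : V'' ⟶ V') : pullback π (h' ≫ h) ⟶ pullback π h :=
  pullback.lift (pullback.fst π (h' ≫ h)) (pullback.snd π (h' ≫ h) ≫ h')
    (by rw [Category.assoc]; exact pullback.condition)

theorem isPullback_towerMap {U V V' V'' : Scheme.{u}} (π : U ⟶ V) (h : V' ⟶ V) (h' : V'' ⟶ V') :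
    IsPullback (towerMap π h h') (pullback.snd π (h' ≫ h)) (pullback.snd π h) h' :=
  IsPullback.of_right (by rw [pullback.lift_fst]; exact IsPullback.of_hasPullback _ _)
    (pullback.lift_snd _ _ _) (IsPullback.of_hasPullback _ _)

/-- Geometric lifts are unchanged by base change. -/
noncomputable def geomPtsEquiv {U V U' V' : Scheme.{u}} {π : U ⟶ V} {π' : U' ⟶ V'} {h : U' ⟶ U}
    {g : V' ⟶ V} (hc : IsPullback h π' π g) {Ω : Type u} [Field Ω]
    (p' : Spec (CommRingCat.of Ω) ⟶ V') (p : Spec (CommRingCat.of Ω) ⟶ V) (hp : p' ≫ g = p) :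
    GeomPts π' p' ≃ GeomPts π p where
  toFun q := ⟨q.1 ≫ h, by rw [Category.assoc, hc.w, ← Category.assoc, q.2, hp]⟩
  invFun r := ⟨hc.lift r.1 p' (r.2.trans hp.symm), hc.lift_snd _ _ _⟩
  left_inv q := Subtype.ext (hc.hom_ext (hc.lift_fst _ _ _) ((hc.lift_snd _ _ _).trans q.2.symm))
  right_inv r := Subtype.ext (hc.lift_fst _ _ _)

theorem range_subset_of_pt_mem {U : Scheme.{u}} {Ω : Type u} [Field Ω]
    (q : Spec (CommRingCat.of Ω) ⟶ U) {A : Set U} (h : pt q ∈ A) : Set.range q ⊆ A := by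
  rintro _ ⟨t, rfl⟩
  haveI : Unique ↥(Spec (CommRingCat.of Ω)) := inferInstanceAs (Unique (PrimeSpectrum Ω))
  rw [Subsingleton.elim t (IsLocalRing.closedPoint Ω)]
  exact h

/-- A radicial piece of a finite morphism can be split off etale locally. -/
theorem exists_peel {U V : Scheme.{u}} (π : U ⟶ V) [IsFinite π] {Ω : Type u} [Field Ω]
    [IsAlgClosed Ω] (p : Spec (CommRingCat.of Ω) ⟶ V) (q : GeomPts π p) :
    ∃ (V' : Scheme.{u}) (h : V' ⟶ V) (_ : Etale h) (p' : Spec (CommRingCat.of Ω) ⟶ V')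
      (_ : p' ≫ h = p) (P C : (pullback π h).Opens),
      IsCompl P C ∧ IsFinite (P.ι ≫ pullback.snd π h) ∧ IsFinite (C.ι ≫ pullback.snd π h) ∧
      Subsingleton (GeomPts (P.ι ≫ pullback.snd π h) p') ∧
      ∃ q' : GeomPts (P.ι ≫ pullback.snd π h) p', q'.1 ≫ P.ι ≫ pullback.fst π h = q.1 := by
  obtain ⟨V', h, he, p', hp', P, q', hfin, hsub, hq'⟩ := exists_radicial_part π p q
  haveI := he
  haveI := hfin
  haveI : IsFinite (pullback.snd π h) := MorphismProperty.pullback_snd _ _ ‹_›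
  haveI : IsFinite P.ι := IsFinite.of_comp _ (pullback.snd π h)
  have hclosed : IsClosed (P : Set ↑(pullback π h)) := by
    simpa using P.ι.isClosedMap.isClosed_range
  let C : (pullback π h).Opens := ⟨(P : Set ↑(pullback π h))ᶜ, hclosed.isOpen_compl⟩
  haveI : IsClosedImmersion C.ι := .of_isPreimmersion _ (by
    rw [Scheme.Opens.range_ι]; exact P.isOpen.isClosed_compl)
  refine ⟨V', h, he, p', hp', P, C, ?_, hfin, inferInstance, hsub, q', hq'⟩
  simp [isCompl_iff, disjoint_iff, codisjoint_iff, C, SetLike.ext'_iff]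

/-- **Splitting lemma.** Etale locally around a geometric point, a finite morphism is a disjoint
union of finitely many finite pieces each having exactly one geometric point over it. -/
theorem exists_split {U V : Scheme.{u}} (π : U ⟶ V) [IsFinite π] {Ω : Type u} [Field Ω]
    [IsAlgClosed Ω] (p : Spec (CommRingCat.of Ω) ⟶ V) :
    ∃ (V' : Scheme.{u}) (h : V' ⟶ V) (_ : Etale h) (p' : Spec (CommRingCat.of Ω) ⟶ V')
      (_ : p' ≫ h = p) (n : ℕ) (P : Fin n → Scheme.{u}) (j : ∀ i, P i ⟶ pullback π h),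
      (∀ i, IsOpenImmersion (j i)) ∧ (∀ i, IsFinite (j i ≫ pullback.snd π h)) ∧
      (∀ i, Subsingleton (GeomPts (j i ≫ pullback.snd π h) p') ∧
        Nonempty (GeomPts (j i ≫ pullback.snd π h) p')) ∧
      ∀ x : ↑(pullback π h), ∃! i, x ∈ Set.range (j i) := by
  haveI := finite_geomPts π p (π.finite_preimage_singleton _)
  generalize hN : Nat.card (GeomPts π p) = N
  induction N using Nat.strong_induction_on generalizing U V with
  | _ N ih =>
  rcases isEmpty_or_nonempty (GeomPts π p) with hemp | ⟨⟨q⟩⟩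
  · -- no lifts: shrink until the source is empty
    have hf : ∀ u, π u = pt p → u ∈ (∅ : Set U) := by
      intro u hu
      obtain ⟨⟨⟨r, -⟩⟩, -⟩ : Nonempty {q : GeomPts π p // pt q.1 = u} ∧ True := by
        refine ⟨(Nat.card_ne_zero.mp ?_).1, trivial⟩
        rw [(card_geomPts_over π p u hu).2]
        letI := (π.residueFieldMap u).hom.toAlgebra
        haveI : Module.Finite (V.residueField (π u)) (U.residueField u) :=
          finite_residueFieldMap π u
        exact NeZero.ne _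
      exact hemp.elim r
    obtain ⟨O, hO, hOA⟩ := exists_preimage_subset π π.isClosedMap (pt p) ∅ isOpen_empty hf
    let p' := IsOpenImmersion.lift O.ι p (range_subset_of_pt_mem p (by simpa using hO))
    refine ⟨O, O.ι, inferInstance, p', IsOpenImmersion.lift_fac _ _ _, 0, Fin.elim0,
      fun i ↦ i.elim0, fun i ↦ i.elim0, fun i ↦ i.elim0, fun i ↦ i.elim0, fun x ↦ ?_⟩
    refine (hOA (pullback.fst π O.ι x) ?_).elim
    show (pullback.fst π O.ι ≫ π) x ∈ O
    rw [pullback.condition]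
    exact (pullback.snd π O.ι x).2
  obtain ⟨V₁, h₁, _, p₁, hp₁, P₀, C, hPC, hP₀fin, hCfin, hsub, q₀, hq₀⟩ := exists_peel π p q
  haveI := hCfin
  haveI := hP₀fin
  let b : GeomPts (C.ι ≫ pullback.snd π h₁) p₁ → GeomPts π p := fun r ↦
    ⟨r.1 ≫ C.ι ≫ pullback.fst π h₁, by
      rw [Category.assoc, Category.assoc, pullback.condition, ← Category.assoc C.ι,
        ← Category.assoc, r.2, hp₁]⟩
  have hb : Function.Injective b := fun r s hrs ↦ by
    refine Subtype.ext ((cancel_mono C.ι).mp ?_)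
    apply pullback.hom_ext
    · simpa using congrArg Subtype.val hrs
    · rw [Category.assoc, Category.assoc]; exact r.2.trans s.2.symm
  have hdisj : ∀ x, x ∈ P₀ → x ∈ C → False := fun x hx hx' ↦ by
    have : (x : ↑(pullback π h₁)) ∈ ((P₀ ⊓ C : (pullback π h₁).Opens) : Set _) := ⟨hx, hx'⟩
    rw [hPC.inf_eq_bot] at this
    exact this
  have hlt : Nat.card (GeomPts (C.ι ≫ pullback.snd π h₁) p₁) < N := by
    haveI : Finite (GeomPts (C.ι ≫ pullback.snd π h₁) p₁) := Finite.of_injective b hb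
    haveI := Fintype.ofFinite (GeomPts π p)
    haveI := Fintype.ofFinite (GeomPts (C.ι ≫ pullback.snd π h₁) p₁)
    rw [← hN, Nat.card_eq_fintype_card, Nat.card_eq_fintype_card]
    refine Fintype.card_lt_of_injective_not_surjective b hb ?_
    intro hs
    obtain ⟨r, hr⟩ := hs q
    have hcomm : r.1 ≫ C.ι = q₀.1 ≫ P₀.ι := by
      apply pullback.hom_ext
      · rw [Category.assoc, Category.assoc, hq₀]; exact congrArg Subtype.val hr
      · rw [Category.assoc, Category.assoc, r.2, q₀.2]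
    refine hdisj (pt (q₀.1 ≫ P₀.ι)) ?_ ?_
    · exact (pt q₀.1).2
    · rw [← hcomm]; exact (pt r.1).2
  haveI := finite_geomPts (C.ι ≫ pullback.snd π h₁) p₁
    ((C.ι ≫ pullback.snd π h₁).finite_preimage_singleton _)
  obtain ⟨V₂, h₂, _, p₂, hp₂, n, Q, k, hk, hkfin, hkpt, hkcov⟩ :=
    ih _ hlt (C.ι ≫ pullback.snd π h₁) p₁ ‹_› rfl
  let T := towerMap π h₁ h₂
  have hT := isPullback_towerMap π h₁ h₂
  -- the component coming from `C`
  let cm : pullback (C.ι ≫ pullback.snd π h₁) h₂ ⟶ pullback π (h₂ ≫ h₁) :=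
    pullback.lift (pullback.fst _ _ ≫ C.ι ≫ pullback.fst π h₁) (pullback.snd _ _) (by
      rw [Category.assoc, Category.assoc, pullback.condition (f := π),
        ← pullback.condition_assoc, Category.assoc])
  have hcm2 : cm ≫ pullback.snd π (h₂ ≫ h₁) = pullback.snd _ _ := pullback.lift_snd _ _ _
  have hcmT : IsPullback cm (pullback.fst (C.ι ≫ pullback.snd π h₁) h₂) T C.ι := by
    refine (IsPullback.of_bot (h₁₁ := pullback.fst (C.ι ≫ pullback.snd π h₁) h₂) (v₁₁ := cm)
      (v₁₂ := C.ι) ?_ ?_ hT).flip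
    · rw [hcm2]; exact IsPullback.of_hasPullback (C.ι ≫ pullback.snd π h₁) h₂
    · apply pullback.hom_ext
      · rw [Category.assoc, Category.assoc, pullback.lift_fst, pullback.lift_fst]
      · rw [Category.assoc, Category.assoc, pullback.lift_snd, ← Category.assoc cm, hcm2]
        exact pullback.condition
  haveI : IsOpenImmersion cm :=
    MorphismProperty.of_isPullback hcmT.flip (inferInstance : IsOpenImmersion C.ι)
  -- the component coming from `P₀`
  let pm := pullback.snd P₀.ι T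
  have hpm : IsPullback (pullback.fst P₀.ι T) (pm ≫ pullback.snd π (h₂ ≫ h₁))
      (P₀.ι ≫ pullback.snd π h₁) h₂ := (IsPullback.of_hasPullback P₀.ι T).paste_vert hT
  have hcmrange : ∀ x, x ∈ Set.range cm ↔ T x ∈ C := fun x ↦ by
    constructor
    · rintro ⟨z, rfl⟩
      show (cm ≫ T) z ∈ C
      rw [hcmT.w]
      exact (pullback.fst (C.ι ≫ pullback.snd π h₁) h₂ z).2
    · intro hx
      let ξ := (pullback π (h₂ ≫ h₁)).fromSpecResidueField x
      have hr : Set.range (ξ ≫ T) ⊆ Set.range C.ι := by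
        rintro _ ⟨t, rfl⟩
        rw [Scheme.Opens.range_ι]
        show T (ξ t) ∈ C
        rw [Scheme.fromSpecResidueField_apply]; exact hx
      obtain ⟨t⟩ : Nonempty ↥(Spec ((pullback π (h₂ ≫ h₁)).residueField x)) := inferInstance
      refine ⟨hcmT.lift ξ (IsOpenImmersion.lift C.ι (ξ ≫ T) hr)
        (IsOpenImmersion.lift_fac _ _ _).symm t, ?_⟩
      show (hcmT.lift _ _ _ ≫ cm) t = x
      rw [hcmT.lift_fst]
      exact Scheme.fromSpecResidueField_apply _ t
  have hpmrange : ∀ x, x ∈ Set.range pm ↔ T x ∈ P₀ := fun x ↦ by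
    rw [IsOpenImmersion.range_pullbackSnd, Scheme.Opens.opensRange_ι]; rfl
  refine ⟨V₂, h₂ ≫ h₁, inferInstance, p₂, by rw [← Category.assoc, hp₂, hp₁], n + 1,
    Fin.cons (pullback P₀.ι T) Q,
    Fin.cases (motive := fun i ↦ Fin.cons (α := fun _ ↦ Scheme.{u}) (pullback P₀.ι T) Q i ⟶
      pullback π (h₂ ≫ h₁)) pm (fun i ↦ k i ≫ cm), ?_, ?_, ?_, ?_⟩
  · intro i
    cases i using Fin.cases with
    | zero => exact inferInstanceAs (IsOpenImmersion pm)
    | succ i => haveI := hk i; exact inferInstanceAs (IsOpenImmersion (k i ≫ cm))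
  · intro i
    cases i using Fin.cases with
    | zero => exact MorphismProperty.of_isPullback hpm hP₀fin
    | succ i =>
      show IsFinite ((k i ≫ cm) ≫ pullback.snd π (h₂ ≫ h₁))
      rw [Category.assoc, hcm2]; exact hkfin i
  · intro i
    cases i using Fin.cases with
    | zero =>
      let e := geomPtsEquiv hpm p₂ p₁ hp₂
      exact ⟨e.subsingleton, ⟨e.symm q₀⟩⟩
    | succ i =>
      show Subsingleton (GeomPts ((k i ≫ cm) ≫ pullback.snd π (h₂ ≫ h₁)) p₂) ∧
        Nonempty (GeomPts ((k i ≫ cm) ≫ pullback.snd π (h₂ ≫ h₁)) p₂)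
      rw [Category.assoc, hcm2]; exact hkpt i
  · intro x
    have hx : T x ∈ P₀ ∨ T x ∈ C := by
      have : T x ∈ ((P₀ ⊔ C : (pullback π h₁).Opens) : Set _) := by
        rw [hPC.sup_eq_top]; trivial
      exact this
    rcases hx with hx | hx
    · refine ⟨0, (hpmrange x).mpr hx, fun i hi ↦ ?_⟩
      cases i using Fin.cases with
      | zero => rfl
      | succ i =>
        obtain ⟨z, hz⟩ := hi
        exact (hdisj _ hx ((hcmrange x).mp ⟨k i z, hz⟩)).elim
    · obtain ⟨z, hz⟩ := (hcmrange x).mpr hx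
      obtain ⟨i, ⟨t, ht⟩, huniq⟩ := hkcov z
      refine ⟨i.succ, ⟨t, by show cm (k i t) = x; rw [ht, hz]⟩, fun i' hi' ↦ ?_⟩
      cases i' using Fin.cases with
      | zero => exact (hdisj _ ((hpmrange x).mp hi') hx).elim
      | succ i' =>
        obtain ⟨t', ht'⟩ := hi'
        exact congrArg Fin.succ (huniq i'
          ⟨t', cm.isOpenEmbedding.injective (ht'.trans hz.symm)⟩)

/-- Fibre integrals through radicial pieces. -/
theorem fibreIntegral_subsingleton {U V : Scheme.{u}} (π : U ⟶ V) [LocallyQuasiFinite π]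
    [LocallyOfFiniteType π] {Ω : Type u} [Field Ω] [IsAlgClosed Ω]
    (p : Spec (CommRingCat.of Ω) ⟶ V)
    (h : Subsingleton (GeomPts π p) ∧ Nonempty (GeomPts π p)) :
    ∃ x : U, π x = pt p ∧ (∀ y, π y = pt p → y = x) ∧
      ∀ w : U → ℤ, MoreMor.fibreIntegral π w (pt p) = w x := by
  obtain ⟨hs, ⟨q⟩⟩ := h
  refine ⟨pt q.1, pt_geomPts q, fun y hy ↦ ?_, fun w ↦ fibreIntegral_of_unique_geomPts π p q w⟩
  letI := (π.residueFieldMap y).hom.toAlgebra
  haveI : Module.Finite (V.residueField (π y)) (U.residueField y) := finite_residueFieldMap π y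
  obtain ⟨⟨r, hr⟩⟩ : Nonempty {r : GeomPts π p // pt r.1 = y} := by
    refine (Nat.card_ne_zero.mp ?_).1
    rw [(card_geomPts_over π p y hy).2]
    exact NeZero.ne _
  rw [← hr, Subsingleton.elim r q]

end GrothLib.Weight
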