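import Groth.Agent.Lib.Weight.FinitePart
import Groth.Agent.Lib.Weight.Split

/-! # Simultaneous finite parts after etale localisation -/

universe u

open CategoryTheory Limits AlgebraicGeometry

namespace GrothLib.Weight

variable {X S : Scheme.{u}} (f : X ⟶ S)

/-- An open of the base change which is finite over the new base and isolates a point over `x`. -/
def HasFinitePart {U : Scheme.{u}} (g : U ⟶ S) (u : U) (x : X) : Prop :=
  ∃ (V : (pullback f g).Opens) (v : ↑(pullback f g)), v ∈ V ∧
    IsFinite (V.ι ≫ pullback.snd f g) ∧ pullback.snd f g v = u ∧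
    (∀ w : ↑(pullback f g), w ∈ V → pullback.snd f g w = u → w = v) ∧
    pullback.fst f g v = x ∧ Function.Bijective ((pullback.fst f g).residueFieldMap v)

variable {f}

theorem residueFieldMap_bijective_of_comp {A B C : Scheme.{u}} (a : A ⟶ B) (b : B ⟶ C) (x : A)
    (ha : Function.Bijective (a.residueFieldMap x))
    (hb : Function.Bijective (b.residueFieldMap (a x))) :
    Function.Bijective ((a ≫ b).residueFieldMap x) := by
  rw [Scheme.residueFieldMap_comp]
  exact ha.comp hb

/-- A finite part persists in a further neighbourhood. -/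
theorem HasFinitePart.of_comp {U W : Scheme.{u}} {g : U ⟶ S} {u : U} {x : X}
    (H : HasFinitePart f g u x) (hg : Function.Bijective (g.residueFieldMap u)) (h : W ⟶ U) (w : W)
    (hw : h w = u) (hb : Function.Bijective ((h ≫ g).residueFieldMap w)) :
    HasFinitePart f (h ≫ g) w x := by
  obtain ⟨V, v, hvV, hfin, hvu, huniq, hvx, -⟩ := H
  let T := towerMap f g h
  have hT := isPullback_towerMap f g h
  have hfx : f x = g u := by
    rw [← hvx, ← hvu, ← Scheme.Hom.comp_apply, ← Scheme.Hom.comp_apply, pullback.condition]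
  have hfx' : f x = (h ≫ g) w := by rw [Scheme.Hom.comp_apply, hw, hfx]
  obtain ⟨v₀, -, -, hv₀⟩ := existsUnique_point_over f g u hg x hfx
  obtain ⟨v', ⟨hv'x, hv'w⟩, hv'b, hv'u⟩ := existsUnique_point_over f (h ≫ g) w hb x hfx'
  have hTfst : ∀ z, pullback.fst f g (T z) = pullback.fst f (h ≫ g) z := fun z ↦ by
    rw [← Scheme.Hom.comp_apply, pullback.lift_fst]
  have hTsnd : ∀ z, pullback.snd f g (T z) = h (pullback.snd f (h ≫ g) z) := fun z ↦ by
    rw [← Scheme.Hom.comp_apply, ← Scheme.Hom.comp_apply, pullback.lift_snd]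
  have hTv : T v' = v :=
    (hv₀ _ (by rw [hTfst, hv'x]) (by rw [hTsnd, hv'w, hw])).trans (hv₀ v hvx hvu).symm
  refine ⟨T ⁻¹ᵁ V, v', by show T v' ∈ V; rw [hTv]; exact hvV, ?_, hv'w, ?_, hv'x, hv'b⟩
  · exact MorphismProperty.of_isPullback
      ((isPullback_morphismRestrict T V).paste_vert hT) hfin
  · intro z hz hzw
    have : T z = v := huniq _ hz (by rw [hTsnd, hzw, hw])
    exact hv'u z (by rw [← hTfst, this, hvx]) hzw

/-- Finitely many quasi-finite points over `s` have finite parts over a common neighbourhood. -/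
theorem exists_finite_parts [LocallyOfFiniteType f] (s : S) {ι : Type*} (x : ι → X)
    (hs : ∀ i, f (x i) = s) (hx : ∀ i, f.QuasiFiniteAt (x i)) (t : Finset ι) :
    ∃ (U : Scheme.{u}) (g : U ⟶ S) (u : U), Hens2.IsEtaleNbhd g u s ∧
      ∀ i ∈ t, HasFinitePart f g u (x i) := by
  classical
  induction t using Finset.induction with
  | empty =>
    refine ⟨S, 𝟙 S, s, ⟨inferInstance, rfl, ?_⟩, by simp⟩
    exact (ConcreteCategory.isIso_iff_bijective _).mp inferInstance
  | @insert i t hit ih =>
    obtain ⟨U, g, u, ⟨hge, hgu, hgb⟩, hg⟩ := ih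
    obtain ⟨U', g', u', ⟨hge', hgu', hgb'⟩, V, v, hg'⟩ := exists_finite_part f (x i) (hx i)
    obtain ⟨w, ⟨hwu, hwu'⟩, hwb, -⟩ :=
      existsUnique_point_over g g' u' hgb' u (hgu.trans ((hs i).symm.trans hgu'.symm))
    have hb : Function.Bijective ((pullback.fst g g' ≫ g).residueFieldMap w) :=
      residueFieldMap_bijective_of_comp _ _ _ hwb (hwu.symm ▸ hgb)
    have hb' : Function.Bijective ((pullback.snd g g' ≫ g').residueFieldMap w) :=
      pullback.condition (f := g) (g := g') ▸ hb
    haveI := hge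
    haveI := hge'
    refine ⟨_, pullback.fst g g' ≫ g, w, ⟨inferInstance, ?_, hb⟩, ?_⟩
    · rw [Scheme.Hom.comp_apply, hwu, hgu]
    · intro j hj
      rcases Finset.mem_insert.mp hj with rfl | hj
      · rw [pullback.condition]
        exact HasFinitePart.of_comp ⟨V, v, hg'⟩ hgb' _ w hwu' hb'
      · exact (hg j hj).of_comp hgb _ w hwu hb

end GrothLib.Weight
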