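import Groth.Agent.Lib.Weight.Split
import Mathlib.Topology.Spectral.ConstructibleTopology
import Mathlib.RingTheory.Spectrum.Prime.Chevalley
import Mathlib.RingTheory.FiniteType

/-! # Functions locally constant in the constructible topology; constructible neighbourhoods -/

universe u

open CategoryTheory Limits AlgebraicGeometry Topology

namespace GrothLib.Weight

theorem isOpen_withConstructible {X : Type*} [TopologicalSpace X] [CompactSpace X]
    [QuasiSeparatedSpace X] {s : Set X} (hs : IsConstructible s) :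
    IsOpen[constructibleTopology X] s ∧ IsOpen[constructibleTopology X] sᶜ := by
  induction hs using IsConstructible.empty_union_induction with
  | open_retrocompact U hUo hUc =>
    exact ⟨IsCompact.isOpen_constructibleTopology_of_isOpen hUc.isCompact hUo,
      IsCompact.isOpen_constructibleTopology_of_isClosed (by rw [compl_compl]; exact hUc.isCompact)
        hUo.isClosed_compl⟩
  | union s hs t ht hs' ht' =>
    refine ⟨@IsOpen.union X _ _ (constructibleTopology X) hs'.1 ht'.1, ?_⟩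
    rw [Set.compl_union]; exact (constructibleTopology X).isOpen_inter _ _ hs'.2 ht'.2
  | compl s hs hs' => exact ⟨hs'.2, by rw [compl_compl]; exact hs'.1⟩

/-- A function which is constant on a constructible neighbourhood of each point has constructible
level sets and finitely many values. -/
theorem isConstructible_levelSets {X α : Type*} [TopologicalSpace X] [CompactSpace X]
    [QuasiSober X] [PrespectralSpace X] [QuasiSeparatedSpace X] (F : X → α)
    (h : ∀ x, ∃ E, IsConstructible E ∧ x ∈ E ∧ ∀ y ∈ E, F y = F x) :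
    (∀ a, IsConstructible {x | F x = a}) ∧ (Set.range F).Finite := by
  choose E hE hxE hF using h
  have hcover : ∃ t : Finset X, ∀ x, ∃ i ∈ t, x ∈ E i := by
    obtain ⟨t, ht⟩ := CompactSpace.isCompact_univ.elim_finite_subcover
      (fun i ↦ (WithTopology.toTopology (constructibleTopology X)) '' E i)
      (fun i ↦ WithConstructibleTopology.isOpen_iff.mpr (by
        rw [Set.preimage_image_eq _ (WithTopology.toTopology_injective _)]
        exact (isOpen_withConstructible (hE i)).1))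
      (fun y _ ↦ by
        obtain ⟨x, rfl⟩ := WithTopology.toTopology_surjective (constructibleTopology X) y
        exact Set.mem_iUnion.mpr ⟨x, x, hxE x, rfl⟩)
    refine ⟨t, fun x ↦ ?_⟩
    obtain ⟨i, hi, y, hy, hyx⟩ := Set.mem_iUnion₂.mp
      (ht (Set.mem_univ (WithTopology.toTopology (constructibleTopology X) x)))
    exact ⟨i, hi, WithTopology.toTopology_injective _ hyx ▸ hy⟩
  obtain ⟨t, ht⟩ := hcover
  refine ⟨fun a ↦ ?_, (t.finite_toSet.image F).subset ?_⟩
  · rw [show {x | F x = a} = ⋃ i ∈ {i ∈ (t : Set X) | F i = a}, E i by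
      ext x
      simp only [Set.mem_setOf_eq, Set.mem_iUnion, exists_prop, Finset.mem_coe]
      exact ⟨fun hx ↦ let ⟨i, hi, hxi⟩ := ht x; ⟨i, ⟨hi, (hF i x hxi) ▸ hx⟩, hxi⟩,
        fun ⟨i, ⟨_, hi⟩, hxi⟩ ↦ (hF i x hxi).trans hi⟩]
    exact IsConstructible.biUnion (t.finite_toSet.subset fun i hi ↦ hi.1) fun i _ ↦ hE i
  · rintro _ ⟨x, rfl⟩
    obtain ⟨i, hi, hxi⟩ := ht x
    exact ⟨i, hi, (hF i x hxi).symm⟩

/-- The points where `s` does not vanish and finitely many given elements do. -/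
theorem isConstructible_basic {R : Type u} [CommRing R] (s : R) (J : Finset R) :
    IsConstructible ((PrimeSpectrum.basicOpen s : Set (PrimeSpectrum R)) ∩
      PrimeSpectrum.zeroLocus (J : Set R)) := by
  refine PrimeSpectrum.isConstructible_basicOpen.inter ?_
  rw [← compl_compl (PrimeSpectrum.zeroLocus (J : Set R))]
  exact ((PrimeSpectrum.isRetrocompact_zeroLocus_compl J.finite_toSet).isConstructible
    (PrimeSpectrum.isClosed_zeroLocus _).isOpen_compl).compl

/-- A point outside the image of `Spec B → Spec R` has a constructible neighbourhood outside it. -/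
theorem exists_constructible_avoid {R B : Type u} [CommRing R] [CommRing B] (φ : R →+* B)
    (p : PrimeSpectrum R) (h : p ∉ Set.range (PrimeSpectrum.comap φ)) :
    ∃ E, IsConstructible E ∧ p ∈ E ∧ Disjoint E (Set.range (PrimeSpectrum.comap φ)) := by
  classical
  have hex : ∃ s ∉ p.asIdeal, φ s ∈ p.asIdeal.map φ := by
    by_contra! hne
    obtain ⟨Q, hQ, hle, hdisj⟩ := Ideal.exists_le_prime_disjoint (p.asIdeal.map φ)
      (p.asIdeal.primeCompl.map φ) (Set.disjoint_left.mpr fun x hx ⟨s, hs, hsx⟩ ↦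
        hne s hs (hsx ▸ hx))
    refine h ⟨⟨Q, hQ⟩, PrimeSpectrum.ext (le_antisymm ?_ ?_)⟩
    · intro a ha
      by_contra hap
      exact Set.disjoint_left.mp hdisj ha ⟨a, hap, rfl⟩
    · exact Ideal.map_le_iff_le_comap.mp hle
  obtain ⟨s, hs, hmem⟩ := hex
  obtain ⟨T, hT, hTs⟩ := Submodule.mem_span_finite_of_mem_span hmem
  choose g hg hgT using fun b (hb : b ∈ (T : Set B)) ↦ hT hb
  let J : Finset R := T.attach.image fun b ↦ g b.1 b.2
  refine ⟨_, isConstructible_basic s J, ⟨hs, fun a ha ↦ ?_⟩, Set.disjoint_left.mpr ?_⟩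
  · obtain ⟨b, -, rfl⟩ := Finset.mem_image.mp ha
    exact hg b.1 b.2
  · rintro _ ⟨hsQ, hJQ⟩ ⟨Q, rfl⟩
    refine hsQ ?_
    show φ s ∈ Q.asIdeal
    refine Submodule.span_le.mpr (fun b hb ↦ ?_) hTs
    rw [← hgT b hb]
    exact hJQ (Finset.mem_image.mpr ⟨⟨b, hb⟩, Finset.mem_attach _ _, rfl⟩)

/-- A radicial point of a finite type algebra has a constructible neighbourhood of radicial
points. -/
theorem exists_constructible_radicial {R B : Type u} [CommRing R] [CommRing B] [Algebra R B]
    [Algebra.FiniteType R B] (p : PrimeSpectrum R)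
    (h : ∀ (Ω : Type u) [Field Ω] [IsAlgClosed Ω] (σ τ : B →+* Ω),
      σ.comp (algebraMap R B) = τ.comp (algebraMap R B) →
      RingHom.ker (σ.comp (algebraMap R B)) = p.asIdeal → σ = τ) :
    ∃ E, IsConstructible E ∧ p ∈ E ∧ ∀ (Ω : Type u) [Field Ω] (σ τ : B →+* Ω),
      σ.comp (algebraMap R B) = τ.comp (algebraMap R B) →
      (⟨RingHom.ker (σ.comp (algebraMap R B)), RingHom.ker_isPrime _⟩ : PrimeSpectrum R) ∈ E →
        σ = τ := by
  classical
  obtain ⟨gens, hgens⟩ := ‹Algebra.FiniteType R B›.out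
  open TensorProduct in
  have key : ∀ b : B, ∃ E, IsConstructible E ∧ p ∈ E ∧ ∀ (Ω : Type u) [Field Ω] (σ τ : B →+* Ω),
      σ.comp (algebraMap R B) = τ.comp (algebraMap R B) →
      (⟨RingHom.ker (σ.comp (algebraMap R B)), RingHom.ker_isPrime _⟩ : PrimeSpectrum R) ∈ E →
        σ b = τ b := by
    intro b
    let δ : B ⊗[R] B := b ⊗ₜ 1 - 1 ⊗ₜ b
    let C := Localization.Away δ
    let φ : R →+* C := (algebraMap (B ⊗[R] B) C).comp (algebraMap R (B ⊗[R] B))
    have hp : p ∉ Set.range (PrimeSpectrum.comap φ) := by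
      rintro ⟨Q, hQ⟩
      let Ω := AlgebraicClosure Q.asIdeal.ResidueField
      let θ : B ⊗[R] B →+* Ω :=
        ((algebraMap Q.asIdeal.ResidueField Ω).comp (algebraMap C Q.asIdeal.ResidueField)).comp
          (algebraMap (B ⊗[R] B) C)
      let σ : B →+* Ω := θ.comp Algebra.TensorProduct.includeLeftRingHom
      let τ : B →+* Ω := θ.comp Algebra.TensorProduct.includeRight.toRingHom
      have hστ : σ.comp (algebraMap R B) = τ.comp (algebraMap R B) := RingHom.ext fun r ↦ by
        show θ (algebraMap R B r ⊗ₜ 1) = θ (1 ⊗ₜ algebraMap R B r)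
        rw [Algebra.algebraMap_eq_smul_one, smul_tmul]
      have hker : RingHom.ker (σ.comp (algebraMap R B)) = p.asIdeal := by
        rw [← hQ]
        ext r
        show θ (algebraMap R B r ⊗ₜ 1) = 0 ↔ φ r ∈ Q.asIdeal
        simp only [θ, φ, RingHom.comp_apply, _root_.map_eq_zero,
          Ideal.algebraMap_residueField_eq_zero]
        rfl
      have hδ : θ δ = 0 := by
        simp only [δ, map_sub, sub_eq_zero]
        exact RingHom.congr_fun (h Ω σ τ hστ hker) b
      have hu : IsUnit (algebraMap (B ⊗[R] B) C δ) := IsLocalization.Away.algebraMap_isUnit δ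
      exact (hu.map ((algebraMap Q.asIdeal.ResidueField Ω).comp
        (algebraMap C Q.asIdeal.ResidueField))).ne_zero hδ
    obtain ⟨E, hE, hpE, hdisj⟩ := exists_constructible_avoid φ p hp
    refine ⟨E, hE, hpE, fun Ω _ σ τ hστ hmem ↦ by_contra fun hne ↦ ?_⟩
    letI : Algebra R Ω := (σ.comp (algebraMap R B)).toAlgebra
    let σ' : B →ₐ[R] Ω := ⟨σ, fun r ↦ rfl⟩
    let τ' : B →ₐ[R] Ω := ⟨τ, fun r ↦ (RingHom.congr_fun hστ r).symm⟩
    let θ : B ⊗[R] B →ₐ[R] Ω := Algebra.TensorProduct.productMap σ' τ'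
    have hu : IsUnit (θ.toRingHom δ) := by
      refine isUnit_iff_ne_zero.mpr ?_
      show θ (b ⊗ₜ 1 - 1 ⊗ₜ b) ≠ 0
      simpa [θ, σ', τ', sub_eq_zero] using hne
    let χ : C →+* Ω := IsLocalization.Away.lift δ hu
    refine Set.disjoint_left.mp hdisj hmem ⟨⟨RingHom.ker χ, RingHom.ker_isPrime χ⟩,
      PrimeSpectrum.ext ?_⟩
    ext r
    show χ (φ r) = 0 ↔ σ (algebraMap R B r) = 0
    rw [show χ (φ r) = θ (algebraMap R (B ⊗[R] B) r) from IsLocalization.lift_eq _ _, θ.commutes]
    rfl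
  choose E hE hpE hEb using key
  refine ⟨⋂ b ∈ (gens : Set B), E b, ?_, Set.mem_iInter₂.mpr fun b _ ↦ hpE b, ?_⟩
  · rw [← compl_compl (⋂ b ∈ (gens : Set B), E b), Set.compl_iInter₂]
    exact (IsConstructible.biUnion gens.finite_toSet fun b _ ↦ (hE b).compl).compl
  · intro Ω _ σ τ hστ hmem
    letI : Algebra R Ω := (σ.comp (algebraMap R B)).toAlgebra
    let σ' : B →ₐ[R] Ω := ⟨σ, fun r ↦ rfl⟩
    let τ' : B →ₐ[R] Ω := ⟨τ, fun r ↦ (RingHom.congr_fun hστ r).symm⟩
    have : σ' = τ' := AlgHom.ext_of_adjoin_eq_top hgens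
      fun b hb ↦ hEb b Ω σ τ hστ (Set.mem_iInter₂.mp hmem b hb)
    exact congrArg AlgHom.toRingHom this

/-- The number of geometric points over a point does not depend on the geometric point. -/
theorem card_geomPts {U V : Scheme.{u}} (π : U ⟶ V) [LocallyQuasiFinite π]
    [LocallyOfFiniteType π] {Ω : Type u} [Field Ω] [IsAlgClosed Ω]
    (p : Spec (CommRingCat.of Ω) ⟶ V) (hfin : (π ⁻¹' {pt p}).Finite) :
    (Nat.card (GeomPts π p) : ℤ) = MoreMor.fibreIntegral π (fun _ ↦ 1) (pt p) := by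
  haveI := finite_geomPts π p hfin
  haveI := Fintype.ofFinite (GeomPts π p)
  rw [fibreIntegral_eq π p, finsum_eq_sum_of_fintype]
  simp

theorem subsingleton_geomPts_of_pt_eq {U V : Scheme.{u}} (π : U ⟶ V) [IsFinite π]
    {Ω Ω' : Type u} [Field Ω] [IsAlgClosed Ω] [Field Ω'] [IsAlgClosed Ω']
    {p : Spec (CommRingCat.of Ω) ⟶ V} {p' : Spec (CommRingCat.of Ω') ⟶ V} (hpp : pt p' = pt p)
    (h : Subsingleton (GeomPts π p)) : Subsingleton (GeomPts π p') := by
  haveI := finite_geomPts π p (π.finite_preimage_singleton _)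
  haveI := finite_geomPts π p' (π.finite_preimage_singleton _)
  have h1 := card_geomPts π p (π.finite_preimage_singleton _)
  have h2 := card_geomPts π p' (π.finite_preimage_singleton _)
  rw [hpp, ← h1] at h2
  rw [← Finite.card_le_one_iff_subsingleton] at h ⊢
  omega

/-- Scheme form: radiciality spreads to a constructible neighbourhood in an affine base. -/
theorem exists_constructible_subsingleton {R B : CommRingCat.{u}} (φ : R ⟶ B)
    [IsFinite (Spec.map φ)] {Ω₀ : Type u} [Field Ω₀] [IsAlgClosed Ω₀]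
    (p₀ : Spec (CommRingCat.of Ω₀) ⟶ Spec R) (hs : Subsingleton (GeomPts (Spec.map φ) p₀)) :
    ∃ E : Set (Spec R), IsConstructible E ∧ pt p₀ ∈ E ∧ ∀ (Ω : Type u) [Field Ω]
      (p : Spec (CommRingCat.of Ω) ⟶ Spec R), pt p ∈ E → Subsingleton (GeomPts (Spec.map φ) p) := by
  letI := φ.hom.toAlgebra
  have hfin : φ.hom.Finite := (IsFinite.SpecMap_iff (f := φ)).mp inferInstance
  haveI : Algebra.FiniteType R B := hfin.finiteType
  have hpt : ∀ {Ω : Type u} [Field Ω] (ρ : R →+* Ω), pt (Spec.map (CommRingCat.ofHom ρ)) =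
      (⟨RingHom.ker ρ, RingHom.ker_isPrime ρ⟩ : PrimeSpectrum R) := fun ρ ↦
    PrimeSpectrum.ext (by
      show Ideal.comap ρ (IsLocalRing.maximalIdeal _) = RingHom.ker ρ
      rw [IsLocalRing.maximalIdeal_eq_bot]; rfl)
  obtain ⟨E, hE, hpE, hEinj⟩ := exists_constructible_radicial (B := B) (pt p₀) (by
    intro Ω _ _ σ τ hστ hker
    let p : Spec (CommRingCat.of Ω) ⟶ Spec R :=
      Spec.map (CommRingCat.ofHom (σ.comp (algebraMap R B)))
    have hp : pt p = pt p₀ := (hpt (σ.comp (algebraMap R B))).trans (PrimeSpectrum.ext hker)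
    haveI := subsingleton_geomPts_of_pt_eq (Spec.map φ) hp hs
    have := congrArg Subtype.val (Subsingleton.elim (α := GeomPts (Spec.map φ) p)
      ⟨Spec.map (CommRingCat.ofHom σ), by rw [← Spec.map_comp]; rfl⟩
      ⟨Spec.map (CommRingCat.ofHom τ), by
        rw [← Spec.map_comp]
        exact congrArg (fun m ↦ Spec.map (CommRingCat.ofHom m)) hστ.symm⟩)
    exact CommRingCat.hom_ext_iff.mp (Spec.map_injective this))
  refine ⟨E, hE, hpE, fun Ω _ p hp ↦ ⟨fun a b ↦ Subtype.ext ?_⟩⟩
  obtain ⟨σ, hσ⟩ := Spec.map_surjective a.1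
  obtain ⟨τ, hτ⟩ := Spec.map_surjective b.1
  have h1 : Spec.map (φ ≫ σ) = p := by rw [Spec.map_comp, hσ]; exact a.2
  have h2 : Spec.map (φ ≫ τ) = p := by rw [Spec.map_comp, hτ]; exact b.2
  have := hEinj Ω σ.hom τ.hom (CommRingCat.hom_ext_iff.mp (Spec.map_injective (h1.trans h2.symm)))
    (by rw [← hpt, show CommRingCat.ofHom (σ.hom.comp (algebraMap R B)) = φ ≫ σ from rfl, h1]; exact hp)
  rw [← hσ, ← hτ, CommRingCat.hom_ext this]

end GrothLib.Weight
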