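import Groth.Agent.Lib.Weight.AffinePieces
import Mathlib.AlgebraicGeometry.Artinian
import Mathlib.RingTheory.ZariskisMainTheorem
import Mathlib.LinearAlgebra.FreeModule.Finite.Matrix

/-! # Bounds on the number of geometric points of quasi-finite morphisms -/

universe u

open CategoryTheory Limits AlgebraicGeometry Topology TensorProduct

namespace GrothLib.Weight

open MoreMor

/-- A quasi-finite algebra of finite type has boundedly many geometric points over each base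
point. -/
theorem exists_bound_algHom (A B : Type u) [CommRing A] [CommRing B] [Algebra A B]
    [Algebra.FiniteType A B] [Algebra.QuasiFinite A B] :
    ∃ d : ℕ, ∀ (Ω : Type u) [Field Ω] [Algebra A Ω],
      Finite (B →ₐ[A] Ω) ∧ Nat.card (B →ₐ[A] Ω) ≤ d := by
  classical
  have key : ∀ q : PrimeSpectrum B, ∃ (S' : Subalgebra A B) (r : S'), S'.toSubmodule.FG ∧
      r.1 ∉ q.asIdeal ∧ ∀ b : B, ∃ s : S', ∃ m : ℕ, s.1 = r.1 ^ m * b := fun q ↦ by
    haveI : Algebra.QuasiFiniteAt A q.asIdeal := inferInstance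
    obtain ⟨S', hS', r, hr, hb⟩ :=
      Algebra.QuasiFiniteAt.exists_fg_and_exists_notMem_and_awayMap_bijective (R := A) q.asIdeal
    exact ⟨S', r, hS', hr, fun b ↦ Localization.awayMap_surjective_iff.mp hb.2 b⟩
  choose S r hS hr hsurj using key
  obtain ⟨t, ht⟩ := CompactSpace.isCompact_univ.elim_finite_subcover
    (fun q : PrimeSpectrum B ↦ (PrimeSpectrum.basicOpen (r q).1 : Set (PrimeSpectrum B)))
    (fun q ↦ (PrimeSpectrum.basicOpen (r q).1).2) (fun q _ ↦ Set.mem_iUnion.mpr ⟨q, hr q⟩)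
  haveI : ∀ q, Module.Finite A (S q) := fun q ↦ ⟨(Submodule.fg_top _).mpr (hS q)⟩
  choose g hg using fun q ↦ Module.Finite.exists_fin (R := A) (M := S q)
  choose gen hgen using hg
  refine ⟨∑ q ∈ t, g q, fun Ω _ _ ↦ ?_⟩
  have hcard : ∀ q, Finite (S q →ₐ[A] Ω) ∧ Nat.card (S q →ₐ[A] Ω) ≤ g q := fun q ↦ by
    let e : (S q →ₐ[A] Ω) ≃ (Ω ⊗[A] S q →ₐ[Ω] Ω) := AlgHom.liftEquiv A Ω (S q) Ω
    refine ⟨Finite.of_equiv _ e.symm, (Nat.card_congr e).trans_le
      ((card_algHom_le_finrank Ω (Ω ⊗[A] S q) Ω).trans ?_)⟩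
    have hspan : Submodule.span Ω (Set.range fun i ↦ (1 : Ω) ⊗ₜ[A] gen q i) = ⊤ := by
      rw [show (fun i ↦ (1 : Ω) ⊗ₜ[A] gen q i) = (TensorProduct.mk A Ω (S q) 1) ∘ gen q from rfl,
        Set.range_comp, ← Submodule.span_span_of_tower A Ω, Submodule.span_image, hgen q,
        Submodule.map_top]
      refine eq_top_iff.mpr fun z _ ↦ ?_
      induction z with
      | zero => simp
      | tmul a b =>
        have : a ⊗ₜ[A] b = a • ((1 : Ω) ⊗ₜ[A] b) := by rw [TensorProduct.smul_tmul', smul_eq_mul, mul_one]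
        rw [this]
        exact Submodule.smul_mem _ _ (Submodule.subset_span ⟨b, rfl⟩)
      | add _ _ h1 h2 => exact Submodule.add_mem _ (h1 trivial) (h2 trivial)
    have := finrank_le_of_span_eq_top (R := Ω) hspan
    simpa using this
  haveI : ∀ q, Finite (S q →ₐ[A] Ω) := fun q ↦ (hcard q).1
  have hmem : ∀ σ : B →ₐ[A] Ω, ∃ q ∈ t, σ (r q).1 ≠ 0 := fun σ ↦ by
    obtain ⟨q, hq, hσ⟩ := Set.mem_iUnion₂.mp
      (ht (Set.mem_univ (⟨RingHom.ker σ.toRingHom, RingHom.ker_isPrime _⟩ : PrimeSpectrum B)))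
    exact ⟨q, hq, hσ⟩
  choose k hk hk' using hmem
  let Φ : (B →ₐ[A] Ω) → Σ q : t, (S q.1 →ₐ[A] Ω) := fun σ ↦ ⟨⟨k σ, hk σ⟩, σ.comp (S (k σ)).val⟩
  have hΦ : Function.Injective Φ := by
    intro σ τ h
    have hgen : ∀ (q q' : t) (a : S q.1 →ₐ[A] Ω) (b : S q'.1 →ₐ[A] Ω),
        (⟨q, a⟩ : Σ q : t, (S q.1 →ₐ[A] Ω)) = ⟨q', b⟩ → ∀ (x : B) (hx : x ∈ S q.1) (hx' : x ∈ S q'.1),
          a ⟨x, hx⟩ = b ⟨x, hx'⟩ := by
      rintro q q' a b h x hx hx'
      cases h
      rfl
    ext x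
    obtain ⟨s, m, hs⟩ := hsurj (k σ) x
    have hkk : k σ = k τ := congrArg (fun z : Σ q : t, (S q.1 →ₐ[A] Ω) ↦ z.1.1) h
    have h1 : σ (r (k σ)).1 = τ (r (k σ)).1 :=
      hgen _ _ _ _ h (r (k σ)).1 (r (k σ)).2 (show (r (k σ)).1 ∈ S (k τ) by rw [← hkk]; exact (r (k σ)).2)
    have h2 : σ s.1 = τ s.1 := hgen _ _ _ _ h s.1 s.2 (show s.1 ∈ S (k τ) by rw [← hkk]; exact s.2)
    rw [hs, map_mul, map_mul, map_pow, map_pow, ← h1] at h2
    exact mul_left_cancel₀ (pow_ne_zero m (hk' σ)) h2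
  haveI := Finite.of_injective Φ hΦ
  refine ⟨inferInstance, (Nat.card_le_card_of_injective Φ hΦ).trans ?_⟩
  rw [Nat.card_sigma, ← Finset.sum_coe_sort t g]
  exact Finset.sum_le_sum fun q _ ↦ (hcard q.1).2

variable {X Y : Scheme.{u}} (f : X ⟶ Y) [LocallyQuasiFinite f] [LocallyOfFiniteType f]

/-- A locally quasi-finite morphism with quasi-compact source has boundedly many geometric
points in its fibres. -/
theorem exists_bound_geomPts [CompactSpace X] :
    ∃ d : ℕ, ∀ (Ω : Type u) [Field Ω] (p : Spec (CommRingCat.of Ω) ⟶ Y),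
      Finite (GeomPts f p) ∧ Nat.card (GeomPts f p) ≤ d := by
  classical
  have key : ∀ x : X, ∃ (U : Y.Opens) (W : X.Opens), IsAffineOpen U ∧ IsAffineOpen W ∧ x ∈ W ∧
      W ≤ f ⁻¹ᵁ U := fun x ↦ by
    obtain ⟨_, ⟨U, hU, rfl⟩, hxU, -⟩ :=
      Y.isBasis_affineOpens.exists_subset_of_mem_open (Set.mem_univ (f x)) isOpen_univ
    obtain ⟨_, ⟨W, hW, rfl⟩, hxW, hWU⟩ :=
      X.isBasis_affineOpens.exists_subset_of_mem_open hxU (f ⁻¹ᵁ U).2
    exact ⟨U, W, hU, hW, hxW, hWU⟩
  choose U W hU hW hxW hWU using key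
  obtain ⟨t, ht⟩ := CompactSpace.isCompact_univ.elim_finite_subcover (fun x ↦ (W x : Set X))
    (fun x ↦ (W x).2) (fun x _ ↦ Set.mem_iUnion.mpr ⟨x, hxW x⟩)
  have hb : ∀ x : X, ∃ d : ℕ, ∀ (Ω : Type u) [Field Ω] (p : Spec (CommRingCat.of Ω) ⟶ Y)
      (s : Finset (GeomPts f p)), (∀ q ∈ s, pt q.1 ∈ W x) → s.card ≤ d := fun x ↦ by
    letI := (f.appLE (U x) (W x) (hWU x)).hom.toAlgebra
    haveI : Algebra.FiniteType Γ(Y, U x) Γ(X, W x) :=
      f.finiteType_appLE (hU x) (hW x) (hWU x)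
    haveI : Algebra.QuasiFinite Γ(Y, U x) Γ(X, W x) :=
      LocallyQuasiFinite.quasiFinite_appLE (f := f) (hU x) (hW x) (hWU x)
    obtain ⟨d, hd⟩ := exists_bound_algHom Γ(Y, U x) Γ(X, W x)
    refine ⟨d, fun Ω _ p s hs ↦ ?_⟩
    rcases s.eq_empty_or_nonempty with rfl | ⟨q₀, hq₀⟩
    · simp
    have hp : Set.range p ⊆ Set.range (hU x).fromSpec := by
      rw [(hU x).range_fromSpec]
      refine range_subset_of_pt_mem p ?_
      rw [← pt_geomPts q₀]; exact hWU x (hs q₀ hq₀)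
    obtain ⟨ρ, hρ⟩ := Spec.map_surjective (IsOpenImmersion.lift (hU x).fromSpec p hp)
    letI : Algebra Γ(Y, U x) Ω := ρ.hom.toAlgebra
    have hqW : ∀ q : s, Set.range q.1.1 ⊆ Set.range (hW x).fromSpec := fun q ↦ by
      rw [(hW x).range_fromSpec]
      exact range_subset_of_pt_mem _ (hs q.1 q.2)
    choose σ hσ using fun q : s ↦
      Spec.map_surjective (IsOpenImmersion.lift (hW x).fromSpec q.1.1 (hqW q))
    have hσq : ∀ q, Spec.map (σ q) ≫ (hW x).fromSpec = q.1.1 := fun q ↦ by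
      rw [hσ, IsOpenImmersion.lift_fac]
    have hcomm : ∀ q, f.appLE (U x) (W x) (hWU x) ≫ σ q = ρ := fun q ↦ by
      apply Spec.map_injective
      rw [← cancel_mono (hU x).fromSpec, Spec.map_comp, Category.assoc,
        (hU x).SpecMap_appLE_fromSpec f (hW x) (hWU x), ← Category.assoc, hσq, q.1.2, hρ,
        IsOpenImmersion.lift_fac]
    let Ψ : s → (Γ(X, W x) →ₐ[Γ(Y, U x)] Ω) := fun q ↦
      ⟨(σ q).hom, fun a ↦ congrArg (fun m ↦ m.hom a) (hcomm q)⟩
    have hΨ : Function.Injective Ψ := fun q q' h ↦ by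
      have : σ q = σ q' := CommRingCat.hom_ext (congrArg AlgHom.toRingHom h)
      exact Subtype.ext (Subtype.ext ((hσq q).symm.trans (this ▸ hσq q')))
    haveI := (hd Ω).1
    rw [← Nat.card_eq_finsetCard s]
    exact (Nat.card_le_card_of_injective Ψ hΨ).trans (hd Ω).2
  choose d hd using hb
  refine ⟨∑ x ∈ t, d x, fun Ω _ p ↦ ?_⟩
  have hbd : ∀ s : Finset (GeomPts f p), s.card ≤ ∑ x ∈ t, d x := fun s ↦ by
    have : s ⊆ t.biUnion fun x ↦ s.filter fun q ↦ pt q.1 ∈ W x := fun q hq ↦ by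
      obtain ⟨x, hx, hqx⟩ := Set.mem_iUnion₂.mp (ht (Set.mem_univ (pt q.1)))
      exact Finset.mem_biUnion.mpr ⟨x, hx, Finset.mem_filter.mpr ⟨hq, hqx⟩⟩
    exact ((Finset.card_le_card this).trans Finset.card_biUnion_le).trans
      (Finset.sum_le_sum fun x _ ↦ hd x Ω p _ fun q hq ↦ (Finset.mem_filter.mp hq).2)
  haveI : Finite (GeomPts f p) := by
    by_contra hinf
    rw [not_finite_iff_infinite] at hinf
    obtain ⟨s, hs⟩ := Infinite.exists_subset_card_eq (GeomPts f p) (∑ x ∈ t, d x + 1)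
    have := hbd s
    omega
  haveI := Fintype.ofFinite (GeomPts f p)
  refine ⟨inferInstance, ?_⟩
  rw [Nat.card_eq_fintype_card]
  exact hbd Finset.univ

/-- The fibre integral of a weighting on a quasi-compact source attains its maximum. -/
theorem exists_max_fibreIntegral [CompactSpace X] {w : X → ℤ} (hw : IsWeighting f w) [Nonempty Y] :
    ∃ y₀ : Y, ∀ y : Y, fibreIntegral f w y ≤ fibreIntegral f w y₀ := by
  obtain ⟨d, hd⟩ := exists_bound_geomPts f
  obtain ⟨M, hM⟩ : ∃ M : ℤ, ∀ x, |w x| ≤ M := by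
    obtain ⟨M, hM⟩ := ((finite_range hw).image abs).bddAbove
    exact ⟨M, fun x ↦ hM ⟨w x, ⟨x, rfl⟩, rfl⟩⟩
  have hbd : ∀ y, fibreIntegral f w y ≤ d * |M| := fun y ↦ by
    obtain ⟨Ω, _, _, p, rfl⟩ := exists_pt y
    haveI := (hd Ω p).1
    haveI := Fintype.ofFinite (GeomPts f p)
    rw [fibreIntegral_eq f p, finsum_eq_sum_of_fintype]
    refine (Finset.sum_le_card_nsmul _ _ |M| fun q _ ↦
      (le_abs_self _).trans ((hM _).trans (le_abs_self M))).trans ?_
    rw [nsmul_eq_mul, Finset.card_univ, ← Nat.card_eq_fintype_card]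
    exact mul_le_mul_of_nonneg_right (by exact_mod_cast (hd Ω p).2) (abs_nonneg M)
  obtain ⟨c, ⟨y₀, rfl⟩, hmax⟩ := Int.exists_greatest_of_bdd
    (P := fun c ↦ ∃ y, fibreIntegral f w y = c) ⟨_, fun c ⟨y, hy⟩ ↦ hy ▸ hbd y⟩
    ⟨_, Classical.arbitrary Y, rfl⟩
  exact ⟨y₀, fun y ↦ hmax _ ⟨y, rfl⟩⟩

instance (y : Y) : LocallyQuasiFinite (f.fiberToSpecResidueField y) :=
  MorphismProperty.pullback_snd _ _ ‹_›

theorem discreteTopology_geomFiber (y : Y) : DiscreteTopology (geomFiber f y) := by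
  haveI h0 : LocallyQuasiFinite (f.fiberToSpecResidueField y) := MorphismProperty.pullback_snd _ _ ‹_›
  haveI h1 : LocallyQuasiFinite (pullback.snd (f.fiberToSpecResidueField y)
      (Spec.map (CommRingCat.ofHom
        (algebraMap (Y.residueField y) (SeparableClosure (Y.residueField y)))))) :=
    MorphismProperty.pullback_snd (P := @LocallyQuasiFinite) _ _ h0
  haveI : IsLocallyArtinian (geomFiber f y) :=
    @IsLocallyArtinian.of_locallyQuasiFinite _ _ _ h1 _
  infer_instance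

theorem nGeomIrredComp_eq (y : Y) :
    nGeomIrredComp f y = nGeomConnComp f y ∧ nGeomConnComp f y = ENat.card (geomFiber f y) := by
  haveI := discreteTopology_geomFiber f y
  have h1 : nGeomConnComp f y = ENat.card (geomFiber f y) := by
    refine (ENat.card_congr (Equiv.ofBijective ConnectedComponents.mk ⟨fun a b h ↦ ?_,
      ConnectedComponents.surjective_coe⟩)).symm
    have := ConnectedComponents.coe_eq_coe.mp h
    rw [connectedComponent_eq_singleton, connectedComponent_eq_singleton] at this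
    exact Set.singleton_injective this
  refine ⟨?_, h1⟩
  rw [h1, nGeomIrredComp]
  have : irreducibleComponents (geomFiber f y) = Set.range fun x ↦ ({x} : Set _) := by
    ext s
    constructor
    · rintro ⟨hs, -⟩
      obtain ⟨x, hx⟩ := hs.1
      exact ⟨x, (Set.eq_singleton_iff_unique_mem.mpr ⟨hx, fun z hz ↦
        (DiscreteTopology.isDiscrete.subsingleton_of_isPreirreducible hs.2 hz hx)⟩).symm⟩
    · rintro ⟨x, rfl⟩
      refine ⟨isIrreducible_singleton, fun s hs hle z hz ↦ ?_⟩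
      exact DiscreteTopology.isDiscrete.subsingleton_of_isPreirreducible hs.2 hz
        (hle (Set.mem_singleton x))
  rw [this, ← Set.image_univ, Set.InjOn.encard_image Set.singleton_injective.injOn,
    Set.encard_univ]

theorem exists_bound_geomFiber [CompactSpace X] :
    ∃ d : ℕ, ∀ y : Y, ENat.card (geomFiber f y) ≤ d := by
  obtain ⟨d, hd⟩ := exists_bound_geomPts f
  refine ⟨d, fun y ↦ ?_⟩
  let k := Y.residueField y
  let ks := SeparableClosure k
  let Ω := AlgebraicClosure ks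
  let s : Spec (CommRingCat.of ks) ⟶ Spec k := Spec.map (CommRingCat.ofHom (algebraMap k ks))
  let pr : geomFiber f y ⟶ Spec (CommRingCat.of ks) := pullback.snd _ _
  have hsq : IsPullback (pullback.fst (f.fiberToSpecResidueField y) s ≫ f.fiberι y) pr f
      (s ≫ Y.fromSpecResidueField y) :=
    (IsPullback.of_hasPullback (f.fiberToSpecResidueField y) s).paste_horiz
      (IsPullback.of_hasPullback f (Y.fromSpecResidueField y))
  let pb : Spec (CommRingCat.of Ω) ⟶ Spec (CommRingCat.of ks) :=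
    Spec.map (CommRingCat.ofHom (algebraMap ks Ω))
  let e : GeomPts pr pb ≃ GeomPts f (pb ≫ s ≫ Y.fromSpecResidueField y) := geomPtsEquiv hsq pb _ rfl
  haveI := (hd Ω (pb ≫ s ≫ Y.fromSpecResidueField y)).1
  haveI : LocallyQuasiFinite pr := MorphismProperty.pullback_snd _ _ inferInstance
  haveI : LocallyOfFiniteType (f.fiberToSpecResidueField y) :=
    MorphismProperty.pullback_snd _ _ ‹_›
  haveI : LocallyOfFiniteType pr := MorphismProperty.pullback_snd _ _ inferInstance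
  haveI : Finite (GeomPts pr pb) := Finite.of_equiv _ e.symm
  have hsurj : Function.Surjective (fun q : GeomPts pr pb ↦ pt q.1) := fun z ↦ by
    haveI : Subsingleton ↥(Spec (CommRingCat.of ks)) := (inferInstance : Subsingleton (PrimeSpectrum ks))
    obtain ⟨⟨q, hq⟩⟩ : Nonempty {q : GeomPts pr pb // pt q.1 = z} := by
      refine (Nat.card_ne_zero.mp ?_).1
      rw [(card_geomPts_over pr pb z (Subsingleton.elim _ _)).2]
      letI := (pr.residueFieldMap z).hom.toAlgebra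
      haveI : Module.Finite ((Spec (CommRingCat.of ks)).residueField (pr z))
          ((geomFiber f y).residueField z) := finite_residueFieldMap _ z
      exact NeZero.ne _
    exact ⟨q, hq⟩
  haveI := Finite.of_surjective _ hsurj
  rw [ENat.card_eq_coe_natCard, Nat.cast_le]
  exact ((Nat.card_le_card_of_surjective _ hsurj).trans_eq (Nat.card_congr e)).trans
    (hd Ω (pb ≫ s ≫ Y.fromSpecResidueField y)).2

end GrothLib.Weight
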