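import Groth.Agent.Lib.Weight.Weighting
import Mathlib.Topology.Semicontinuity.Basic

/-! # Consequences of positivity of a weighting -/

universe u

open CategoryTheory Limits AlgebraicGeometry Topology

namespace GrothLib.Weight

open MoreMor

variable {X Y : Scheme.{u}} {f : X ⟶ Y}

theorem finSepDegree_pos {U V : Scheme.{u}} (π : U ⟶ V) [LocallyQuasiFinite π]
    [LocallyOfFiniteType π] (u : U) :
    (1 : ℤ) ≤ (letI := (π.residueFieldMap u).hom.toAlgebra
      (Field.finSepDegree (V.residueField (π u)) (U.residueField u) : ℤ)) := by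
  letI := (π.residueFieldMap u).hom.toAlgebra
  haveI : Module.Finite (V.residueField (π u)) (U.residueField u) := finite_residueFieldMap π u
  exact_mod_cast Nat.one_le_iff_ne_zero.mpr (NeZero.ne _)

/-- A positive function has integral at least each of its values. -/
theorem le_fibreIntegral {U V : Scheme.{u}} (π : U ⟶ V) [LocallyQuasiFinite π]
    [LocallyOfFiniteType π] {w : U → ℤ} (hw : ∀ x, 0 < w x) (u : U)
    (hfin : (π ⁻¹' {π u}).Finite) : w u ≤ fibreIntegral π w (π u) := by
  haveI : Finite {x : U // π x = π u} := hfin.to_subtype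
  refine le_trans ?_ (single_le_finsum (⟨u, rfl⟩ : {x : U // π x = π u}) (Set.toFinite _)
    fun x ↦ mul_nonneg (hw _).le (Int.natCast_nonneg _))
  exact le_mul_of_one_le_right (hw u).le (finSepDegree_pos π u)

/-- Near a point `x`, some etale piece through `x` has integral `w x` and all values at most that. -/
theorem exists_piece_at [LocallyQuasiFinite f] [LocallyOfFiniteType f] {w : X → ℤ}
    (hw : IsWeighting f w) (x : X) (A : Set X) (hA : IsOpen A) (hxA : x ∈ A) :
    ∃ (V T : Scheme.{u}) (g : V ⟶ Y) (π : T ⟶ V) (a : T ⟶ X) (_ : Etale g) (t : T),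
      Piece f g π a ∧ a t = x ∧ (∀ s, a s ∈ A) ∧ ∀ v, fibreIntegral π (w ∘ ⇑a) v = w x := by
  obtain ⟨Ω, _, _, r, rfl⟩ := exists_pt x
  obtain ⟨U, g, _, p, hp, T, π, a, q, hP, hs, hq⟩ := exists_chart (r ≫ f) (⟨r, rfl⟩ : GeomPts f _)
  haveI := hP.finite
  have hq' : a (pt q.1) = pt r := by rw [← pt_comp, hq]
  obtain ⟨O₁, hO₁, hO₁'⟩ := exists_preimage_subset π π.isClosedMap (pt p) (⇑a ⁻¹' A)
    (hA.preimage a.continuous) (mem_of_subsingleton_fibre π q hs _ (by show a (pt q.1) ∈ A; rwa [hq']))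
  obtain ⟨O₂, hO₂sub, hO₂open, hO₂⟩ := mem_nhds_iff.mp
    (Filter.inter_mem (eventually_single hw hP q hs) (O₁.isOpen.mem_nhds hO₁))
  let O : U.Opens := ⟨O₂, hO₂open⟩
  have hqO : π (pt q.1) ∈ O := by rw [pt_geomPts q]; exact hO₂
  let t : ↑(pullback π O.ι) := pt (pullback.lift q.1
    (IsOpenImmersion.lift O.ι p (range_subset_of_pt_mem p (by rw [Scheme.Opens.range_ι]; exact hO₂)))
    (q.2.trans (IsOpenImmersion.lift_fac _ _ _).symm))
  refine ⟨O, pullback π O.ι, O.ι ≫ g, pullback.snd π O.ι, pullback.fst π O.ι ≫ a, inferInstance,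
    t, hP.restrict O, ?_, fun s ↦ ?_, fun v ↦ ?_⟩
  · show pt (_ ≫ pullback.fst π O.ι ≫ a) = pt r
    rw [pullback.lift_fst_assoc, hq]
  · refine hO₁' (pullback.fst π O.ι s) ?_
    rw [← Scheme.Hom.comp_apply, pullback.condition]
    exact (hO₂sub (pullback.snd π O.ι s).2).2
  · exact (fibreIntegral_isPullback (IsPullback.of_hasPullback π O.ι) (w ∘ ⇑a) v).trans
      ((hO₂sub v.2).1.trans (congrArg w hq'))

/-- A morphism with a positive weighting is open. -/
theorem isOpenMap_of_positive [LocallyQuasiFinite f] [LocallyOfFiniteType f] {w : X → ℤ}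
    (hw : IsWeighting f w) (hpos : ∀ x, 0 < w x) : IsOpenMap ⇑f := by
  intro A hA
  rw [isOpen_iff_mem_nhds]
  rintro _ ⟨x, hx, rfl⟩
  obtain ⟨V, T, g, π, a, _, t, hP, rfl, haA, hI⟩ := exists_piece_at hw x A hA hx
  have hgv : g (π t) = f (a t) := by
    rw [← Scheme.Hom.comp_apply, ← hP.w]; rfl
  have hsur : Set.range g ⊆ ⇑f '' A := by
    rintro _ ⟨v, rfl⟩
    obtain ⟨s, rfl⟩ : ∃ s, π s = v := by
      by_contra! hne
      exact (hpos (a t)).ne' ((hI v).symm.trans (fibreIntegral_of_isEmpty π _ v hne))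
    refine ⟨a s, haA s, ?_⟩
    rw [← Scheme.Hom.comp_apply, hP.w]; rfl
  exact Filter.mem_of_superset (g.isOpenMap.isOpen_range.mem_nhds ⟨π t, hgv⟩) hsur

/-- A positive weighting is upper semicontinuous. -/
theorem upperSemicontinuous_of_positive [LocallyQuasiFinite f] [LocallyOfFiniteType f]
    {w : X → ℤ} (hw : IsWeighting f w) (hpos : ∀ x, 0 < w x) : UpperSemicontinuous w := by
  intro x c hc
  obtain ⟨V, T, g, π, a, _, t, hP, rfl, -, hI⟩ := exists_piece_at hw x Set.univ isOpen_univ trivial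
  haveI := hP.finite
  haveI := hP.openImmersion
  have hopen : IsOpen (Set.range a) := by
    rw [show a = (pullback.lift a π hP.w : T ⟶ pullback f g) ≫ pullback.fst f g from
      (pullback.lift_fst _ _ _).symm]
    exact (Scheme.Hom.isOpenMap _).isOpen_range
  filter_upwards [hopen.mem_nhds ⟨t, rfl⟩] with y hy
  obtain ⟨s, rfl⟩ := hy
  refine lt_of_le_of_lt ?_ hc
  rw [← hI (π s)]
  exact le_fibreIntegral π (w := w ∘ ⇑a) (fun z ↦ hpos _) s (π.finite_preimage_singleton _)

end GrothLib.Weight
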