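import Groth.Agent.Lib.Weight.FiniteIsolated
import Groth.Agent.Lib.Weight.Multiplicity
import Groth.Agent.Lib.Weight.Positive

/-! # The rank of the fibres of a flat quasi-finite morphism -/

universe u

open CategoryTheory Limits AlgebraicGeometry Topology

namespace GrothLib.Weight

section Field

variable {P : Scheme.{u}} {K : Type u} [Field K]

/-- The rank over `K` of the global functions of a scheme over `Spec K`. -/
noncomputable def gRank (π : P ⟶ Spec (CommRingCat.of K)) : Cardinal.{u} :=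
  letI := ((Scheme.ΓSpecIso (CommRingCat.of K)).inv ≫ π.appTop).hom.toAlgebra
  Module.rank K (Γ(P, ⊤) : Type u)

theorem gRank_of_isFinite (π : P ⟶ Spec (CommRingCat.of K)) [IsFinite π] [Flat π]
    (p : Spec (CommRingCat.of K)) : gRank π = π.finrank p := by
  haveI : IsAffine P := isAffine_of_isAffineHom π
  let ψ : CommRingCat.of K ⟶ Γ(P, ⊤) := (Scheme.ΓSpecIso (CommRingCat.of K)).inv ≫ π.appTop
  have hπ : P.isoSpec.hom ≫ Spec.map ψ = π := by
    rw [Spec.map_comp, ← Category.assoc, Scheme.isoSpec_hom_naturality, Category.assoc,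
      Scheme.isoSpec_Spec_hom, ← Spec.map_comp, Iso.inv_hom_id, Spec.map_id, Category.comp_id]
  have hfin : ψ.hom.Finite := by
    rw [← IsFinite.SpecMap_iff]
    have : Spec.map ψ = P.isoSpec.inv ≫ π := by rw [Iso.eq_inv_comp]; exact hπ
    rw [this]; infer_instance
  letI := ψ.hom.toAlgebra
  haveI : Module.Finite K Γ(P, ⊤) := hfin
  haveI : IsFinite (Spec.map (CommRingCat.ofHom (algebraMap K Γ(P, ⊤)))) :=
    (IsFinite.SpecMap_iff _).mpr hfin
  haveI : Flat (Spec.map (CommRingCat.ofHom (algebraMap K Γ(P, ⊤)))) :=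
    (Flat.SpecMap_iff).mpr (RingHom.flat_algebraMap_iff.mpr inferInstance)
  have h : π.finrank p = Module.rankAtStalk (R := K) Γ(P, ⊤) p := by
    conv_lhs => rw [← hπ]
    rw [← Scheme.Hom.finrank_SpecMap_algebraMap K Γ(P, ⊤) p]
    exact congrFun (Scheme.Hom.finrank_comp_left_of_isIso P.isoSpec.hom _) p
  rw [h, Module.rankAtStalk_eq_finrank_of_free]
  exact (Module.finrank_eq_rank K Γ(P, ⊤)).symm

/-- Restriction to a clopen is surjective on global functions. -/
theorem surjective_restrict_of_isClopen {P : Scheme.{u}} (V : P.Opens) (hV : IsClopen (V : Set P)) :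
    Function.Surjective V.ι.appTop := by
  let W : P.Opens := ⟨(V : Set P)ᶜ, hV.compl.isOpen⟩
  let T := V.ι ''ᵁ ⊤
  rw [Scheme.Opens.ι_appTop]
  intro s
  have hT : (T : Set P) = V := by simp [T]
  let U : Bool → P.Opens := fun b ↦ cond b T W
  let sf : ∀ b, Γ(P, U b) := Bool.rec (motive := fun b ↦ Γ(P, U b)) 0 s
  have hd : ∀ b c : Bool, b ≠ c → U b ⊓ U c = ⊥ := by
    intro b c hbc
    apply TopologicalSpace.Opens.ext
    cases b <;> cases c <;> simp_all [U, W]
  obtain ⟨t, ht, -⟩ := TopCat.Sheaf.existsUnique_gluing' P.sheaf U ⊤ (fun b ↦ homOfLE le_top)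
    (fun z _ ↦ by
      rw [TopologicalSpace.Opens.mem_iSup]
      by_cases hz : z ∈ V
      · exact ⟨true, by show z ∈ (T : Set P); rw [hT]; exact hz⟩
      · exact ⟨false, hz⟩) sf (fun b c ↦ by
      by_cases hbc : b = c
      · subst hbc; rfl
      · haveI : Subsingleton Γ(P, U b ⊓ U c) := by rw [hd b c hbc]; infer_instance
        exact Subsingleton.elim (α := Γ(P, U b ⊓ U c)) _ _)
  exact ⟨t, ht true⟩

theorem le_finrank_of_fibre {U V : Scheme.{u}} (π : U ⟶ V) [IsFinite π] [Flat π] (v : V) (t : Finset U)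
    (ht : ∀ x ∈ t, π x = v) : (t.card : ℤ) ≤ π.finrank v := by
  classical
  rw [← fibreIntegral_mult π v]
  haveI : Finite {x : U // π x = v} := (π.finite_preimage_singleton v).to_subtype
  letI := Fintype.ofFinite {x : U // π x = v}
  unfold MoreMor.fibreIntegral
  rw [finsum_eq_sum_of_fintype]
  refine le_trans ?_ (Finset.sum_le_sum (f := fun _ ↦ (1 : ℤ)) fun x _ ↦ ?_)
  · simp only [Finset.sum_const, Finset.card_univ, nsmul_eq_mul, mul_one]
    norm_cast
    rw [← Fintype.card_coe]
    exact Fintype.card_le_of_injective (fun x : t ↦ (⟨x.1, ht _ x.2⟩ : {x : U // π x = v}))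
      fun a b h ↦ Subtype.ext (congrArg (fun z : {x : U // π x = v} ↦ z.1) h)
  · exact (Int.add_one_le_iff.mpr (mult_pos π x.1)).trans' (by simp) |>.trans
      (le_mul_of_one_le_right (mult_pos π x.1).le (finSepDegree_pos π x.1))

/-- A large rank is seen on a finite clopen part. -/
theorem exists_finite_part_of_le_gRank (π : P ⟶ Spec (CommRingCat.of K)) [LocallyQuasiFinite π]
    [LocallyOfFiniteType π] (d : ℕ) (h : (d : Cardinal.{u}) ≤ gRank π)
    (p : Spec (CommRingCat.of K)) :
    ∃ (V : P.Opens) (_ : IsFinite (V.ι ≫ π)), IsClopen (V : Set P) ∧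
      Flat (V.ι ≫ π) ∧ d ≤ (V.ι ≫ π).finrank p := by
  haveI : IsLocallyArtinian P := IsLocallyArtinian.of_locallyQuasiFinite π
  haveI : DiscreteTopology P :=
    (IsLocallyArtinian.iff_isLocallyNoetherian_and_discreteTopology.mp ‹_›).2
  haveI : Subsingleton ↥(Spec (CommRingCat.of K)) := inferInstanceAs (Subsingleton (PrimeSpectrum K))
  haveI hflat : ∀ V : P.Opens, Flat (V.ι ≫ π) := fun V ↦ inferInstance
  have hfin : ∀ V : P.Opens, IsCompact (V : Set P) → IsFinite (V.ι ≫ π) := fun V hV ↦ by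
    haveI : CompactSpace (V : Scheme.{u}) := isCompact_iff_compactSpace.mp hV
    haveI : QuasiCompact (V.ι ≫ π) := inferInstance
    exact IsFinite.of_locallyQuasiFinite _
  by_cases hP : Finite P
  · haveI := hfin ⊤ (Set.toFinite _).isCompact
    refine ⟨⊤, inferInstance, isClopen_univ, hflat ⊤, ?_⟩
    haveI : IsIso (⊤ : P.Opens).ι := (Scheme.topIso P).isIso_hom
    haveI : IsFinite π := (MorphismProperty.cancel_left_of_respectsIso @IsFinite (⊤ : P.Opens).ι π).mp ‹_›
    haveI : Flat π := (MorphismProperty.cancel_left_of_respectsIso @Flat (⊤ : P.Opens).ι π).mp (hflat ⊤)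
    rw [congrFun (Scheme.Hom.finrank_comp_left_of_isIso (⊤ : P.Opens).ι π) p]
    rw [gRank_of_isFinite π p] at h
    exact_mod_cast h
  · haveI : Infinite P := not_finite_iff_infinite.mp hP
    obtain ⟨t, ht⟩ := Infinite.exists_subset_card_eq P d
    let V : P.Opens := ⟨t, isOpen_discrete _⟩
    haveI := hfin V t.finite_toSet.isCompact
    refine ⟨V, inferInstance, isClopen_discrete _, hflat V, ?_⟩
    haveI := hflat V
    haveI : Unique ↥(Spec (CommRingCat.of K)) := inferInstanceAs (Unique (PrimeSpectrum K))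
    have := le_finrank_of_fibre (V.ι ≫ π) p (t.attach.map
      ⟨fun x ↦ (⟨x.1, x.2⟩ : V), fun a b h ↦ Subtype.ext (congrArg Subtype.val h)⟩)
      fun x _ ↦ Subsingleton.elim _ _
    rw [Finset.card_map, Finset.card_attach, ht] at this
    exact_mod_cast this

end Field

theorem surjective_appTop_of_isClopen {Q P : Scheme.{u}} (j : Q ⟶ P) [IsOpenImmersion j]
    (hj : IsClopen (Set.range j)) : Function.Surjective j.appTop := by
  have h : Function.Surjective j.opensRange.ι.appTop := surjective_restrict_of_isClopen _ hj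
  rw [show j = j.isoOpensRange.hom ≫ j.opensRange.ι from j.isoOpensRange_hom_ι.symm,
    Scheme.Hom.comp_appTop]
  haveI : IsIso j.isoOpensRange.hom.appTop :=
    inferInstanceAs (IsIso (Scheme.Γ.map j.isoOpensRange.hom.op))
  exact (ConcreteCategory.bijective_of_isIso j.isoOpensRange.hom.appTop).2.comp h

/-- A clopen immersion does not increase the rank. -/
theorem gRank_le_of_isClopen {Q P : Scheme.{u}} {K : Type u} [Field K]
    (π : P ⟶ Spec (CommRingCat.of K)) (j : Q ⟶ P) [IsOpenImmersion j]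
    (hj : IsClopen (Set.range j)) : gRank (j ≫ π) ≤ gRank π := by
  letI := ((Scheme.ΓSpecIso (CommRingCat.of K)).inv ≫ π.appTop).hom.toAlgebra
  letI := ((Scheme.ΓSpecIso (CommRingCat.of K)).inv ≫ (j ≫ π).appTop).hom.toAlgebra
  let ρ : Γ(P, ⊤) →ₐ[K] Γ(Q, ⊤) := ⟨j.appTop.hom, fun c ↦ by
    show j.appTop _ = _
    simp [RingHom.algebraMap_toAlgebra, Scheme.Hom.comp_appTop]⟩
  exact LinearMap.rank_le_of_surjective ρ.toLinearMap (surjective_appTop_of_isClopen j hj)

theorem finite_of_gRank_lt_aleph0 {P : Scheme.{u}} {K : Type u} [Field K]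
    (π : P ⟶ Spec (CommRingCat.of K)) [LocallyQuasiFinite π] [LocallyOfFiniteType π]
    (h : gRank π < Cardinal.aleph0) : Finite P := by
  by_contra hP
  haveI : Infinite P := not_finite_iff_infinite.mp hP
  obtain ⟨n, hn⟩ := Cardinal.lt_aleph0.mp h
  haveI : IsLocallyArtinian P := IsLocallyArtinian.of_locallyQuasiFinite π
  haveI : DiscreteTopology P :=
    (IsLocallyArtinian.iff_isLocallyNoetherian_and_discreteTopology.mp ‹_›).2
  haveI : Subsingleton ↥(Spec (CommRingCat.of K)) :=
    inferInstanceAs (Subsingleton (PrimeSpectrum K))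
  obtain ⟨p⟩ : Nonempty ↥(Spec (CommRingCat.of K)) := inferInstance
  obtain ⟨t, ht⟩ := Infinite.exists_subset_card_eq P (n + 1)
  let V : P.Opens := ⟨t, isOpen_discrete _⟩
  haveI : CompactSpace (V : Scheme.{u}) := isCompact_iff_compactSpace.mp t.finite_toSet.isCompact
  haveI : IsFinite (V.ι ≫ π) := IsFinite.of_locallyQuasiFinite _
  haveI : Flat (V.ι ≫ π) := inferInstance
  have h1 := le_finrank_of_fibre (V.ι ≫ π) p (t.attach.map
    ⟨fun x ↦ (⟨x.1, x.2⟩ : V), fun a b h ↦ Subtype.ext (congrArg Subtype.val h)⟩)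
    fun x _ ↦ Subsingleton.elim _ _
  rw [Finset.card_map, Finset.card_attach, ht] at h1
  have h2 := gRank_le_of_isClopen π V.ι (isClopen_discrete _)
  rw [gRank_of_isFinite (V.ι ≫ π) p, hn] at h2
  have h3 : (V.ι ≫ π).finrank p ≤ n := by exact_mod_cast h2
  omega

variable {X S : Scheme.{u}} {f : X ⟶ S}

theorem isPullback_restrict_opens {P T P' T' : Scheme.{u}} {τ : P' ⟶ P} {π' : P' ⟶ T'} {π : P ⟶ T}
    {k : T' ⟶ T} (hc : IsPullback τ π' π k) (O : P.Opens) :
    IsPullback (τ ∣_ O) ((τ ⁻¹ᵁ O).ι ≫ π') (O.ι ≫ π) k :=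
  (isPullback_morphismRestrict τ O).paste_vert hc

/-- The rank of a fibre over a field does not depend on the field. -/
theorem le_gRank_iff [LocallyQuasiFinite f] [LocallyOfFiniteType f] {P : Scheme.{u}} {K : Type u}
    [Field K] {a : P ⟶ X} {π : P ⟶ Spec (CommRingCat.of K)} {ψ : Spec (CommRingCat.of K) ⟶ S}
    (hc : IsPullback a π f ψ) (s : S) (hs : ψ (IsLocalRing.closedPoint K) = s) (d : ℕ) :
    (d : Cardinal.{u}) ≤ gRank π ↔
      (d : Cardinal.{u}) ≤ gRank (K := S.residueField s) (f.fiberToSpecResidueField s) := by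
  subst hs
  let s := ψ (IsLocalRing.closedPoint K)
  let p : Spec (CommRingCat.of K) := IsLocalRing.closedPoint K
  let φ : Spec (CommRingCat.of K) ⟶ Spec (S.residueField s) :=
    Spec.map (S.descResidueField (Scheme.stalkClosedPointTo ψ))
  have hφ : φ ≫ S.fromSpecResidueField s = ψ :=
    Scheme.descResidueField_stalkClosedPointTo_fromSpecResidueField K S ψ
  haveI : LocallyQuasiFinite (f.fiberToSpecResidueField s) :=
    MorphismProperty.pullback_snd _ _ ‹LocallyQuasiFinite f›
  haveI : LocallyOfFiniteType (f.fiberToSpecResidueField s) :=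
    MorphismProperty.pullback_snd _ _ ‹LocallyOfFiniteType f›
  haveI : LocallyQuasiFinite π := MorphismProperty.of_isPullback hc ‹LocallyQuasiFinite f›
  haveI : LocallyOfFiniteType π := MorphismProperty.of_isPullback hc ‹LocallyOfFiniteType f›
  let τ : P ⟶ pullback f (S.fromSpecResidueField s) := pullback.lift a (π ≫ φ) (by rw [Category.assoc, hφ]; exact hc.w)
  have hT : IsPullback τ π (f.fiberToSpecResidueField s) φ :=
    IsPullback.of_right (h₁₂ := pullback.fst _ _) (v₁₃ := f) (h₂₂ := S.fromSpecResidueField s)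
      (by rw [hφ, show τ ≫ pullback.fst _ _ = a from pullback.lift_fst _ _ _]; exact hc)
      (pullback.lift_snd _ _ _) (IsPullback.of_hasPullback f (S.fromSpecResidueField s))
  have key : ∀ V : (f.fiber s).Opens, IsFinite (V.ι ≫ f.fiberToSpecResidueField s) →
      Flat (V.ι ≫ f.fiberToSpecResidueField s) →
      IsFinite ((τ ⁻¹ᵁ V).ι ≫ π) ∧ Flat ((τ ⁻¹ᵁ V).ι ≫ π) ∧
      ((τ ⁻¹ᵁ V).ι ≫ π).finrank p = (V.ι ≫ f.fiberToSpecResidueField s).finrank (φ p) :=
    fun V h1 h2 ↦ ⟨MorphismProperty.of_isPullback (isPullback_restrict_opens hT V) h1,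
      MorphismProperty.of_isPullback (isPullback_restrict_opens hT V) h2,
      @Scheme.Hom.finrank_of_isPullback _ _ _ _ _ _ _ _ (isPullback_restrict_opens hT V) h2 h1 p⟩
  constructor
  · intro h
    obtain ⟨V', hV'fin, hV'cl, hV'flat, hd⟩ := exists_finite_part_of_le_gRank π d h p
    haveI := hV'fin
    haveI := hV'flat
    haveI : DiscreteTopology (f.fiber s) :=
      (IsLocallyArtinian.iff_isLocallyNoetherian_and_discreteTopology.mp
        (IsLocallyArtinian.of_locallyQuasiFinite (f.fiberToSpecResidueField s))).2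
    haveI : CompactSpace (V' : Scheme.{u}) :=
      QuasiCompact.compactSpace_of_compactSpace (V'.ι ≫ π)
    let V : (f.fiber s).Opens := ⟨τ '' (V' : Set P), isOpen_discrete _⟩
    haveI : CompactSpace (V : Scheme.{u}) := isCompact_iff_compactSpace.mp
      ((isCompact_iff_compactSpace.mpr ‹CompactSpace (V' : Scheme.{u})›).image τ.continuous)
    haveI : Subsingleton ↥(Spec (S.residueField s)) :=
      inferInstanceAs (Subsingleton (PrimeSpectrum (S.residueField s)))
    haveI : IsFinite (V.ι ≫ f.fiberToSpecResidueField s) := IsFinite.of_locallyQuasiFinite _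
    haveI : Flat (V.ι ≫ f.fiberToSpecResidueField s) := inferInstance
    obtain ⟨hf1, hf2, heq⟩ := key V (by assumption) (by assumption)
    haveI := hf1
    haveI := hf2
    have hle : V' ≤ τ ⁻¹ᵁ V := fun z hz ↦ ⟨z, hz, rfl⟩
    calc (d : Cardinal.{u}) ≤ ((V'.ι ≫ π).finrank p : ℕ) := by exact_mod_cast hd
      _ = gRank (V'.ι ≫ π) := (gRank_of_isFinite _ p).symm
      _ = gRank (P.homOfLE hle ≫ (τ ⁻¹ᵁ V).ι ≫ π) := by rw [← Category.assoc, P.homOfLE_ι]
      _ ≤ gRank ((τ ⁻¹ᵁ V).ι ≫ π) := gRank_le_of_isClopen _ _ (by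
        haveI : DiscreteTopology P :=
          (IsLocallyArtinian.iff_isLocallyNoetherian_and_discreteTopology.mp
            (IsLocallyArtinian.of_locallyQuasiFinite π)).2
        haveI : DiscreteTopology (τ ⁻¹ᵁ V : Scheme.{u}) :=
          (τ ⁻¹ᵁ V).ι.isOpenEmbedding.isEmbedding.discreteTopology
        exact isClopen_discrete _)
      _ = ((τ ⁻¹ᵁ V).ι ≫ π).finrank p := gRank_of_isFinite _ p
      _ = (V.ι ≫ f.fiberToSpecResidueField s).finrank (φ p) := by rw [heq]
      _ = gRank (K := S.residueField s) (V.ι ≫ f.fiberToSpecResidueField s) :=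
        (gRank_of_isFinite (K := S.residueField s) _ _).symm
      _ ≤ _ := gRank_le_of_isClopen (K := S.residueField s) _ V.ι (isClopen_discrete _)
  · intro h
    obtain ⟨V, hVfin, hVcl, hVflat, hd⟩ :=
      exists_finite_part_of_le_gRank (K := S.residueField s) _ d h (φ p)
    haveI := hVfin
    haveI := hVflat
    obtain ⟨hf1, hf2, heq⟩ := key V (by assumption) (by assumption)
    haveI := hf1
    haveI := hf2
    calc (d : Cardinal.{u}) ≤ (((τ ⁻¹ᵁ V).ι ≫ π).finrank p : ℕ) := by rw [heq]; exact_mod_cast hd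
      _ = gRank ((τ ⁻¹ᵁ V).ι ≫ π) := (gRank_of_isFinite _ p).symm
      _ ≤ gRank π := gRank_le_of_isClopen π _ (by
        rw [Scheme.Opens.range_ι]; exact hVcl.preimage τ.continuous)

/-- Points with large fibre rank form an open set. -/
theorem isOpen_le_gRank [LocallyQuasiFinite f] [LocallyOfFinitePresentation f] [Flat f]
    [IsSeparated f] (d : ℕ) :
    IsOpen {s : S | (d : Cardinal.{u}) ≤
      gRank (K := S.residueField s) (f.fiberToSpecResidueField s)} := by
  rw [isOpen_iff_mem_nhds]
  intro s h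
  haveI : LocallyQuasiFinite (f.fiberToSpecResidueField s) :=
    MorphismProperty.pullback_snd _ _ ‹LocallyQuasiFinite f›
  haveI : LocallyOfFiniteType (f.fiberToSpecResidueField s) :=
    MorphismProperty.pullback_snd _ _ inferInstance
  obtain ⟨p₀⟩ : Nonempty ↥(Spec (S.residueField s)) := inferInstance
  obtain ⟨V, hVfin, hVcl, hVflat, hd⟩ :=
    exists_finite_part_of_le_gRank (K := S.residueField s) _ d h p₀
  obtain ⟨W₀, hW₀, hW₀V⟩ := (f.fiberι s).isEmbedding.toIsInducing.isOpen_iff.mp V.2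
  let W : X.Opens := ⟨W₀, hW₀⟩
  haveI := hVfin
  haveI : CompactSpace (V : Scheme.{u}) :=
    QuasiCompact.compactSpace_of_compactSpace (V.ι ≫ f.fiberToSpecResidueField s)
  have hWfib : ((W.ι ≫ f) ⁻¹' {s}).Finite := by
    haveI : DiscreteTopology (f.fiber s) :=
      (IsLocallyArtinian.iff_isLocallyNoetherian_and_discreteTopology.mp
        (IsLocallyArtinian.of_locallyQuasiFinite (f.fiberToSpecResidueField s))).2
    have hV : (V : Set (f.fiber s)).Finite := (isCompact_iff_compactSpace.mpr
      ‹CompactSpace (V : Scheme.{u})›).finite ⟨inferInstance⟩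
    refine ((hV.image (f.fiberι s)).preimage W.ι.isOpenEmbedding.injective.injOn).subset ?_
    intro w hw
    obtain ⟨b, hb⟩ : W.ι w ∈ Set.range (f.fiberι s) := by
      rw [Scheme.Hom.range_fiberι]; exact hw
    refine ⟨b, ?_, hb⟩
    show b ∈ V.carrier
    rw [← hW₀V]
    show f.fiberι s b ∈ W₀
    rw [hb]; exact w.2
  obtain ⟨U, g, u, hu, Vh, -, hVhfin, hVh⟩ := exists_finite_isolated_part (W.ι ≫ f) s (by
    haveI : Finite ↥((W.ι ≫ f) ⁻¹' {s}) := hWfib.to_subtype
    haveI : Finite ↑((W.ι ≫ f).fiber s) := Finite.of_equiv _ ((W.ι ≫ f).fiberHomeo s).symm.toEquiv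
    exact Set.toFinite _)
  obtain ⟨hge, hgu, -⟩ := hu
  haveI := hge
  haveI := hVhfin
  let m₀ : pullback (W.ι ≫ f) g ⟶ pullback f g :=
    pullback.map _ _ _ _ W.ι (𝟙 U) (𝟙 S) (by simp) (by simp)
  haveI : IsOpenImmersion m₀ := inferInstance
  let m := Vh.ι ≫ m₀
  let O : (pullback f g).Opens := m.opensRange
  haveI : IsFinite (O.ι ≫ pullback.snd f g) := by
    rw [← MorphismProperty.cancel_left_of_respectsIso @IsFinite m.isoOpensRange.hom,
      Scheme.Hom.isoOpensRange_hom_ι_assoc, show m ≫ pullback.snd f g = Vh.ι ≫ pullback.snd _ _ by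
        show (Vh.ι ≫ m₀) ≫ pullback.snd f g = _
        rw [Category.assoc, show m₀ ≫ pullback.snd f g = pullback.snd _ _ from
          (pullback.lift_snd _ _ _).trans (Category.comp_id _)]]
    infer_instance
  let ρ := O.ι ≫ pullback.snd f g
  haveI : Flat ρ := inferInstance
  haveI : LocallyOfFinitePresentation ρ := inferInstance
  -- the rank of `ρ` at any point of `U` bounds the fibre rank
  have hmain : ∀ u' : U,
      ∃ (P : Scheme.{u}) (π : P ⟶ Spec (U.residueField u')) (a : P ⟶ pullback f g),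
        IsPullback (a ≫ pullback.fst f g) π f (U.fromSpecResidueField u' ≫ g) ∧
        IsPullback a π (pullback.snd f g) (U.fromSpecResidueField u') := fun u' ↦
    ⟨_, pullback.snd (pullback.snd f g) (U.fromSpecResidueField u'), pullback.fst _ _,
      (IsPullback.of_hasPullback _ _).paste_horiz (IsPullback.of_hasPullback f g),
      IsPullback.of_hasPullback _ _⟩
  have hcl : ∀ u' : U, (U.fromSpecResidueField u' ≫ g) (IsLocalRing.closedPoint _) = g u' :=
    fun u' ↦ by simp
  have hstep : ∀ u' : U, d ≤ ρ.finrank u' → (d : Cardinal.{u}) ≤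
      gRank (K := S.residueField (g u')) (f.fiberToSpecResidueField (g u')) := by
    intro u' hd'
    obtain ⟨P, π, a, hc, hc'⟩ := hmain u'
    refine (le_gRank_iff (K := U.residueField u') hc (g u') (hcl u') d).mp ?_
    haveI : IsFinite ((a ⁻¹ᵁ O).ι ≫ π) :=
      MorphismProperty.of_isPullback (isPullback_restrict_opens hc' O) (by assumption)
    haveI : Flat ((a ⁻¹ᵁ O).ι ≫ π) :=
      MorphismProperty.of_isPullback (isPullback_restrict_opens hc' O) (inferInstanceAs (Flat ρ))
    haveI : LocallyQuasiFinite π :=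
      MorphismProperty.of_isPullback hc ‹LocallyQuasiFinite f›
    haveI : DiscreteTopology P :=
      (IsLocallyArtinian.iff_isLocallyNoetherian_and_discreteTopology.mp
        (IsLocallyArtinian.of_locallyQuasiFinite π)).2
    let p : Spec (U.residueField u') := IsLocalRing.closedPoint _
    have h1 := Scheme.Hom.finrank_of_isPullback _ _ _ _ (isPullback_restrict_opens hc' O) p
    rw [Scheme.fromSpecResidueField_apply] at h1
    calc (d : Cardinal.{u}) ≤ (ρ.finrank u' : ℕ) := by exact_mod_cast hd'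
      _ = gRank (K := U.residueField u') ((a ⁻¹ᵁ O).ι ≫ π) := by
        rw [gRank_of_isFinite (K := U.residueField u') _ p, h1]
      _ ≤ _ := gRank_le_of_isClopen (K := U.residueField u') π _ (isClopen_discrete _)
  -- at `u` the bound holds
  have hat : d ≤ ρ.finrank u := by
    obtain ⟨P, π, a, hc, hc'⟩ := hmain u
    haveI : LocallyQuasiFinite π :=
      MorphismProperty.of_isPullback hc ‹LocallyQuasiFinite f›
    haveI : DiscreteTopology P :=
      (IsLocallyArtinian.iff_isLocallyNoetherian_and_discreteTopology.mp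
        (IsLocallyArtinian.of_locallyQuasiFinite π)).2
    subst hgu
    let φ : Spec (U.residueField u) ⟶ Spec (S.residueField (g u)) :=
      Spec.map (g.residueFieldMap u)
    have hφ : φ ≫ S.fromSpecResidueField (g u) = U.fromSpecResidueField u ≫ g := by simp [φ]
    let τ : P ⟶ pullback f (S.fromSpecResidueField (g u)) :=
      pullback.lift (a ≫ pullback.fst f g) (π ≫ φ) (by rw [Category.assoc π, hφ]; exact hc.w)
    have hT : IsPullback τ π (f.fiberToSpecResidueField (g u)) φ :=
      IsPullback.of_right (h₁₂ := pullback.fst _ _) (v₁₃ := f)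
        (h₂₂ := S.fromSpecResidueField (g u))
        (by rw [hφ, show τ ≫ pullback.fst _ _ = a ≫ pullback.fst f g from pullback.lift_fst _ _ _]
            exact hc)
        (pullback.lift_snd _ _ _) (IsPullback.of_hasPullback f (S.fromSpecResidueField (g u)))
    have hle : τ ⁻¹ᵁ V ≤ a ⁻¹ᵁ O := by
      intro z (hz : τ z ∈ V)
      have hzu : pullback.snd f g (a z) = u := by
        rw [← Scheme.Hom.comp_apply, hc'.w, Scheme.Hom.comp_apply]
        exact Scheme.fromSpecResidueField_apply _ _
      have hzW : pullback.fst f g (a z) ∈ W := by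
        have : f.fiberι (g u) (τ z) = pullback.fst f g (a z) := by
          exact congrArg (fun k : P ⟶ X ↦ k z) (pullback.lift_fst _ _ _)
        rw [← this]
        show f.fiberι (g u) (τ z) ∈ W₀
        have hz' : τ z ∈ (f.fiberι (g u)) ⁻¹' W₀ := by rw [hW₀V]; exact hz
        exact hz'
      obtain ⟨w, hw⟩ : a z ∈ Set.range m₀ := by
        rw [Scheme.Pullback.range_map]
        exact ⟨⟨⟨_, hzW⟩, rfl⟩, ⟨_, rfl⟩⟩
      have hwu : pullback.snd (W.ι ≫ f) g w = u := by
        rw [← hzu, ← hw, ← Scheme.Hom.comp_apply m₀]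
        exact congrArg (fun k : pullback (W.ι ≫ f) g ⟶ U ↦ k w)
          ((pullback.lift_snd _ _ _).trans (Category.comp_id _)).symm
      obtain ⟨b, hb⟩ : w ∈ Set.range ((pullback.snd (W.ι ≫ f) g).fiberι u) := by
        rw [Scheme.Hom.range_fiberι]; exact hwu
      haveI : DiscreteTopology ↑((pullback.snd (W.ι ≫ f) g).fiber u) :=
        (IsLocallyArtinian.iff_isLocallyNoetherian_and_discreteTopology.mp inferInstance).2
      have hwV : w ∈ Vh := by
        by_contra hn
        exact hVh b (by rwa [hb]) (isOpen_discrete _)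
      exact ⟨⟨w, hwV⟩, hw⟩
    haveI : IsFinite ((τ ⁻¹ᵁ V).ι ≫ π) :=
      MorphismProperty.of_isPullback (isPullback_restrict_opens hT V) hVfin
    haveI : Flat ((τ ⁻¹ᵁ V).ι ≫ π) :=
      MorphismProperty.of_isPullback (isPullback_restrict_opens hT V) hVflat
    haveI : IsFinite ((a ⁻¹ᵁ O).ι ≫ π) :=
      MorphismProperty.of_isPullback (isPullback_restrict_opens hc' O) (by assumption)
    haveI : Flat ((a ⁻¹ᵁ O).ι ≫ π) :=
      MorphismProperty.of_isPullback (isPullback_restrict_opens hc' O) (inferInstanceAs (Flat ρ))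
    haveI := hVflat
    let p : Spec (U.residueField u) := IsLocalRing.closedPoint _
    have h1 := Scheme.Hom.finrank_of_isPullback _ _ _ _ (isPullback_restrict_opens hc' O) p
    rw [Scheme.fromSpecResidueField_apply] at h1
    have h2 := @Scheme.Hom.finrank_of_isPullback _ _ _ _ _ _ _ _ (isPullback_restrict_opens hT V)
      hVflat hVfin p
    rw [show φ p = p₀ from Subsingleton.elim (α := PrimeSpectrum _) _ _] at h2
    have h3 := gRank_le_of_isClopen (K := U.residueField u) ((a ⁻¹ᵁ O).ι ≫ π) (P.homOfLE hle) (by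
      haveI : DiscreteTopology (a ⁻¹ᵁ O : Scheme.{u}) :=
        (a ⁻¹ᵁ O).ι.isOpenEmbedding.isEmbedding.discreteTopology
      exact isClopen_discrete _)
    rw [← Category.assoc, P.homOfLE_ι, gRank_of_isFinite (K := U.residueField u) _ p,
      gRank_of_isFinite (K := U.residueField u) _ p, h1, h2] at h3
    exact hd.trans (by exact_mod_cast h3)
  let N : Set U := {u' | d ≤ ρ.finrank u'}
  have hN : IsOpen N :=
    Scheme.Hom.isLocallyConstant_finrank ρ {n | d ≤ n}
  refine Filter.mem_of_superset ((g.isOpenMap N hN).mem_nhds ⟨u, hat, hgu⟩) ?_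
  rintro _ ⟨u', hu', rfl⟩
  exact hstep u' hu'

end GrothLib.Weight
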