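import Groth.Agent.Lib.Weight.Family
import Groth.Agent.Lib.Weight.Constructible
import Mathlib.AlgebraicGeometry.AffineScheme

/-! # Affine pieces and constructibility of weightings -/

universe u

open CategoryTheory Limits AlgebraicGeometry Topology

namespace GrothLib.Weight

open MoreMor

variable {X Y : Scheme.{u}} {f : X ⟶ Y}

theorem pt_lift {U V : Scheme.{u}} (j : U ⟶ V) [IsOpenImmersion j] {Ω : Type u} [Field Ω]
    (p : Spec (CommRingCat.of Ω) ⟶ V) (h : Set.range p ⊆ Set.range j) :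
    j (pt (IsOpenImmersion.lift j p h)) = pt p :=
  congrArg pt (IsOpenImmersion.lift_fac j p h)

/-- Affine charts through finitely many geometric points, with constant integrals. -/
theorem exists_affine_charts [LocallyQuasiFinite f] [LocallyOfFiniteType f] {w : X → ℤ}
    (hw : IsWeighting f w) {Ω : Type u} [Field Ω] [IsAlgClosed Ω]
    (p₀ : Spec (CommRingCat.of Ω) ⟶ Y) (n : ℕ) (r : Fin n → GeomPts f p₀)
    (A : Fin n → X.Opens) (hA : ∀ i, pt (r i).1 ∈ A i) (W : Y.Opens) (hW : pt p₀ ∈ W) :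
    ∃ (R : CommRingCat.{u}) (g : Spec R ⟶ Y) (_ : Etale g) (p : Spec (CommRingCat.of Ω) ⟶ Spec R)
      (_ : p ≫ g = p₀) (B : Fin n → CommRingCat.{u}) (φ : ∀ i, R ⟶ B i)
      (a : ∀ i, Spec (B i) ⟶ X) (q : ∀ i, GeomPts (Spec.map (φ i)) p),
      (∀ i, Piece f g (Spec.map (φ i)) (a i)) ∧
      (∀ i, Subsingleton (GeomPts (Spec.map (φ i)) p)) ∧ (∀ i, (q i).1 ≫ a i = (r i).1) ∧
      (∀ i v, fibreIntegral (Spec.map (φ i)) (w ∘ ⇑(a i)) v = w (pt (r i).1)) ∧
      (∀ i s, a i s ∈ A i) ∧ (∀ v, g v ∈ W) := by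
  obtain ⟨U, g, _, p, hp, T, π, a, q, hP, hs, hq⟩ := exists_charts p₀ n r
  haveI : ∀ i, IsFinite (π i) := fun i ↦ (hP i).finite
  have h1 : ∀ i, ∀ᶠ v in 𝓝 (pt p), fibreIntegral (π i) (w ∘ ⇑(a i)) v = w (pt (r i).1) := fun i ↦
    (eventually_single hw (hP i) (q i) (hs i)).mono fun v hv ↦ hv.trans (by
      show w (pt ((q i).1 ≫ a i)) = _
      rw [hq])
  have h2 : ∀ i, ∀ᶠ v in 𝓝 (pt p), ∀ t, π i t = v → a i t ∈ A i := fun i ↦ by
    obtain ⟨O, hO, hO'⟩ := exists_preimage_subset (π i) (π i).isClosedMap (pt p) (⇑(a i) ⁻¹' A i)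
      ((A i).isOpen.preimage (a i).continuous)
      (mem_of_subsingleton_fibre (π i) (q i) (hs i) _ (by
        show pt ((q i).1 ≫ a i) ∈ A i; rw [hq]; exact hA i))
    filter_upwards [O.isOpen.mem_nhds hO] with v hv t ht
    exact hO' t (ht ▸ hv)
  have h3 : ∀ᶠ v in 𝓝 (pt p), g v ∈ W :=
    (W.isOpen.preimage g.continuous).mem_nhds (by show pt (p ≫ g) ∈ W; rwa [hp])
  obtain ⟨O, hOsub, hOopen, hpO⟩ := mem_nhds_iff.mp
    ((Filter.eventually_all.mpr h1).and ((Filter.eventually_all.mpr h2).and h3))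
  obtain ⟨_, ⟨V, hV, rfl⟩, hpV, hVO⟩ :=
    U.isBasis_affineOpens.exists_subset_of_mem_open hpO hOopen
  let k : Spec Γ(U, V) ⟶ U := hV.fromSpec
  have hk : Set.range k ⊆ O := hV.range_fromSpec.trans_subset hVO
  have hr : Set.range p ⊆ Set.range k :=
    range_subset_of_pt_mem p (by rw [hV.range_fromSpec]; exact hpV)
  let p' := IsOpenImmersion.lift k p hr
  have hp' : p' ≫ k = p := IsOpenImmersion.lift_fac _ _ _
  haveI : ∀ i, IsFinite (pullback.snd (π i) k) := fun i ↦ MorphismProperty.pullback_snd _ _ (hP i).finite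
  haveI : ∀ i, IsAffine (pullback (π i) k) := fun i ↦
    isAffine_of_isAffineHom (pullback.snd (π i) k)
  let B : Fin n → CommRingCat.{u} := fun i ↦ Γ(pullback (π i) k, ⊤)
  let φ : ∀ i, Γ(U, V) ⟶ B i := fun i ↦
    Spec.preimage ((pullback (π i) k).isoSpec.inv ≫ pullback.snd (π i) k)
  have hφ : ∀ i, Spec.map (φ i) = (pullback (π i) k).isoSpec.inv ≫ pullback.snd (π i) k :=
    fun i ↦ Spec.map_preimage _
  have hPc : ∀ i, Piece f (k ≫ g) (Spec.map (φ i))
      ((pullback (π i) k).isoSpec.inv ≫ pullback.fst (π i) k ≫ a i) := fun i ↦ by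
    rw [hφ]
    exact ((hP i).baseChange (IsPullback.of_hasPullback (π i) k)).open _ inferInstance
  have hsq : ∀ i, IsPullback ((pullback (π i) k).isoSpec.inv ≫ pullback.fst (π i) k)
      (Spec.map (φ i)) (π i) k := fun i ↦ by
    rw [hφ]
    exact IsPullback.of_iso (IsPullback.of_hasPullback (π i) k) (pullback (π i) k).isoSpec
      (Iso.refl _) (Iso.refl _) (Iso.refl _) (by simp) (by simp) (by simp) (by simp)
  refine ⟨Γ(U, V), k ≫ g, inferInstance, p', by rw [← Category.assoc, hp', hp], B, φ,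
    fun i ↦ (pullback (π i) k).isoSpec.inv ≫ pullback.fst (π i) k ≫ a i,
    fun i ↦ (geomPtsEquiv (hsq i) p' p hp').symm (q i), hPc, fun i ↦ ?_, fun i ↦ ?_,
    fun i v ↦ ?_, fun i s ↦ ?_, fun v ↦ ?_⟩
  · haveI := hs i
    exact (geomPtsEquiv (hsq i) p' p hp').subsingleton
  · show ((hsq i).lift _ _ _) ≫ (pullback (π i) k).isoSpec.inv ≫ pullback.fst (π i) k ≫ a i = _
    rw [← Category.assoc (pullback (π i) k).isoSpec.inv, (hsq i).lift_fst_assoc, hq]
  · have := fibreIntegral_isPullback (hsq i) (w ∘ ⇑(a i)) v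
    exact this.trans ((hOsub (hk ⟨v, rfl⟩)).1 i)
  · refine (hOsub (hk ⟨Spec.map (φ i) s, rfl⟩)).2.1 i
      (((pullback (π i) k).isoSpec.inv ≫ pullback.fst (π i) k) s) ?_
    exact congrArg (fun m : Spec (B i) ⟶ U ↦ m s) (hsq i).w
  · exact (hOsub (hk ⟨v, rfl⟩)).2.2

/-- A weighting is constant on a constructible neighbourhood in an affine open. -/
theorem exists_constructible_const [LocallyQuasiFinite f] [LocallyOfFiniteType f] {w : X → ℤ}
    (hw : IsWeighting f w) (A : X.Opens) (hA : IsAffineOpen A) (x : A) :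
    ∃ E : Set A, IsConstructible E ∧ x ∈ E ∧ ∀ y ∈ E, w y.1 = w x.1 := by
  obtain ⟨Ω, _, _, r, hr⟩ := exists_pt x.1
  obtain ⟨R, g, _, p, hp, B, φ, a, q, hP, hs, hq, hI, haA, -⟩ :=
    exists_affine_charts hw (r ≫ f) 1 (fun _ ↦ ⟨r, rfl⟩) (fun _ ↦ A) (fun _ ↦ hr ▸ x.2) ⊤ trivial
  haveI := (hP 0).finite
  haveI := (hP 0).openImmersion
  haveI : Etale (a 0) := by
    rw [show a 0 = (pullback.lift (a 0) (Spec.map (φ 0)) (hP 0).w : _ ⟶ pullback f g) ≫
      pullback.fst f g from (pullback.lift_fst _ _ _).symm]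
    infer_instance
  let a' : Spec (B 0) ⟶ (A : Scheme.{u}) := IsOpenImmersion.lift A.ι (a 0) (by
    rintro _ ⟨s, rfl⟩; rw [Scheme.Opens.range_ι]; exact haA 0 s)
  have ha' : a' ≫ A.ι = a 0 := IsOpenImmersion.lift_fac _ _ _
  haveI : Etale (a' ≫ A.ι) := ha'.symm ▸ inferInstance
  haveI : Etale a' := Etale.of_comp a' A.ι
  haveI : IsAffine (A : Scheme.{u}) := hA
  obtain ⟨E, hE, hpE, hEs⟩ := exists_constructible_subsingleton (φ 0) p (hs 0)
  refine ⟨a' '' ((Spec.map (φ 0)) ⁻¹' E),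
    Scheme.Hom.isConstructible_image a' ((Spec.map (φ 0)).isConstructible_preimage hE),
    ⟨pt (q 0).1, ?_, ?_⟩, ?_⟩
  · show Spec.map (φ 0) (pt (q 0).1) ∈ E
    rw [pt_geomPts (q 0)]; exact hpE
  · apply Subtype.ext
    show pt ((q 0).1 ≫ a' ≫ A.ι) = x.1
    rw [ha', hq]; exact hr
  · rintro _ ⟨s, hs', rfl⟩
    obtain ⟨Ω', _, _, p', hp'⟩ := exists_pt (Spec.map (φ 0) s)
    haveI hss := hEs Ω' p' (hp' ▸ hs')
    obtain ⟨⟨s₀, hs₀⟩⟩ : Nonempty {c : GeomPts (Spec.map (φ 0)) p' // pt c.1 = s} := by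
      refine (Nat.card_ne_zero.mp ?_).1
      rw [(card_geomPts_over (Spec.map (φ 0)) p' s hp'.symm).2]
      letI := ((Spec.map (φ 0)).residueFieldMap s).hom.toAlgebra
      haveI : Module.Finite ((Spec R).residueField (Spec.map (φ 0) s))
          ((Spec (B 0)).residueField s) := finite_residueFieldMap _ s
      exact NeZero.ne _
    have := fibreIntegral_of_unique_geomPts (Spec.map (φ 0)) p' s₀ (w ∘ ⇑(a 0))
    rw [hI, hs₀] at this
    have hy : (a' s).1 = a 0 s := congrArg (fun m : Spec (B 0) ⟶ X ↦ m s) ha'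
    show w (a' s).1 = w x.1
    rw [hy, ← hr]
    exact this.symm

/-- Level sets of a weighting are locally constructible. -/
theorem isLocallyConstructible_levelSet [LocallyQuasiFinite f] [LocallyOfFiniteType f] {w : X → ℤ}
    (hw : IsWeighting f w) (n : ℤ) : IsLocallyConstructible {x : X | w x = n} := by
  intro x
  obtain ⟨_, ⟨A, hA, rfl⟩, hxA, -⟩ :=
    X.isBasis_affineOpens.exists_subset_of_mem_open (Set.mem_univ x) isOpen_univ
  refine ⟨A, A.isOpen.mem_nhds hxA, A.isOpen, ?_⟩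
  haveI : IsAffine (A : Scheme.{u}) := hA
  exact (isConstructible_levelSets (X := (A : Scheme.{u})) (fun y ↦ w y.1)
    (fun y ↦ exists_constructible_const hw A hA y)).1 n

/-- A weighting takes finitely many values on a quasi-compact source. -/
theorem finite_range [LocallyQuasiFinite f] [LocallyOfFiniteType f] [CompactSpace X] {w : X → ℤ}
    (hw : IsWeighting f w) : (Set.range w).Finite := by
  have hA : ∀ x : X, ∃ A : X.Opens, IsAffineOpen A ∧ x ∈ A := fun x ↦ by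
    obtain ⟨_, ⟨A, hA, rfl⟩, hxA, -⟩ :=
      X.isBasis_affineOpens.exists_subset_of_mem_open (Set.mem_univ x) isOpen_univ
    exact ⟨A, hA, hxA⟩
  choose A hA hxA using hA
  obtain ⟨t, ht⟩ := CompactSpace.isCompact_univ.elim_finite_subcover (fun x ↦ (A x : Set X))
    (fun x ↦ (A x).isOpen) (fun x _ ↦ Set.mem_iUnion.mpr ⟨x, hxA x⟩)
  have hfin : ∀ i, (Set.range fun y : A i ↦ w y.1).Finite := fun i ↦ by
    haveI : IsAffine (A i : Scheme.{u}) := hA i
    exact (isConstructible_levelSets (X := (A i : Scheme.{u})) (fun y ↦ w y.1)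
      (fun y ↦ exists_constructible_const hw (A i) (hA i) y)).2
  refine (t.finite_toSet.biUnion fun i _ ↦ hfin i).subset ?_
  rintro _ ⟨x, rfl⟩
  obtain ⟨i, hi, hxi⟩ := Set.mem_iUnion₂.mp (ht (Set.mem_univ x))
  exact Set.mem_biUnion hi ⟨⟨x, hxi⟩, rfl⟩

end GrothLib.Weight
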