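import Groth.Agent.Lib.Weight.Split

/-! # Weightings: pieces and their behaviour under arbitrary base change -/

universe u

open CategoryTheory Limits AlgebraicGeometry Topology

namespace GrothLib.Weight

open MoreMor

/-- An open immersion has a source which is a base change of it along a monomorphism. -/
theorem isOpenImmersion_of_comp_mono {A B C : Scheme.{u}} (a : A ⟶ B) (b : B ⟶ C) [Mono b]
    [IsOpenImmersion (a ≫ b)] : IsOpenImmersion a :=
  MorphismProperty.of_isPullback (P := @IsOpenImmersion)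
    ((IsPullback.mk' (fst := 𝟙 A) (snd := a) (f := a ≫ b) (g := b) (by simp)
      (fun _ _ _ h₁ _ ↦ by simpa using h₁)
      (fun _ c d h ↦ ⟨c, by simp, (cancel_mono b).mp ((Category.assoc _ _ _).trans h)⟩)))
    ‹IsOpenImmersion (a ≫ b)›

variable {X Y : Scheme.{u}} {f : X ⟶ Y}

/-- `(π, a)` is a piece of `f` over `g`: an open of the base change of `f` along `g`, finite over
the new base. -/
structure Piece (f : X ⟶ Y) {V T : Scheme.{u}} (g : V ⟶ Y) (π : T ⟶ V) (a : T ⟶ X) : Prop where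
  finite : IsFinite π
  w : a ≫ f = π ≫ g
  openImmersion : IsOpenImmersion (pullback.lift a π w : T ⟶ pullback f g)

theorem Piece.ofOpens {V : Scheme.{u}} (g : V ⟶ Y) (U : (pullback f g).Opens)
    (h : IsFinite (U.ι ≫ pullback.snd f g)) :
    Piece f g (U.ι ≫ pullback.snd f g) (U.ι ≫ pullback.fst f g) := by
  refine ⟨h, by rw [Category.assoc, Category.assoc, pullback.condition], ?_⟩
  convert (inferInstance : IsOpenImmersion U.ι)
  apply pullback.hom_ext
  · exact pullback.lift_fst _ _ _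
  · exact pullback.lift_snd _ _ _

/-- Pieces are stable under base change. -/
theorem Piece.baseChange {V T : Scheme.{u}} {g : V ⟶ Y} {π : T ⟶ V} {a : T ⟶ X}
    (hP : Piece f g π a) {V' T' : Scheme.{u}} {k : V' ⟶ V} {π' : T' ⟶ V'} {t : T' ⟶ T}
    (hc : IsPullback t π' π k) : Piece f (k ≫ g) π' (t ≫ a) := by
  have hw : (t ≫ a) ≫ f = π' ≫ k ≫ g := by rw [Category.assoc, hP.w, hc.w_assoc]
  refine ⟨MorphismProperty.of_isPullback hc hP.finite, hw, ?_⟩
  refine MorphismProperty.of_isPullback (P := @IsOpenImmersion) (f' := t)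
    (f := towerMap f g k) ?_ hP.openImmersion
  refine IsPullback.of_bot ?_ ?_ (isPullback_towerMap f g k)
  · rw [pullback.lift_snd, pullback.lift_snd]; exact hc
  · apply pullback.hom_ext
    · rw [Category.assoc, Category.assoc, pullback.lift_fst, pullback.lift_fst, pullback.lift_fst]
    · rw [Category.assoc, Category.assoc, pullback.lift_snd, pullback.lift_snd,
        pullback.lift_snd_assoc]
      exact hc.w

/-- A piece restricted to an open of the base. -/
theorem Piece.restrict {V T : Scheme.{u}} {g : V ⟶ Y} {π : T ⟶ V} {a : T ⟶ X}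
    (hP : Piece f g π a) (O : V.Opens) :
    Piece f (O.ι ≫ g) (pullback.snd π O.ι) (pullback.fst π O.ι ≫ a) :=
  hP.baseChange (IsPullback.of_hasPullback π O.ι)

/-- An open of a piece which is finite over the base is a piece. -/
theorem Piece.open {V T : Scheme.{u}} {g : V ⟶ Y} {π : T ⟶ V} {a : T ⟶ X}
    (hP : Piece f g π a) {T' : Scheme.{u}} (j : T' ⟶ T) [IsOpenImmersion j]
    (hj : IsFinite (j ≫ π)) : Piece f g (j ≫ π) (j ≫ a) := by
  refine ⟨hj, by rw [Category.assoc, hP.w, Category.assoc], ?_⟩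
  haveI := hP.openImmersion
  rw [show pullback.lift (j ≫ a) (j ≫ π) _ = j ≫ pullback.lift a π hP.w by
    apply pullback.hom_ext
    · rw [pullback.lift_fst, Category.assoc, pullback.lift_fst]
    · rw [pullback.lift_snd, Category.assoc, pullback.lift_snd]]
  infer_instance

/-- Pieces of a base change of `f` are pieces of `f`. -/
theorem Piece.of_isPullback {X' Y' : Scheme.{u}} {f' : X' ⟶ Y'} {h : X' ⟶ X} {g₀ : Y' ⟶ Y}
    (hc : IsPullback h f' f g₀) {V T : Scheme.{u}} {g : V ⟶ Y'} {π : T ⟶ V} {a : T ⟶ X'}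
    (hP : Piece f' g π a) : Piece f (g ≫ g₀) π (a ≫ h) := by
  have hw : (a ≫ h) ≫ f = π ≫ g ≫ g₀ := by rw [Category.assoc, hc.w, reassoc_of% hP.w]
  refine ⟨hP.finite, hw, ?_⟩
  haveI := hP.openImmersion
  have hbig := (IsPullback.of_hasPullback f' g).paste_horiz hc
  rw [show pullback.lift (a ≫ h) π hw = pullback.lift a π hP.w ≫ hbig.isoPullback.hom by
    apply pullback.hom_ext
    · rw [Category.assoc, hbig.isoPullback_hom_fst, pullback.lift_fst, pullback.lift_fst_assoc]
    · rw [Category.assoc, hbig.isoPullback_hom_snd, pullback.lift_snd, pullback.lift_snd]]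
  infer_instance

/-- Two pieces over the same base whose images agree on the fibre over `v` have equal integrals
at `v`. -/
theorem fibreIntegral_eq_of_range {V T S : Scheme.{u}} {g : V ⟶ Y} {π : T ⟶ V} {a : T ⟶ X}
    {ρ : S ⟶ V} {b : S ⟶ X} (hT : Piece f g π a) (hS : Piece f g ρ b) (v : V)
    (h : ∀ x : ↑(pullback f g), pullback.snd f g x = v →
      (x ∈ Set.range (pullback.lift a π hT.w : T ⟶ pullback f g) ↔
        x ∈ Set.range (pullback.lift b ρ hS.w : S ⟶ pullback f g)))
    (w : X → ℤ) :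
    fibreIntegral π (w ∘ ⇑a) v = fibreIntegral ρ (w ∘ ⇑b) v := by
  haveI := hT.finite
  haveI := hS.finite
  obtain ⟨Ω, _, _, p, rfl⟩ := exists_pt v
  rw [fibreIntegral_eq π p, fibreIntegral_eq ρ p]
  haveI := hT.openImmersion
  haveI := hS.openImmersion
  set i : T ⟶ pullback f g := pullback.lift a π hT.w
  set i' : S ⟶ pullback f g := pullback.lift b ρ hS.w
  have hi : i ≫ pullback.snd f g = π := pullback.lift_snd _ _ _
  have hi' : i' ≫ pullback.snd f g = ρ := pullback.lift_snd _ _ _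
  have hr : ∀ q : GeomPts π p, Set.range (q.1 ≫ i) ⊆ Set.range i' := fun q ↦
    range_subset_of_pt_mem _ ((h _ (by
      rw [← pt_comp, Category.assoc, hi, q.2])).mp ⟨pt q.1, rfl⟩)
  have hr' : ∀ q : GeomPts ρ p, Set.range (q.1 ≫ i') ⊆ Set.range i := fun q ↦
    range_subset_of_pt_mem _ ((h _ (by
      rw [← pt_comp, Category.assoc, hi', q.2])).mpr ⟨pt q.1, rfl⟩)
  let e : GeomPts π p → GeomPts ρ p := fun q ↦ ⟨IsOpenImmersion.lift i' (q.1 ≫ i) (hr q), by
    rw [← hi', IsOpenImmersion.lift_fac_assoc, Category.assoc, hi, q.2]⟩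
  have hb : Function.Bijective e := by
    constructor
    · intro q q' hqq
      have := congrArg (fun z ↦ z.1 ≫ i') hqq
      simp only [e, IsOpenImmersion.lift_fac, cancel_mono] at this
      exact Subtype.ext this
    · intro q
      refine ⟨⟨IsOpenImmersion.lift i (q.1 ≫ i') (hr' q), by
        rw [← hi, IsOpenImmersion.lift_fac_assoc, Category.assoc, hi', q.2]⟩, Subtype.ext ?_⟩
      rw [← cancel_mono i']
      simp only [e, IsOpenImmersion.lift_fac]
  refine finsum_eq_of_bijective e hb fun q ↦ ?_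
  show w (a (pt q.1)) = w (b (pt (e q).1))
  rw [← pt_comp, ← pt_comp]
  congr 2
  rw [← pullback.lift_fst a π hT.w, ← pullback.lift_fst b ρ hS.w, ← Category.assoc,
    ← Category.assoc]
  simp only [e]
  rw [IsOpenImmersion.lift_fac]

/-- The integral over a piece over an étale base is locally constant. -/
theorem Piece.isLocallyConstant {V T : Scheme.{u}} {g : V ⟶ Y} [Etale g] {π : T ⟶ V} {a : T ⟶ X}
    (hP : Piece f g π a) {w : X → ℤ} (hw : IsWeighting f w) :
    IsLocallyConstant (fibreIntegral π (w ∘ ⇑a)) := by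
  haveI := hP.openImmersion
  let j : T ⟶ pullback f g := pullback.lift a π hP.w
  have hfin : IsFinite (j.opensRange.ι ≫ pullback.snd f g) := by
    rw [← MorphismProperty.cancel_left_of_respectsIso @IsFinite j.isoOpensRange.hom,
      Scheme.Hom.isoOpensRange_hom_ι_assoc, pullback.lift_snd]
    exact hP.finite
  have hlc := hw V g j.opensRange hfin
  have : fibreIntegral π (w ∘ ⇑a) = fibreIntegral (j.opensRange.ι ≫ pullback.snd f g)
      (fun u ↦ w (pullback.fst f g (j.opensRange.ι u))) := by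
    funext v
    haveI := hP.finite
    haveI := hfin
    refine (fibreIntegral_eq_of_range hP (Piece.ofOpens g j.opensRange hfin) v (fun x _ ↦ ?_) w)
    rw [show pullback.lift (j.opensRange.ι ≫ pullback.fst f g)
      (j.opensRange.ι ≫ pullback.snd f g) _ = j.opensRange.ι by
        apply pullback.hom_ext
        · exact pullback.lift_fst _ _ _
        · exact pullback.lift_snd _ _ _]
    rw [Scheme.Opens.range_ι]
    rfl
  rw [this]; exact hlc

/-- Chart at a geometric lift. -/
theorem exists_chart [LocallyQuasiFinite f] [LocallyOfFiniteType f] {Ω : Type u} [Field Ω]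
    [IsAlgClosed Ω] (p₀ : Spec (CommRingCat.of Ω) ⟶ Y) (r : GeomPts f p₀) :
    ∃ (U : Scheme.{u}) (g : U ⟶ Y) (_ : Etale g) (p : Spec (CommRingCat.of Ω) ⟶ U)
      (_ : p ≫ g = p₀) (T : Scheme.{u}) (π : T ⟶ U) (a : T ⟶ X) (q : GeomPts π p),
      Piece f g π a ∧ Subsingleton (GeomPts π p) ∧ q.1 ≫ a = r.1 := by
  obtain ⟨U, g, he, p, hp, V, q, hfin, hsub, hq⟩ := exists_radicial_part f p₀ r
  exact ⟨U, g, he, p, hp, _, _, _, q, Piece.ofOpens g V hfin, hsub, hq⟩

theorem mem_of_subsingleton_fibre {V T : Scheme.{u}} (π : T ⟶ V) [IsFinite π] {Ω : Type u}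
    [Field Ω] [IsAlgClosed Ω] {p : Spec (CommRingCat.of Ω) ⟶ V} (q : GeomPts π p)
    (hs : Subsingleton (GeomPts π p)) (A : Set T) (h : pt q.1 ∈ A) :
    ∀ t, π t = pt p → t ∈ A := by
  obtain ⟨x, -, hx, -⟩ := fibreIntegral_subsingleton π p ⟨hs, ⟨q⟩⟩
  intro t ht
  rw [hx t ht, ← hx _ (pt_geomPts q)]
  exact h

/-- **Key lemma.** On a piece with a single geometric point over `p` — over an arbitrary base —
the integral is constant near the point. -/
theorem eventually_single [LocallyQuasiFinite f] [LocallyOfFiniteType f] {w : X → ℤ}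
    (hw : IsWeighting f w) {V T : Scheme.{u}} {g : V ⟶ Y} {π : T ⟶ V} {a : T ⟶ X}
    (hP : Piece f g π a) {Ω : Type u} [Field Ω] [IsAlgClosed Ω] {p : Spec (CommRingCat.of Ω) ⟶ V}
    (q : GeomPts π p) (hs : Subsingleton (GeomPts π p)) :
    ∀ᶠ v in 𝓝 (pt p), fibreIntegral π (w ∘ ⇑a) v = w (a (pt q.1)) := by
  haveI := hP.finite
  obtain ⟨U, k, _, pU, hpU, S, ρ, b, qS, hS, hSs, hqS⟩ := exists_chart (p ≫ g)
    (⟨q.1 ≫ a, by rw [Category.assoc, hP.w, ← Category.assoc, q.2]⟩ : GeomPts f (p ≫ g))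
  haveI := hS.finite
  let V₃ := pullback g k
  let e : V₃ ⟶ V := pullback.fst g k
  let c : V₃ ⟶ U := pullback.snd g k
  let p₃ : Spec (CommRingCat.of Ω) ⟶ V₃ := pullback.lift p pU hpU.symm
  have hT₃ := hP.baseChange (IsPullback.of_hasPullback π e)
  have hS₃' := hS.baseChange (IsPullback.of_hasPullback ρ c)
  have hS₃ : Piece f (e ≫ g) (pullback.snd ρ c) (pullback.fst ρ c ≫ b) := by
    rwa [show c ≫ k = e ≫ g from pullback.condition.symm] at hS₃'
  haveI := hT₃.finite
  haveI := hS₃.finite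
  let qT : GeomPts (pullback.snd π e) p₃ :=
    ⟨pullback.lift q.1 p₃ (q.2.trans (pullback.lift_fst _ _ _).symm), pullback.lift_snd _ _ _⟩
  let qS₃ : GeomPts (pullback.snd ρ c) p₃ :=
    ⟨pullback.lift qS.1 p₃ (qS.2.trans (pullback.lift_snd _ _ _).symm), pullback.lift_snd _ _ _⟩
  have hTs : Subsingleton (GeomPts (pullback.snd π e) p₃) :=
    (geomPtsEquiv (IsPullback.of_hasPullback π e) p₃ p (pullback.lift_fst _ _ _)).subsingleton
  have hSs₃ : Subsingleton (GeomPts (pullback.snd ρ c) p₃) :=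
    (geomPtsEquiv (IsPullback.of_hasPullback ρ c) p₃ pU (pullback.lift_snd _ _ _)).subsingleton
  haveI := hT₃.openImmersion
  haveI := hS₃.openImmersion
  set iT := (pullback.lift (pullback.fst π e ≫ a) (pullback.snd π e) hT₃.w :
    pullback π e ⟶ pullback f (e ≫ g))
  set iS := (pullback.lift (pullback.fst ρ c ≫ b) (pullback.snd ρ c) hS₃.w :
    pullback ρ c ⟶ pullback f (e ≫ g))
  have hcommon : qT.1 ≫ iT = qS₃.1 ≫ iS := by
    apply pullback.hom_ext
    · simp only [iT, iS, Category.assoc, pullback.lift_fst, qT, qS₃, pullback.lift_fst_assoc]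
      exact hqS.symm
    · simp only [iT, iS, Category.assoc, pullback.lift_snd, qT, qS₃]
  obtain ⟨O₁, hO₁, hO₁'⟩ := exists_preimage_subset (pullback.snd π e)
    (pullback.snd π e).isClosedMap (pt p₃) (iT ⁻¹' Set.range iS)
    (iS.isOpenEmbedding.isOpen_range.preimage iT.continuous)
    (mem_of_subsingleton_fibre _ qT hTs _ ⟨pt qS₃.1, (congrArg pt hcommon).symm⟩)
  obtain ⟨O₂, hO₂, hO₂'⟩ := exists_preimage_subset (pullback.snd ρ c)
    (pullback.snd ρ c).isClosedMap (pt p₃) (iS ⁻¹' Set.range iT)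
    (iT.isOpenEmbedding.isOpen_range.preimage iS.continuous)
    (mem_of_subsingleton_fibre _ qS₃ hSs₃ _ ⟨pt qT.1, congrArg pt hcommon⟩)
  have hval : fibreIntegral ρ (w ∘ ⇑b) (pt pU) = w (a (pt q.1)) := by
    rw [fibreIntegral_of_unique_geomPts ρ pU qS]
    show w (pt (qS.1 ≫ b)) = w (pt (q.1 ≫ a))
    rw [hqS]
  have hlc : ∀ᶠ z in 𝓝 (pt p₃), fibreIntegral ρ (w ∘ ⇑b) (c z) = w (a (pt q.1)) := by
    have h1 := (hS.isLocallyConstant hw).eventually_eq (pt pU)
    have h2 : c (pt p₃) = pt pU := by rw [← pt_comp, pullback.lift_snd]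
    exact (c.continuous.tendsto (pt p₃)).eventually
      (h2.symm ▸ h1.mono fun z hz ↦ hz.trans hval)
  have hmain : ∀ᶠ z in 𝓝 (pt p₃), fibreIntegral π (w ∘ ⇑a) (e z) = w (a (pt q.1)) := by
    filter_upwards [hlc, O₁.isOpen.mem_nhds hO₁, O₂.isOpen.mem_nhds hO₂] with z hz hz₁ hz₂
    rw [← fibreIntegral_isPullback (IsPullback.of_hasPullback π e) (w ∘ ⇑a) z]
    rw [← hz, ← fibreIntegral_isPullback (IsPullback.of_hasPullback ρ c) (w ∘ ⇑b) z]
    refine fibreIntegral_eq_of_range hT₃ hS₃ z (fun x hx ↦ ⟨?_, ?_⟩) w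
    · rintro ⟨t, rfl⟩
      refine hO₁' t ?_
      rw [show pullback.snd π e t = z from by
        rw [← hx, ← Scheme.Hom.comp_apply, pullback.lift_snd]]
      exact hz₁
    · rintro ⟨t, rfl⟩
      refine hO₂' t ?_
      rw [show pullback.snd ρ c t = z from by
        rw [← hx, ← Scheme.Hom.comp_apply, pullback.lift_snd]]
      exact hz₂
  have := eventually_eq_of_lift e e.isOpenMap (pt p₃) _ _ hmain
  rwa [show e (pt p₃) = pt p by rw [← pt_comp, pullback.lift_fst]] at this

/-- Weightings behave well over arbitrary bases: the integral over any piece is locally constant. -/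
theorem Piece.isLocallyConstant' [LocallyQuasiFinite f] [LocallyOfFiniteType f] {w : X → ℤ}
    (hw : IsWeighting f w) {V T : Scheme.{u}} {g : V ⟶ Y} {π : T ⟶ V} {a : T ⟶ X}
    (hP : Piece f g π a) : IsLocallyConstant (fibreIntegral π (w ∘ ⇑a)) := by
  haveI := hP.finite
  rw [IsLocallyConstant.iff_eventually_eq]
  intro v
  obtain ⟨Ω, _, _, p, rfl⟩ := exists_pt v
  obtain ⟨V', h, _, p', hp', n, P, j, hj, hjfin, hjpt, hcov⟩ := exists_split π p
  have hP' := hP.baseChange (IsPullback.of_hasPullback π h)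
  haveI := hP'.finite
  have hsum : ∀ z, fibreIntegral π (w ∘ ⇑a) (h z) =
      ∑ i, fibreIntegral (j i ≫ pullback.snd π h) (w ∘ ⇑(j i ≫ pullback.fst π h ≫ a)) z := fun z ↦ by
    rw [← fibreIntegral_isPullback (IsPullback.of_hasPullback π h) (w ∘ ⇑a) z,
      fibreIntegral_split (pullback.snd π h) P j z
        ((pullback.snd π h).finite_preimage_singleton z) (fun x _ ↦ hcov x)]
    rfl
  have hev : ∀ i, ∀ᶠ z in 𝓝 (pt p'),
      fibreIntegral (j i ≫ pullback.snd π h) (w ∘ ⇑(j i ≫ pullback.fst π h ≫ a)) z =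
        fibreIntegral (j i ≫ pullback.snd π h) (w ∘ ⇑(j i ≫ pullback.fst π h ≫ a)) (pt p') := by
    intro i
    haveI := hj i
    obtain ⟨hs, ⟨q⟩⟩ := hjpt i
    have h1 := eventually_single hw (hP'.open (j i) (hjfin i)) q hs
    exact h1.mono fun z hz ↦ hz.trans h1.self_of_nhds.symm
  have hall := Filter.eventually_all.mpr hev
  have := eventually_eq_of_lift h h.isOpenMap (pt p') (fibreIntegral π (w ∘ ⇑a))
    (fibreIntegral π (w ∘ ⇑a) (h (pt p'))) (by
      filter_upwards [hall] with z hz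
      rw [hsum, hsum]
      exact Finset.sum_congr rfl fun i _ ↦ hz i)
  rwa [← pt_comp, hp'] at this

end GrothLib.Weight
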