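import Groth.Agent.Lib.Weight.Family
import Mathlib.AlgebraicGeometry.ZariskisMainTheorem
import Mathlib.FieldTheory.PurelyInseparable.Basic

/-! # Clopen radicial pieces through the quasi-finite points of a fibre -/

universe u

open CategoryTheory Limits AlgebraicGeometry Topology

namespace GrothLib.Weight

variable {X S : Scheme.{u}} {f : X ⟶ S}

theorem Piece.isClosed_range [IsSeparated f] {V T : Scheme.{u}} {g : V ⟶ S} {π : T ⟶ V}
    {a : T ⟶ X} (hP : Piece f g π a) :
    IsClosed (Set.range (pullback.lift a π hP.w : T ⟶ pullback f g)) := by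
  haveI : IsFinite ((pullback.lift a π hP.w : T ⟶ pullback f g) ≫ pullback.snd f g) := by
    rw [pullback.lift_snd]; exact hP.finite
  haveI : IsFinite (pullback.lift a π hP.w : T ⟶ pullback f g) :=
    IsFinite.of_comp _ (pullback.snd f g)
  exact (pullback.lift a π hP.w : T ⟶ pullback f g).isClosedMap.isClosed_range

/-- Radicial pieces through distinct geometric points are disjoint after shrinking the base. -/
theorem exists_shrink_disjoint [IsSeparated f] {U : Scheme.{u}} {g : U ⟶ S} {n : ℕ}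
    {T : Fin n → Scheme.{u}} {π : ∀ i, T i ⟶ U} {a : ∀ i, T i ⟶ X}
    (hP : ∀ i, Piece f g (π i) (a i)) {Ω : Type u} [Field Ω] [IsAlgClosed Ω]
    {p : Spec (CommRingCat.of Ω) ⟶ U} (q : ∀ i, GeomPts (π i) p)
    (hs : ∀ i, Subsingleton (GeomPts (π i) p))
    (hne : ∀ i k, i ≠ k → (q i).1 ≫ a i ≠ (q k).1 ≫ a k) :
    ∃ O : U.Opens, pt p ∈ O ∧ ∀ i k, i ≠ k → ∀ x : ↑(pullback f g), pullback.snd f g x ∈ O →
      x ∈ Set.range (pullback.lift (a i) (π i) (hP i).w : T i ⟶ pullback f g) →
      x ∉ Set.range (pullback.lift (a k) (π k) (hP k).w : T k ⟶ pullback f g) := by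
  have hev : ∀ i k, ∀ᶠ z in 𝓝 (pt p), i ≠ k → ∀ x : ↑(pullback f g), pullback.snd f g x = z →
      x ∈ Set.range (pullback.lift (a i) (π i) (hP i).w : T i ⟶ pullback f g) →
      x ∉ Set.range (pullback.lift (a k) (π k) (hP k).w : T k ⟶ pullback f g) := by
    intro i k
    by_cases hik : i = k
    · exact Filter.Eventually.of_forall fun z h ↦ absurd hik h
    haveI := (hP i).finite
    obtain ⟨O, hO, hO'⟩ := exists_preimage_subset (π i) (π i).isClosedMap (pt p)
      ((pullback.lift (a i) (π i) (hP i).w : T i ⟶ pullback f g) ⁻¹'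
        (Set.range (pullback.lift (a k) (π k) (hP k).w : T k ⟶ pullback f g))ᶜ)
      ((hP k).isClosed_range.isOpen_compl.preimage
        (pullback.lift (a i) (π i) (hP i).w : T i ⟶ pullback f g).continuous) (by
        intro t ht hk
        refine not_mem_range_of_ne (hP i) (hP k) (q i) (q k) (hs i) (hs k) (hne i k hik)
          _ ?_ ⟨t, rfl⟩ hk
        rw [← Scheme.Hom.comp_apply, pullback.lift_snd]; exact ht)
    filter_upwards [O.isOpen.mem_nhds hO] with z hz
    rintro - x hx ⟨t, rfl⟩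
    refine hO' t ?_
    rw [show π i t = z by rw [← hx, ← Scheme.Hom.comp_apply, pullback.lift_snd]]
    exact hz
  obtain ⟨A, hA, hAopen, hpA⟩ := mem_nhds_iff.mp
    (Filter.eventually_all.mpr fun i ↦ Filter.eventually_all.mpr (hev i))
  exact ⟨⟨A, hAopen⟩, hpA, fun i k hik x hx ↦ hA hx i k hik x rfl⟩

/-- A piece of the restriction to an open of the source is a piece. -/
theorem Piece.of_restrict_source {W : X.Opens} {V T : Scheme.{u}} {g : V ⟶ S} {π : T ⟶ V}
    {a : T ⟶ (W : Scheme.{u})} (hP : Piece (W.ι ≫ f) g π a) : Piece f g π (a ≫ W.ι) := by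
  have hw : (a ≫ W.ι) ≫ f = π ≫ g := by rw [Category.assoc]; exact hP.w
  refine ⟨hP.finite, hw, ?_⟩
  haveI := hP.openImmersion
  let m : pullback (W.ι ≫ f) g ⟶ pullback f g :=
    pullback.lift (pullback.fst _ _ ≫ W.ι) (pullback.snd _ _) (by
      rw [Category.assoc]; exact pullback.condition)
  haveI : IsOpenImmersion m := by
    refine MorphismProperty.of_isPullback (P := @IsOpenImmersion) (f' := pullback.fst (W.ι ≫ f) g)
      (f := pullback.fst f g) (g := W.ι) (g' := m) ?_ inferInstance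
    refine (IsPullback.of_right (h₁₁ := m) (v₁₁ := pullback.fst (W.ι ≫ f) g) (v₁₂ := pullback.fst f g)
      (h₂₁ := W.ι) ?_ ?_ (IsPullback.of_hasPullback f g).flip).flip
    · rw [pullback.lift_snd]; exact (IsPullback.of_hasPullback (W.ι ≫ f) g).flip
    · exact pullback.lift_fst _ _ _
  rw [show pullback.lift (a ≫ W.ι) π hw = pullback.lift a π hP.w ≫ m by
    apply pullback.hom_ext
    · rw [Category.assoc, pullback.lift_fst, pullback.lift_fst, pullback.lift_fst_assoc]
    · rw [Category.assoc, pullback.lift_snd, pullback.lift_snd, pullback.lift_snd]]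
  infer_instance

theorem locallyQuasiFinite_of_forall {Y Z : Scheme.{u}} (φ : Y ⟶ Z) [LocallyOfFiniteType φ]
    (h : ∀ y, φ.QuasiFiniteAt y) : LocallyQuasiFinite φ := by
  rw [locallyQuasiFinite_iff_isDiscrete_preimage_singleton]
  intro z
  rw [isDiscrete_iff_discreteTopology]
  refine discreteTopology_iff_isOpen_singleton.mpr ?_
  rintro ⟨y, rfl⟩
  have := (φ.fiberHomeo (φ y)).isOpen_image.mpr
    (Scheme.Hom.quasiFiniteAt_iff_isOpen_singleton_asFiber.mp (h y))
  simpa [Set.image_singleton, Scheme.Hom.asFiber] using this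

theorem isPurelyInseparable_of_subsingleton {T V : Scheme.{u}} (π : T ⟶ V) [IsFinite π]
    {Ω : Type u} [Field Ω] [IsAlgClosed Ω] {p : Spec (CommRingCat.of Ω) ⟶ V} (q : GeomPts π p)
    (hs : Subsingleton (GeomPts π p)) :
    letI := (π.residueFieldMap (pt q.1)).hom.toAlgebra
    IsPurelyInseparable (V.residueField (π (pt q.1))) (T.residueField (pt q.1)) := by
  letI := (π.residueFieldMap (pt q.1)).hom.toAlgebra
  haveI : Module.Finite (V.residueField (π (pt q.1))) (T.residueField (pt q.1)) :=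
    finite_residueFieldMap π _
  apply isPurelyInseparable_of_finSepDegree_eq_one
  rw [← (card_geomPts_over π p (pt q.1) (pt_geomPts q)).2, Nat.card_eq_one_iff_unique]
  exact ⟨⟨fun a b ↦ Subtype.ext (hs.elim _ _)⟩, ⟨⟨q, rfl⟩⟩⟩

theorem isPurelyInseparable_comp_left {T P V : Scheme.{u}} (j : T ⟶ P) (σ : P ⟶ V) (π : T ⟶ V) (hπ : j ≫ σ = π) (t : T)
    (h : letI := (π.residueFieldMap t).hom.toAlgebra
      IsPurelyInseparable (V.residueField (π t)) (T.residueField t)) :
    letI := (σ.residueFieldMap (j t)).hom.toAlgebra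
    IsPurelyInseparable (V.residueField (σ (j t))) (P.residueField (j t)) := by
  subst hπ
  letI := (σ.residueFieldMap (j t)).hom.toAlgebra
  letI := (j.residueFieldMap t).hom.toAlgebra
  letI : Algebra (V.residueField (σ (j t))) (T.residueField t) :=
    ((j ≫ σ).residueFieldMap t).hom.toAlgebra
  haveI : IsScalarTower (V.residueField (σ (j t))) (P.residueField (j t)) (T.residueField t) :=
    IsScalarTower.of_algebraMap_eq' (congrArg CommRingCat.Hom.hom (Scheme.residueFieldMap_comp j σ t))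
  haveI : IsPurelyInseparable (V.residueField (σ (j t))) (T.residueField t) := h
  exact IsPurelyInseparable.tower_bot _ _ (T.residueField t)

/-- Etale locally, the quasi-finite points over `s` lie in disjoint clopen radicial pieces. -/
theorem exists_clopen_parts (f : X ⟶ S) [LocallyOfFiniteType f] [IsSeparated f] (s : S)
    {ι : Type} [Finite ι] (x : ι → X) (hinj : Function.Injective x) (hs : ∀ i, f (x i) = s)
    (hx : ∀ i, f.QuasiFiniteAt (x i)) :
    ∃ (U : Scheme.{u}) (g : U ⟶ S) (u : U), Etale g ∧ g u = s ∧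
      ∃ (J : ι → Type) (_ : ∀ i, Finite (J i)) (V : ∀ i, J i → (pullback f g).Opens)
        (v : ∀ i, J i → ↑(pullback f g)),
        (∀ i j, IsClopen ((V i j : Set ↑(pullback f g)))) ∧
        (∀ i j i' j', ((V i j : Set ↑(pullback f g)) ∩ (V i' j')).Nonempty → i = i' ∧ HEq j j') ∧
        (∀ i j, v i j ∈ V i j ∧ IsFinite ((V i j).ι ≫ pullback.snd f g) ∧
          pullback.snd f g (v i j) = u ∧
          (∀ w : ↑(pullback f g), w ∈ V i j → pullback.snd f g w = u → w = v i j) ∧
          (letI := ((pullback.snd f g).residueFieldMap (v i j)).hom.toAlgebra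
           IsPurelyInseparable ↑(U.residueField (pullback.snd f g (v i j)))
             ↑((pullback f g).residueField (v i j))) ∧
          pullback.fst f g (v i j) = x i) ∧
        (∀ (w : ↑(pullback f g)) (i : ι), pullback.snd f g w = u → pullback.fst f g w = x i →
          ∃ j, w ∈ V i j) := by
  classical
  let W : X.Opens := ⟨_, f.isOpen_quasiFiniteAt⟩
  haveI : LocallyQuasiFinite (W.ι ≫ f) := locallyQuasiFinite_of_forall _ fun w ↦
    Scheme.Hom.quasiFiniteAt_comp_iff_of_isOpenImmersion.mpr w.2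
  obtain ⟨Ω, _, _, p₀, hp₀⟩ := exists_pt s
  let R := {r : GeomPts (W.ι ≫ f) p₀ // ∃ i, pt r.1 = (⟨x i, hx i⟩ : W)}
  haveI : ∀ i, Finite {r : GeomPts (W.ι ≫ f) p₀ // pt r.1 = (⟨x i, hx i⟩ : W)} := fun i ↦
    (card_geomPts_over (W.ι ≫ f) p₀ (⟨x i, hx i⟩ : W) ((hs i).trans hp₀.symm)).1
  haveI : Finite R := by
    refine Finite.of_surjective (fun z : Σ i, {r : GeomPts (W.ι ≫ f) p₀ //
      pt r.1 = (⟨x i, hx i⟩ : W)} ↦ (⟨z.2.1, z.1, z.2.2⟩ : R)) ?_
    rintro ⟨r, i, hr⟩
    exact ⟨⟨i, r, hr⟩, rfl⟩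
  obtain ⟨n, ⟨e⟩⟩ := Finite.exists_equiv_fin R
  obtain ⟨U₀, g₀, _, p, hp, T, π, a, q, hP₀, hsub, hq⟩ :=
    exists_charts p₀ n fun k ↦ (e.symm k).1
  have hP := fun k ↦ (hP₀ k).of_restrict_source
  obtain ⟨O, hpO, hO⟩ := exists_shrink_disjoint hP q hsub fun i k hik h ↦ by
    rw [← Category.assoc, ← Category.assoc, cancel_mono, hq, hq] at h
    exact hik (e.symm.injective (Subtype.ext (Subtype.ext h)))
  let g : (O : Scheme.{u}) ⟶ S := O.ι ≫ g₀
  let p' := IsOpenImmersion.lift O.ι p (range_subset_of_pt_mem p (by simpa using hpO))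
  have hp' : p' ≫ O.ι = p := IsOpenImmersion.lift_fac _ _ _
  have hQ := fun k ↦ (hP k).restrict O
  let j : ∀ k, pullback (π k) O.ι ⟶ pullback f g := fun k ↦
    pullback.lift _ _ (hQ k).w
  haveI : ∀ k, IsOpenImmersion (j k) := fun k ↦ (hQ k).openImmersion
  haveI : ∀ k, IsFinite (pullback.snd (π k) O.ι) := fun k ↦ (hQ k).finite
  let q' : ∀ k, GeomPts (pullback.snd (π k) O.ι) p' := fun k ↦
    ⟨pullback.lift (q k).1 p' ((q k).2.trans hp'.symm), pullback.lift_snd _ _ _⟩
  have hsub' : ∀ k, Subsingleton (GeomPts (pullback.snd (π k) O.ι) p') := fun k ↦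
    haveI := hsub k
    (geomPtsEquiv (IsPullback.of_hasPullback (π k) O.ι) p' p hp').subsingleton
  have hj2 : ∀ k, j k ≫ pullback.snd f g = pullback.snd (π k) O.ι := fun k ↦ pullback.lift_snd _ _ _
  let v : Fin n → ↑(pullback f g) := fun k ↦ j k (pt (q' k).1)
  have hv1 : ∀ k, pullback.fst f g (v k) = W.ι (pt (e.symm k).1.1) := fun k ↦ by
    show (j k ≫ pullback.fst f g) (pt (q' k).1) = _
    rw [pullback.lift_fst, ← pt_comp, pullback.lift_fst_assoc, ← Category.assoc, hq]
    rfl
  have hv2 : ∀ k, pullback.snd f g (v k) = pt p' := fun k ↦ by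
    show (j k ≫ pullback.snd f g) (pt (q' k).1) = _
    rw [hj2, ← pt_comp, (q' k).2]
  let J : ι → Type := fun i ↦ {k : Fin n // pt (e.symm k).1.1 = (⟨x i, hx i⟩ : W)}
  refine ⟨O, g, pt p', inferInstance, ?_, J, inferInstance, fun i k ↦ (j k.1).opensRange,
    fun i k ↦ v k.1, ?_, ?_, ?_, ?_⟩
  · rw [← pt_comp, ← Category.assoc, hp', hp, hp₀]
  · exact fun i k ↦ ⟨(hQ k.1).isClosed_range, (j k.1).opensRange.isOpen⟩
  · rintro i ⟨k, hk⟩ i' ⟨k', hk'⟩ ⟨z, hz, hz'⟩
    obtain rfl : k = k' := by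
      by_contra hne
      obtain ⟨t, rfl⟩ := hz
      obtain ⟨t', ht'⟩ := hz'
      have hT : ∀ k t, towerMap f g₀ O.ι (j k t) =
          (pullback.lift _ _ (hP k).w : T k ⟶ pullback f g₀) (pullback.fst (π k) O.ι t) :=
        fun k t ↦ by
          rw [← Scheme.Hom.comp_apply, ← Scheme.Hom.comp_apply]
          refine congrArg (fun m : pullback (π k) O.ι ⟶ pullback f g₀ ↦ m t) ?_
          apply pullback.hom_ext
          · rw [Category.assoc, Category.assoc, pullback.lift_fst, pullback.lift_fst,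
              pullback.lift_fst]
          · rw [Category.assoc, Category.assoc, pullback.lift_snd, pullback.lift_snd,
              pullback.lift_snd_assoc]
            exact pullback.condition.symm
      refine hO k k' hne _ ?_ ⟨pullback.fst (π k) O.ι t, rfl⟩ ⟨pullback.fst (π k') O.ι t', ?_⟩
      · rw [← Scheme.Hom.comp_apply, pullback.lift_snd]
        rw [← Scheme.Hom.comp_apply, pullback.condition]
        exact (pullback.snd (π k) O.ι t).2
      · rw [← hT, ← hT, ht']
    obtain rfl : i = i' := hinj (congrArg Subtype.val (hk.symm.trans hk'))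
    exact ⟨rfl, HEq.rfl⟩
  · intro i k
    refine ⟨⟨_, rfl⟩, ?_, hv2 k.1, ?_, ?_, ?_⟩
    · rw [← MorphismProperty.cancel_left_of_respectsIso @IsFinite (j k.1).isoOpensRange.hom,
        Scheme.Hom.isoOpensRange_hom_ι_assoc, hj2]
      infer_instance
    · rintro w ⟨t, rfl⟩ ht
      obtain ⟨y, -, hy, -⟩ := fibreIntegral_subsingleton (pullback.snd (π k.1) O.ι) p'
        ⟨hsub' k.1, ⟨q' k.1⟩⟩
      refine congrArg (j k.1) ((hy t ?_).trans (hy _ (pt_geomPts (q' k.1))).symm)
      rw [← hj2]; exact ht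
    · exact isPurelyInseparable_comp_left (j k.1) (pullback.snd f g) _ (hj2 k.1) (pt (q' k.1).1)
        (isPurelyInseparable_of_subsingleton _ (q' k.1) (hsub' k.1))
    · rw [hv1, k.2]
      rfl
  · intro w i hwu hwx
    haveI : LocallyQuasiFinite (pullback.snd (W.ι ≫ f) g) :=
      MorphismProperty.pullback_snd _ _ ‹LocallyQuasiFinite (W.ι ≫ f)›
    haveI : LocallyOfFiniteType (pullback.snd (W.ι ≫ f) g) :=
      MorphismProperty.pullback_snd _ _ inferInstance
    let m : pullback (W.ι ≫ f) g ⟶ pullback f g :=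
      pullback.lift (pullback.fst _ _ ≫ W.ι) (pullback.snd _ _) (by
        rw [Category.assoc]; exact pullback.condition)
    obtain ⟨w', rfl⟩ : ∃ w', m w' = w := by
      let ξ := (pullback f g).fromSpecResidueField w
      have hr : Set.range (ξ ≫ pullback.fst f g) ⊆ Set.range W.ι := by
        rintro _ ⟨t, rfl⟩
        rw [Scheme.Opens.range_ι, Scheme.Hom.comp_apply, Scheme.fromSpecResidueField_apply, hwx]
        exact hx i
      let ℓ : Spec ((pullback f g).residueField w) ⟶ pullback (W.ι ≫ f) g :=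
        pullback.lift (IsOpenImmersion.lift W.ι _ hr) (ξ ≫ pullback.snd f g) (by
          rw [IsOpenImmersion.lift_fac_assoc, Category.assoc, pullback.condition, Category.assoc])
      obtain ⟨t⟩ : Nonempty ↥(Spec ((pullback f g).residueField w)) := inferInstance
      refine ⟨ℓ t, ?_⟩
      rw [← Scheme.Hom.comp_apply, show ℓ ≫ m = ξ by
        apply pullback.hom_ext
        · rw [Category.assoc, pullback.lift_fst, pullback.lift_fst_assoc, IsOpenImmersion.lift_fac]
        · rw [Category.assoc, pullback.lift_snd, pullback.lift_snd]]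
      exact Scheme.fromSpecResidueField_apply _ t
    have hw'u : pullback.snd (W.ι ≫ f) g w' = pt p' := by
      rw [← hwu, ← Scheme.Hom.comp_apply m, pullback.lift_snd]
    obtain ⟨⟨⟨c, hc⟩, hcw⟩⟩ :
        Nonempty {c : GeomPts (pullback.snd (W.ι ≫ f) g) p' // pt c.1 = w'} := by
      refine (Nat.card_ne_zero.mp ?_).1
      rw [(card_geomPts_over (pullback.snd (W.ι ≫ f) g) p' w' hw'u).2]
      letI := ((pullback.snd (W.ι ≫ f) g).residueFieldMap w').hom.toAlgebra
      haveI : Module.Finite ((O : Scheme.{u}).residueField (pullback.snd (W.ι ≫ f) g w'))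
          ((pullback (W.ι ≫ f) g).residueField w') := finite_residueFieldMap _ w'
      exact NeZero.ne _
    have hc1 : pt (c ≫ pullback.fst (W.ι ≫ f) g) = (⟨x i, hx i⟩ : W) := by
      apply Subtype.ext
      rw [pt_comp, hcw]
      show _ = x i
      rw [← Scheme.Hom.comp_apply m, pullback.lift_fst] at hwx
      exact hwx
    let r : R := ⟨⟨c ≫ pullback.fst (W.ι ≫ f) g, by
      rw [Category.assoc, pullback.condition, ← Category.assoc, hc, ← Category.assoc, hp', hp]⟩,
      i, hc1⟩
    refine ⟨⟨e r, by rw [Equiv.symm_apply_apply]; exact hc1⟩, pt (q' (e r)).1, ?_⟩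
    rw [← hcw, ← pt_comp, ← pt_comp]
    congr 1
    apply pullback.hom_ext
    · rw [Category.assoc, Category.assoc, pullback.lift_fst, pullback.lift_fst,
        pullback.lift_fst_assoc, ← Category.assoc (q (e r)).1, hq, Equiv.symm_apply_apply,
        Category.assoc]
    · rw [Category.assoc, Category.assoc, hj2, (q' (e r)).2]
      show _ = c ≫ m ≫ _
      rw [pullback.lift_snd, hc]

end GrothLib.Weight
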