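import Groth.Agent.Lib.Weight.Weighting

/-! # Composition of weightings -/

universe u

open CategoryTheory Limits AlgebraicGeometry Topology

namespace GrothLib.Weight

open MoreMor

theorem fibreIntegral_const_mul {U V : Scheme.{u}} (π : U ⟶ V) (w : U → ℤ) (c : ℤ) (v : V) :
    fibreIntegral π (fun u ↦ w u * c) v = fibreIntegral π w v * c := by
  unfold fibreIntegral
  rw [finsum_mul]
  exact finsum_congr fun u ↦ by ring

theorem fibreIntegral_congr {U V : Scheme.{u}} (π : U ⟶ V) {w w' : U → ℤ} (v : V)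
    (h : ∀ u, π u = v → w u = w' u) : fibreIntegral π w v = fibreIntegral π w' v :=
  finsum_congr fun u ↦ by rw [h u.1 u.2]

variable {X Y Z : Scheme.{u}} {f : X ⟶ Y} {g : Y ⟶ Z}

/-- A map of pieces over a common base is a piece of `f` over the piece of `g`. -/
theorem Piece.factor {V P W : Scheme.{u}} {h : V ⟶ Z} {π : P ⟶ V} {a : P ⟶ X}
    (hP : Piece (f ≫ g) h π a) {ρ : W ⟶ V} {b : W ⟶ Y} (hW : Piece g h ρ b) (d : P ⟶ W)
    (hdρ : d ≫ ρ = π) (hdb : d ≫ b = a ≫ f) : Piece f b d a := by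
  haveI := hP.finite
  haveI := hW.finite
  haveI := hP.openImmersion
  haveI := hW.openImmersion
  haveI : IsFinite (d ≫ ρ) := hdρ ▸ hP.finite
  refine ⟨IsFinite.of_comp d ρ, hdb.symm, ?_⟩
  let ℓ : pullback f b ⟶ pullback (f ≫ g) h :=
    pullback.lift (pullback.fst f b) (pullback.snd f b ≫ ρ) (by
      rw [← Category.assoc, pullback.condition, Category.assoc, Category.assoc, hW.w])
  haveI : Mono ℓ := by
    refine ⟨fun {S} c c' e ↦ ?_⟩
    have e₁ := congrArg (fun z ↦ z ≫ pullback.fst (f ≫ g) h) e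
    have e₂ := congrArg (fun z ↦ z ≫ pullback.snd (f ≫ g) h) e
    simp only [ℓ, Category.assoc, pullback.lift_fst, pullback.lift_snd] at e₁ e₂
    apply pullback.hom_ext e₁
    rw [← cancel_mono (pullback.lift b ρ hW.w : W ⟶ pullback g h)]
    apply pullback.hom_ext
    · simp only [Category.assoc, pullback.lift_fst]
      rw [← pullback.condition, ← Category.assoc, e₁, Category.assoc]
    · simpa only [Category.assoc, pullback.lift_snd] using e₂
  have : (pullback.lift a d hdb.symm : P ⟶ pullback f b) ≫ ℓ = pullback.lift a π hP.w := by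
    apply pullback.hom_ext
    · rw [Category.assoc, pullback.lift_fst, pullback.lift_fst, pullback.lift_fst]
    · rw [Category.assoc, pullback.lift_snd, pullback.lift_snd, pullback.lift_snd_assoc]
      exact hdρ
  haveI : IsOpenImmersion ((pullback.lift a d hdb.symm : P ⟶ pullback f b) ≫ ℓ) :=
    this ▸ hP.openImmersion
  exact isOpenImmersion_of_comp_mono _ ℓ

/-- The integral of a composite weighting over a radicial piece is constant near its point. -/
theorem eventually_comp [LocallyQuasiFinite f] [LocallyOfFiniteType f] [LocallyQuasiFinite g]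
    [LocallyOfFiniteType g] {wf : X → ℤ} {wg : Y → ℤ} (hf : IsWeighting f wf)
    (hg : IsWeighting g wg) {V T : Scheme.{u}} {h : V ⟶ Z} {π : T ⟶ V} {a : T ⟶ X}
    (hP : Piece (f ≫ g) h π a) {Ω : Type u} [Field Ω] [IsAlgClosed Ω]
    {p : Spec (CommRingCat.of Ω) ⟶ V} (q : GeomPts π p) (hs : Subsingleton (GeomPts π p)) :
    ∀ᶠ v in 𝓝 (pt p), fibreIntegral π ((fun x ↦ wf x * wg (f x)) ∘ ⇑a) v =
      wf (a (pt q.1)) * wg (f (a (pt q.1))) := by
  haveI := hP.finite
  obtain ⟨U, k, _, pU, hpU, S, ρ, b, qS, hS, hSs, hqS⟩ := exists_chart (f := g) (p ≫ h)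
    (⟨q.1 ≫ a ≫ f, by rw [Category.assoc, Category.assoc, hP.w, ← Category.assoc, q.2]⟩ :
      GeomPts g (p ≫ h))
  haveI := hS.finite
  let e : pullback h k ⟶ V := pullback.fst h k
  let c : pullback h k ⟶ U := pullback.snd h k
  let p₃ : Spec (CommRingCat.of Ω) ⟶ pullback h k := pullback.lift p pU hpU.symm
  have hT₃ := hP.baseChange (IsPullback.of_hasPullback π e)
  have hS₃' := hS.baseChange (IsPullback.of_hasPullback ρ c)
  have hS₃ : Piece g (e ≫ h) (pullback.snd ρ c) (pullback.fst ρ c ≫ b) := by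
    rwa [show c ≫ k = e ≫ h from pullback.condition.symm] at hS₃'
  haveI := hT₃.finite
  haveI := hS₃.finite
  let qT : GeomPts (pullback.snd π e) p₃ :=
    ⟨pullback.lift q.1 p₃ (q.2.trans (pullback.lift_fst _ _ _).symm), pullback.lift_snd _ _ _⟩
  let qS₃ : GeomPts (pullback.snd ρ c) p₃ :=
    ⟨pullback.lift qS.1 p₃ (qS.2.trans (pullback.lift_snd _ _ _).symm), pullback.lift_snd _ _ _⟩
  have hTs : Subsingleton (GeomPts (pullback.snd π e) p₃) :=
    (geomPtsEquiv (IsPullback.of_hasPullback π e) p₃ p (pullback.lift_fst _ _ _)).subsingleton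
  have hSs₃ : Subsingleton (GeomPts (pullback.snd ρ c) p₃) :=
    (geomPtsEquiv (IsPullback.of_hasPullback ρ c) p₃ pU (pullback.lift_snd _ _ _)).subsingleton
  haveI := hS₃.openImmersion
  set iS := (pullback.lift (pullback.fst ρ c ≫ b) (pullback.snd ρ c) hS₃.w :
    pullback ρ c ⟶ pullback g (e ≫ h))
  let m : pullback π e ⟶ pullback g (e ≫ h) :=
    pullback.lift ((pullback.fst π e ≫ a) ≫ f) (pullback.snd π e) (by rw [Category.assoc, hT₃.w])
  have hcommon : qT.1 ≫ m = qS₃.1 ≫ iS := by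
    apply pullback.hom_ext
    · rw [Category.assoc, Category.assoc, pullback.lift_fst, pullback.lift_fst]
      simp only [qT, qS₃, Category.assoc, pullback.lift_fst_assoc]
      exact hqS.symm
    · simp only [m, iS, Category.assoc, pullback.lift_snd, qT, qS₃]
  obtain ⟨O₁, hO₁, hO₁'⟩ := exists_preimage_subset (pullback.snd π e)
    (pullback.snd π e).isClosedMap (pt p₃) (m ⁻¹' Set.range iS)
    (iS.isOpenEmbedding.isOpen_range.preimage m.continuous)
    (mem_of_subsingleton_fibre _ qT hTs _ ⟨pt qS₃.1, (congrArg pt hcommon).symm⟩)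
  -- work over `O₁`
  let T₄ := pullback (pullback.snd π e) O₁.ι
  let π₄ : T₄ ⟶ O₁ := pullback.snd _ _
  let t₄ : T₄ ⟶ pullback π e := pullback.fst _ _
  let S₄ := pullback (pullback.snd ρ c) O₁.ι
  let ρ₄ : S₄ ⟶ O₁ := pullback.snd _ _
  have hT₄ := hT₃.restrict O₁
  have hS₄ := hS₃.restrict O₁
  haveI := hT₄.finite
  haveI := hS₄.finite
  have hr : Set.range (t₄ ≫ m) ⊆ Set.range iS := by
    rintro _ ⟨t, rfl⟩
    refine hO₁' (t₄ t) ?_
    show (pullback.fst (pullback.snd π e) O₁.ι ≫ pullback.snd π e) t ∈ O₁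
    rw [pullback.condition]
    exact (pullback.snd (pullback.snd π e) O₁.ι t).2
  let d₀ : T₄ ⟶ pullback ρ c := IsOpenImmersion.lift iS (t₄ ≫ m) hr
  have hd₀ : d₀ ≫ iS = t₄ ≫ m := IsOpenImmersion.lift_fac _ _ _
  have hd₀' : d₀ ≫ pullback.snd ρ c = π₄ ≫ O₁.ι := by
    have := congrArg (fun z ↦ z ≫ pullback.snd g (e ≫ h)) hd₀
    simp only [iS, m, Category.assoc, pullback.lift_snd] at this
    rw [this]; exact pullback.condition
  let d : T₄ ⟶ S₄ := pullback.lift d₀ π₄ hd₀'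
  have hdb : d ≫ pullback.fst (pullback.snd ρ c) O₁.ι ≫ pullback.fst ρ c ≫ b =
      (t₄ ≫ pullback.fst π e ≫ a) ≫ f := by
    rw [pullback.lift_fst_assoc]
    have := congrArg (fun z ↦ z ≫ pullback.fst g (e ≫ h)) hd₀
    simp only [iS, m, Category.assoc, pullback.lift_fst] at this
    simpa only [Category.assoc] using this
  have hd := hT₄.factor hS₄ d (pullback.lift_snd _ _ _) hdb
  haveI := hd.finite
  have hlift : Set.range p₃ ⊆ Set.range O₁.ι :=
    range_subset_of_pt_mem p₃ (by rw [Scheme.Opens.range_ι]; exact hO₁)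
  let p₄ := IsOpenImmersion.lift O₁.ι p₃ hlift
  let qT₄ : GeomPts π₄ p₄ := ⟨pullback.lift qT.1 p₄
    (qT.2.trans (IsOpenImmersion.lift_fac _ _ _).symm), pullback.lift_snd _ _ _⟩
  let zW : GeomPts ρ₄ p₄ := ⟨qT₄.1 ≫ d, by
    rw [Category.assoc, pullback.lift_snd]; exact qT₄.2⟩
  have hT₄s : Subsingleton (GeomPts π₄ p₄) :=
    (geomPtsEquiv (IsPullback.of_hasPullback (pullback.snd π e) O₁.ι) p₄ p₃
      (IsOpenImmersion.lift_fac _ _ _)).subsingleton
  have hS₄s : Subsingleton (GeomPts ρ₄ p₄) :=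
    (geomPtsEquiv (IsPullback.of_hasPullback (pullback.snd ρ c) O₁.ι) p₄ p₃
      (IsOpenImmersion.lift_fac _ _ _)).subsingleton
  let qd : GeomPts d zW.1 := ⟨qT₄.1, rfl⟩
  have hds : Subsingleton (GeomPts d zW.1) := ⟨fun x y ↦
    Subtype.ext (congrArg (fun z : GeomPts π₄ p₄ ↦ z.1) (Subsingleton.elim (α := GeomPts π₄ p₄)
      ⟨x.1, by rw [show π₄ = d ≫ ρ₄ from (pullback.lift_snd _ _ _).symm, ← Category.assoc, x.2, zW.2]⟩
      ⟨y.1, by rw [show π₄ = d ≫ ρ₄ from (pullback.lift_snd _ _ _).symm, ← Category.assoc, y.2, zW.2]⟩))⟩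
  have hφ := eventually_single hf hd qd hds
  obtain ⟨A, hA, hAopen, hzA⟩ := mem_nhds_iff.mp hφ
  obtain ⟨O₂, hO₂, hO₂'⟩ := exists_preimage_subset ρ₄ ρ₄.isClosedMap (pt p₄) A hAopen
    (mem_of_subsingleton_fibre ρ₄ zW hS₄s A hzA)
  have hgev := eventually_single hg hS₄ zW hS₄s
  have hxq : (t₄ ≫ pullback.fst π e ≫ a) (pt qT₄.1) = a (pt q.1) := by
    show pt (pullback.lift _ _ _ ≫ t₄ ≫ pullback.fst π e ≫ a) = pt (q.1 ≫ a)
    rw [pullback.lift_fst_assoc, pullback.lift_fst_assoc]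
  have hyq : wg ((pullback.fst (pullback.snd ρ c) O₁.ι ≫ pullback.fst ρ c ≫ b) (pt zW.1)) =
      wg (f (a (pt q.1))) := by
    rw [← hxq]
    show wg (pt ((qT₄.1 ≫ d) ≫ pullback.fst (pullback.snd ρ c) O₁.ι ≫ pullback.fst ρ c ≫ b)) = _
    rw [Category.assoc, hdb]
    rfl
  have hmain : ∀ᶠ z in 𝓝 (pt p₄),
      fibreIntegral π₄ ((fun x ↦ wf x * wg (f x)) ∘ ⇑(t₄ ≫ pullback.fst π e ≫ a)) z =
        wf (a (pt q.1)) * wg (f (a (pt q.1))) := by
    filter_upwards [hgev, O₂.isOpen.mem_nhds hO₂] with z hz hz₂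
    have hfun : (fun x ↦ wf x * wg (f x)) ∘ ⇑(t₄ ≫ pullback.fst π e ≫ a) = fun s ↦
        (wf ∘ ⇑(t₄ ≫ pullback.fst π e ≫ a)) s *
          (wg ∘ ⇑(pullback.fst (pullback.snd ρ c) O₁.ι ≫ pullback.fst ρ c ≫ b)) (d s) := by
      funext s
      show wf _ * wg (f ((t₄ ≫ pullback.fst π e ≫ a) s)) = wf _ *
        wg ((d ≫ pullback.fst (pullback.snd ρ c) O₁.ι ≫ pullback.fst ρ c ≫ b) s)
      rw [hdb]
      rfl
    rw [show π₄ = d ≫ ρ₄ from (pullback.lift_snd _ _ _).symm, hfun,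
      fibreIntegral_comp d ρ₄ (fun y ↦ d.finite_preimage_singleton y) z
        (ρ₄.finite_preimage_singleton z)]
    rw [fibreIntegral_congr ρ₄ z (w' := fun y ↦
      (wg ∘ ⇑(pullback.fst (pullback.snd ρ c) O₁.ι ≫ pullback.fst ρ c ≫ b)) y * wf (a (pt q.1)))
      (fun y hy ↦ by
        congr 1
        exact (hA (hO₂' y (hy ▸ hz₂))).trans (congrArg wf hxq))]
    rw [fibreIntegral_const_mul, hz, mul_comm]
    congr 1
  have := eventually_eq_of_lift (O₁.ι ≫ e) (Scheme.Hom.isOpenMap _) (pt p₄)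
    (fibreIntegral π ((fun x ↦ wf x * wg (f x)) ∘ ⇑a)) _ (by
      filter_upwards [hmain] with z hz
      rw [Scheme.Hom.comp_apply,
        ← fibreIntegral_isPullback (IsPullback.of_hasPullback π e) _ (O₁.ι z),
        ← fibreIntegral_isPullback (IsPullback.of_hasPullback (pullback.snd π e) O₁.ι) _ z]
      exact hz)
  rwa [show (O₁.ι ≫ e) (pt p₄) = pt p by
    show pt (p₄ ≫ O₁.ι ≫ e) = pt p
    rw [IsOpenImmersion.lift_fac_assoc, pullback.lift_fst]] at this

/-- Weightings compose. -/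
theorem isWeighting_comp [LocallyQuasiFinite f] [LocallyOfFiniteType f] [LocallyQuasiFinite g]
    [LocallyOfFiniteType g] {wf : X → ℤ} {wg : Y → ℤ} (hf : IsWeighting f wf)
    (hg : IsWeighting g wg) : IsWeighting (f ≫ g) (fun x ↦ wf x * wg (f x)) := by
  intro V h _ U hU
  haveI := hU
  let π := U.ι ≫ pullback.snd (f ≫ g) h
  let a := U.ι ≫ pullback.fst (f ≫ g) h
  let w : X → ℤ := fun x ↦ wf x * wg (f x)
  have hP : Piece (f ≫ g) h π a := Piece.ofOpens h U hU
  show IsLocallyConstant (fibreIntegral π (w ∘ ⇑a))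
  rw [IsLocallyConstant.iff_eventually_eq]
  intro v
  obtain ⟨Ω, _, _, p, rfl⟩ := exists_pt v
  haveI : IsFinite π := hU
  obtain ⟨V', k, _, p', hp', n, P, j, hj, hjfin, hjpt, hcov⟩ := exists_split π p
  have hP' := hP.baseChange (IsPullback.of_hasPullback π k)
  haveI := hP'.finite
  have hsum : ∀ z, fibreIntegral π (w ∘ ⇑a) (k z) =
      ∑ i, fibreIntegral (j i ≫ pullback.snd π k) (w ∘ ⇑(j i ≫ pullback.fst π k ≫ a)) z := fun z ↦ by
    rw [← fibreIntegral_isPullback (IsPullback.of_hasPullback π k) (w ∘ ⇑a) z,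
      fibreIntegral_split (pullback.snd π k) P j z
        ((pullback.snd π k).finite_preimage_singleton z) (fun x _ ↦ hcov x)]
    rfl
  have hev : ∀ i, ∀ᶠ z in 𝓝 (pt p'),
      fibreIntegral (j i ≫ pullback.snd π k) (w ∘ ⇑(j i ≫ pullback.fst π k ≫ a)) z =
        fibreIntegral (j i ≫ pullback.snd π k) (w ∘ ⇑(j i ≫ pullback.fst π k ≫ a)) (pt p') := by
    intro i
    haveI := hj i
    obtain ⟨hs, ⟨q⟩⟩ := hjpt i
    have h1 := eventually_comp hf hg (hP'.open (j i) (hjfin i)) q hs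
    exact h1.mono fun z hz ↦ hz.trans h1.self_of_nhds.symm
  have := eventually_eq_of_lift k k.isOpenMap (pt p') (fibreIntegral π (w ∘ ⇑a))
    (fibreIntegral π (w ∘ ⇑a) (k (pt p'))) (by
      filter_upwards [Filter.eventually_all.mpr hev] with z hz
      rw [hsum, hsum]
      exact Finset.sum_congr rfl fun i _ ↦ hz i)
  rwa [← pt_comp, hp'] at this

end GrothLib.Weight
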